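/-
Suzuki groups, part 1: the twisting map, the Suzuki-Tits ovoid, the standard elements and their action.
-/
import Cfsg.Prelude.Def_LieExceptional

set_option autoImplicit false

namespace Cfsg.Agent.SZ

open Cfsg Matrix
open scoped Pointwise

variable {F : Type*} [Field F] [Fintype F] {m : ℕ}

theorem charTwo (hF : Fintype.card F = 2 ^ (2 * m + 1)) : CharP F 2 := by
  haveI : Fact (Nat.Prime 2) := ⟨Nat.prime_two⟩
  exact charP_of_card_eq_prime_pow (f := 2 * m + 1) hF

theorem two_zero (hF : Fintype.card F = 2 ^ (2 * m + 1)) : (2 : F) = 0 := by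
  haveI := charTwo hF
  exact CharTwo.two_eq_zero

theorem add_self (hF : Fintype.card F = 2 ^ (2 * m + 1)) (x : F) : x + x = 0 := by
  linear_combination x * two_zero hF

theorem neg_eq (hF : Fintype.card F = 2 ^ (2 * m + 1)) (x : F) : -x = x :=
  neg_eq_of_add_eq_zero_left (add_self hF x)

/-- The twisting map `x ↦ x^(2^(m+1))`. -/
def th (m : ℕ) (x : F) : F := x ^ 2 ^ (m + 1)

omit [Fintype F] in
@[simp] theorem th_zero : th m (0 : F) = 0 := zero_pow (by positivity)

omit [Fintype F] in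
@[simp] theorem th_one : th m (1 : F) = 1 := one_pow _

omit [Fintype F] in
theorem th_mul (x y : F) : th m (x * y) = th m x * th m y := mul_pow x y _

omit [Fintype F] in
theorem th_pow (x : F) (n : ℕ) : th m (x ^ n) = th m x ^ n := by
  rw [th, th, ← pow_mul, ← pow_mul, mul_comm]

omit [Fintype F] in
theorem th_inv (x : F) : th m x⁻¹ = (th m x)⁻¹ := inv_pow x _

omit [Fintype F] in
theorem th_div (x y : F) : th m (x / y) = th m x / th m y := div_pow x y _

omit [Fintype F] in
theorem th_eq_zero {x : F} : th m x = 0 ↔ x = 0 := pow_eq_zero_iff (by positivity)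

theorem th_add (hF : Fintype.card F = 2 ^ (2 * m + 1)) (x y : F) :
    th m (x + y) = th m x + th m y := by
  haveI := charTwo hF
  haveI : Fact (Nat.Prime 2) := ⟨Nat.prime_two⟩
  exact add_pow_char_pow x y 2 (m + 1)

theorem th_th (hF : Fintype.card F = 2 ^ (2 * m + 1)) (x : F) : th m (th m x) = x ^ 2 := by
  rw [th, th, ← pow_mul, ← pow_add, show m + 1 + (m + 1) = (2 * m + 1) + 1 by omega, pow_succ,
    pow_mul, ← hF, FiniteField.pow_card]

theorem sq_inj (hF : Fintype.card F = 2 ^ (2 * m + 1)) {x y : F} (h : x ^ 2 = y ^ 2) : x = y := by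
  haveI := charTwo hF
  exact CharTwo.sq_injective h

theorem th_inj (hF : Fintype.card F = 2 ^ (2 * m + 1)) {x y : F} (h : th m x = th m y) : x = y := by
  apply sq_inj hF
  rw [← th_th hF, h, th_th hF]

theorem th_eq_one (hF : Fintype.card F = 2 ^ (2 * m + 1)) {x : F} : th m x = 1 ↔ x = 1 :=
  ⟨fun h => th_inj hF (h.trans (th_one (F := F) (m := m)).symm), fun h => by rw [h, th_one]⟩

theorem th_eq_self (hF : Fintype.card F = 2 ^ (2 * m + 1)) {x : F} (h : th m x = x) (hx : x ≠ 0) :
    x = 1 := by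
  have := th_th hF x
  rw [h, h] at this
  exact (mul_left_cancel₀ hx (by rw [mul_one, ← sq, ← this])).symm

theorem th_eq_sq (hF : Fintype.card F = 2 ^ (2 * m + 1)) {x : F} (h : th m x = x ^ 2) (hx : x ≠ 0) :
    x = 1 := by
  refine th_eq_self hF ?_ hx
  apply sq_inj hF
  have h1 := th_th hF x
  rw [h, th_pow, h] at h1
  rw [h]
  exact h1

/-- The ovoid parameter. -/
def zf (m : ℕ) (x y : F) : F := x * y + th m x * x ^ 2 + th m y

/-- The affine ovoid vectors. -/
def pt (m : ℕ) (x y : F) : Fin 4 → F := ![zf m x y, y, x, 1]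

/-- The vector of the point at infinity. -/
def pInfV : Fin 4 → F := ![1, 0, 0, 0]

omit [Fintype F] in
theorem pInfV_ne : (pInfV : Fin 4 → F) ≠ 0 := fun h => one_ne_zero (α := F) (congrFun h 0)

omit [Fintype F] in
theorem pt_ne (m : ℕ) (x y : F) : pt m x y ≠ 0 := fun h => one_ne_zero (α := F) (congrFun h 3)

/-- The affine ovoid points. -/
def aff (m : ℕ) (x y : F) : Projectivization F (Fin 4 → F) := Projectivization.mk F (pt m x y) (pt_ne m x y)

omit [Fintype F] in
theorem mem_ovoid_iff {p : Projectivization F (Fin 4 → F)} :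
    p ∈ suzukiOvoid F m ↔ p = suzukiPointInfinity F ∨ ∃ x y, p = aff m x y := by
  have hz : ∀ x y : F, x * y + x ^ (2 ^ (m + 1) + 2) + y ^ (2 ^ (m + 1)) = zf m x y := fun x y => by
    rw [zf, th, th, pow_add]
  constructor
  · rintro ⟨v, hv, rfl, rfl | ⟨x, y, rfl⟩⟩
    · exact Or.inl rfl
    · refine Or.inr ⟨x, y, ?_⟩
      simp only [aff, pt, hz]
  · rintro (rfl | ⟨x, y, rfl⟩)
    · exact ⟨_, _, rfl, Or.inl rfl⟩
    · exact ⟨_, pt_ne m x y, rfl, Or.inr ⟨x, y, by rw [hz, pt]⟩⟩

omit [Fintype F] in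
theorem inf_mem : suzukiPointInfinity F ∈ suzukiOvoid F m := mem_ovoid_iff.2 (Or.inl rfl)

omit [Fintype F] in
theorem aff_mem (x y : F) : aff m x y ∈ suzukiOvoid F m := mem_ovoid_iff.2 (Or.inr ⟨x, y, rfl⟩)

omit [Fintype F] in
theorem aff_ne_inf (x y : F) : aff m x y ≠ suzukiPointInfinity F := by
  intro h
  obtain ⟨a, ha⟩ := (Projectivization.mk_eq_mk_iff' F _ _ _ _).1 h
  have := congrFun ha 3
  simp [pt] at this

omit [Fintype F] in
theorem aff_inj {x y x' y' : F} (h : aff m x y = aff m x' y') : x = x' ∧ y = y' := by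
  obtain ⟨a, ha⟩ := (Projectivization.mk_eq_mk_iff' F _ _ _ _).1 h
  have h3 := congrFun ha 3
  have h2 := congrFun ha 2
  have h1 := congrFun ha 1
  simp [pt] at h1 h2 h3
  subst h3
  exact ⟨by simpa using h2.symm, by simpa using h1.symm⟩

omit [Fintype F] in
theorem zero_eq_aff : suzukiPointZero F = aff m (0 : F) 0 := by
  simp only [suzukiPointZero, aff, pt, zf]
  simp

omit [Fintype F] in
theorem zero_mem : suzukiPointZero F ∈ suzukiOvoid F m := by
  rw [zero_eq_aff (m := m)]; exact aff_mem 0 0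

omit [Fintype F] in
/-- Parametrisation of the ovoid. -/
theorem ovoid_param_bijective :
    Function.Bijective (fun o : Option (F × F) =>
      (o.elim (⟨suzukiPointInfinity F, inf_mem⟩ : suzukiOvoid F m)
        fun xy => ⟨aff m xy.1 xy.2, aff_mem _ _⟩)) := by
  constructor
  · rintro (_ | ⟨x, y⟩) (_ | ⟨x', y'⟩) h <;> simp only [Option.elim, Subtype.mk.injEq] at h
    · rfl
    · exact absurd h.symm (aff_ne_inf _ _)
    · exact absurd h (aff_ne_inf _ _)
    · obtain ⟨rfl, rfl⟩ := aff_inj h; rfl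
  · rintro ⟨p, hp⟩
    rcases mem_ovoid_iff.1 hp with rfl | ⟨x, y, rfl⟩
    exacts [⟨none, rfl⟩, ⟨some (x, y), rfl⟩]

theorem card_ovoid (m : ℕ) : Nat.card (suzukiOvoid F m) = Fintype.card F ^ 2 + 1 := by
  rw [← Nat.card_eq_of_bijective _ (ovoid_param_bijective (F := F) (m := m))]
  simp [Nat.card_eq_fintype_card, pow_two]

/-- The key identity of the ovoid. -/
theorem zf_key (hF : Fintype.card F = 2 ^ (2 * m + 1)) (x y : F) :
    th m (zf m x y) * zf m x y =
      th m (zf m x y) * (x * y) + th m y * y ^ 2 + th m x * zf m x y ^ 2 := by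
  rw [show th m (zf m x y) = th m x * th m y + x ^ 2 * th m x ^ 2 + y ^ 2 by
    rw [zf, th_add hF, th_add hF, th_mul, th_mul, th_th hF, th_th hF, th_pow]]
  simp only [zf]
  linear_combination -((th m x) ^ 2 * x ^ 3 * y + th m x * th m y * x * y) * two_zero hF

theorem zf_eq_zero (hF : Fintype.card F = 2 ^ (2 * m + 1)) {x y : F} (h : zf m x y = 0) :
    x = 0 ∧ y = 0 := by
  have hk := zf_key hF x y
  rw [h] at hk
  simp at hk
  obtain rfl : y = 0 := by
    rcases hk with h' | h'
    exacts [th_eq_zero.1 h', h']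
  refine ⟨?_, rfl⟩
  simp [zf] at h
  rcases h with h' | h'
  exacts [th_eq_zero.1 h', h']

/-! ### Standard elements -/

/-- Matrix of the translation with parameters `a`, `b`. -/
def tMat (m : ℕ) (a b : F) : Matrix (Fin 4) (Fin 4) F :=
  !![1, a, b + th m a * a, zf m a b; 0, 1, th m a, b; 0, 0, 1, a; 0, 0, 0, 1]

omit [Fintype F] in
theorem tMat_det (a b : F) : (tMat m a b).det = 1 := by
  simp [tMat, Matrix.det_succ_row_zero, Fin.sum_univ_succ, Fin.succAbove]

/-- The translations. -/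
def T (m : ℕ) (a b : F) : SpecialLinearGroup (Fin 4) F := ⟨tMat m a b, tMat_det a b⟩

/-- The antidiagonal matrix. -/
def wMat : Matrix (Fin 4) (Fin 4) F := !![0, 0, 0, 1; 0, 0, 1, 0; 0, 1, 0, 0; 1, 0, 0, 0]

omit [Fintype F] in
theorem wMat_det : (wMat : Matrix (Fin 4) (Fin 4) F).det = 1 := by
  simp [wMat, Matrix.det_succ_row_zero, Fin.sum_univ_succ, Fin.succAbove]
  norm_num

omit [Fintype F] in
theorem val_mul (A B : SpecialLinearGroup (Fin 4) F) : (A * B).1 = A.1 * B.1 := rfl

omit [Fintype F] in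
theorem val_one : (1 : SpecialLinearGroup (Fin 4) F).1 = 1 := rfl

omit [Fintype F] in
theorem sl_ext {A B : SpecialLinearGroup (Fin 4) F} (h : A.1 = B.1) : A = B := Subtype.ext h

/-- The involution interchanging the two base points. -/
def W : SpecialLinearGroup (Fin 4) F := ⟨wMat, wMat_det⟩

/-- Diagonal of a torus element. -/
def hVec (m : ℕ) (u : Fˣ) : Fin 4 → F :=
  ![(u : F), th m (u : F) / u, (u : F) / th m (u : F), (u : F)⁻¹]

omit [Fintype F] in
theorem hMat_det (u : Fˣ) : (Matrix.diagonal (hVec m u)).det = 1 := by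
  have h1 : (u : F) ≠ 0 := u.ne_zero
  have h2 : th m (u : F) ≠ 0 := fun h => h1 (th_eq_zero.1 h)
  simp [hVec, Fin.prod_univ_four]
  field_simp

/-- The torus. -/
def H (m : ℕ) (u : Fˣ) : SpecialLinearGroup (Fin 4) F := ⟨Matrix.diagonal (hVec m u), hMat_det u⟩

omit [Fintype F] in
theorem smul_mk' (g : SpecialLinearGroup (Fin 4) F) (v : Fin 4 → F) (hv : v ≠ 0)
    (hv' : g.1 *ᵥ v ≠ 0) :
    g • Projectivization.mk F v hv = Projectivization.mk F (g.1 *ᵥ v) hv' := rfl

omit [Fintype F] in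
theorem mulVec_ne (g : SpecialLinearGroup (Fin 4) F) {v : Fin 4 → F} (hv : v ≠ 0) :
    g.1 *ᵥ v ≠ 0 := by
  intro h
  apply hv
  have := congrArg ((g⁻¹).1 *ᵥ ·) h
  simp only [Matrix.mulVec_mulVec, Matrix.mulVec_zero] at this
  rwa [← val_mul, inv_mul_cancel, val_one, Matrix.one_mulVec] at this

theorem T_pt (hF : Fintype.card F = 2 ^ (2 * m + 1)) (a b x y : F) :
    (T m a b).1 *ᵥ pt m x y = pt m (x + a) (y + b + th m a * x) := by
  have h2 := two_zero hF
  funext i
  fin_cases i <;> simp [T, tMat, pt, Matrix.mulVec, dotProduct, Fin.sum_univ_four]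
  · simp only [zf, th_add hF, th_mul, th_th hF]
    linear_combination -(th m a * x ^ 2 + a ^ 2 * th m x + th m x * x * a +
      th m a * x * a) * h2
  all_goals ring

omit [Fintype F] in
theorem T_inf (a b : F) : (T m a b).1 *ᵥ pInfV = pInfV := by
  funext i
  fin_cases i <;> simp [T, tMat, pInfV, Matrix.mulVec, dotProduct, Fin.sum_univ_four]

theorem H_pt (hF : Fintype.card F = 2 ^ (2 * m + 1)) (u : Fˣ) (x y : F) :
    (H m u).1 *ᵥ pt m x y =
      (u : F)⁻¹ • pt m ((u : F) ^ 2 / th m (u : F) * x) (th m (u : F) * y) := by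
  have h1 : (u : F) ≠ 0 := u.ne_zero
  have h2 : th m (u : F) ≠ 0 := fun h => h1 (th_eq_zero.1 h)
  funext i
  fin_cases i <;> simp [H, hVec, pt, Matrix.mulVec_diagonal]
  · simp only [zf, th_mul, th_div, th_th hF, th_pow]
    field_simp
  all_goals field_simp

omit [Fintype F] in
theorem H_inf (u : Fˣ) : (H m u).1 *ᵥ pInfV = (u : F) • pInfV := by
  funext i
  fin_cases i <;> simp [H, hVec, pInfV, Matrix.mulVec_diagonal]

omit [Fintype F] in
theorem W_mulVec (v : Fin 4 → F) : (W : SpecialLinearGroup (Fin 4) F).1 *ᵥ v = ![v 3, v 2, v 1, v 0] := by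
  funext i
  fin_cases i <;> simp [W, wMat, Matrix.mulVec, dotProduct, Fin.sum_univ_four]

theorem W_pt (hF : Fintype.card F = 2 ^ (2 * m + 1)) (x y : F) (h : zf m x y ≠ 0) :
    (W : SpecialLinearGroup (Fin 4) F).1 *ᵥ pt m x y =
      zf m x y • pt m (y / zf m x y) (x / zf m x y) := by
  rw [W_mulVec]
  have hk := zf_key hF x y
  set z := zf m x y with hz
  have hth : th m z ≠ 0 := fun e => h (th_eq_zero.1 e)
  funext i
  fin_cases i <;> simp [pt, ← hz]
  · simp only [zf, th_div]
    field_simp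
    linear_combination hk
  all_goals field_simp

theorem T_mul (hF : Fintype.card F = 2 ^ (2 * m + 1)) (a b c d : F) :
    T m a b * T m c d = T m (a + c) (b + d + th m a * c) := by
  have h2 := two_zero hF
  apply sl_ext
  rw [val_mul]
  simp only [T]
  ext i j
  fin_cases i <;> fin_cases j <;>
    simp [tMat, Matrix.mul_apply, Fin.sum_univ_four, zf, th_add hF, th_mul, th_th hF]
  all_goals first
    | ring1
    | linear_combination -(th m a * c) * h2
    | linear_combination -(th m a * c ^ 2 + a ^ 2 * th m c + th m c * c * a + th m a * c * a) * h2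

omit [Fintype F] in
theorem T_zero : T m (0 : F) 0 = 1 := by
  apply sl_ext
  rw [val_one]
  ext i j
  fin_cases i <;> fin_cases j <;> simp [T, tMat, zf]

omit [Fintype F] in
theorem H_mul (u v : Fˣ) : H m (u * v) = H m u * H m v := by
  apply sl_ext
  rw [val_mul]
  simp only [H, Matrix.diagonal_mul_diagonal]
  congr 1
  funext i
  fin_cases i <;> simp [hVec, th_mul] <;> ring

omit [Fintype F] in
theorem H_one : H m (1 : Fˣ) = 1 := by
  apply sl_ext
  rw [val_one, ← Matrix.diagonal_one]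
  simp only [H]
  congr 1
  funext i
  fin_cases i <;> simp [hVec]

omit [Fintype F] in
theorem W_mul_W : (W : SpecialLinearGroup (Fin 4) F) * W = 1 := by
  apply sl_ext
  rw [val_mul, val_one]
  ext i j
  fin_cases i <;> fin_cases j <;> simp [W, wMat, Matrix.mul_apply, Fin.sum_univ_four]

theorem mem_Sz_of_mapsTo {g : SpecialLinearGroup (Fin 4) F}
    (h : ∀ p ∈ suzukiOvoid F m, g • p ∈ suzukiOvoid F m) : g ∈ Sz F m := by
  rw [MulAction.mem_stabilizer_iff]
  haveI : Finite (suzukiOvoid F m) :=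
    Finite.of_surjective _ (ovoid_param_bijective (F := F) (m := m)).2
  have hsub : g • suzukiOvoid F m ⊆ suzukiOvoid F m := by
    rintro _ ⟨p, hp, rfl⟩
    exact h p hp
  refine Set.eq_of_subset_of_ncard_le hsub ?_ (Set.toFinite _)
  rw [show g • suzukiOvoid F m = (fun p => g • p) '' suzukiOvoid F m from rfl,
    Set.ncard_image_of_injective _ (MulAction.injective g)]

omit [Fintype F] in
theorem smul_mem {g : SpecialLinearGroup (Fin 4) F} (hg : g ∈ Sz F m)
    {p : Projectivization F (Fin 4 → F)} (hp : p ∈ suzukiOvoid F m) : g • p ∈ suzukiOvoid F m := by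
  have := Set.smul_mem_smul_set (a := g) hp
  rwa [MulAction.mem_stabilizer_iff.1 hg] at this

theorem T_smul_aff (hF : Fintype.card F = 2 ^ (2 * m + 1)) (a b x y : F) :
    T m a b • aff m x y = aff m (x + a) (y + b + th m a * x) := by
  rw [aff, smul_mk' _ _ _ (mulVec_ne _ (pt_ne m x y)), aff, Projectivization.mk_eq_mk_iff']
  exact ⟨1, by rw [one_smul, T_pt hF]⟩

omit [Fintype F] in
theorem T_smul_inf (a b : F) : T m a b • suzukiPointInfinity F = suzukiPointInfinity F := by
  show T m a b • Projectivization.mk F pInfV pInfV_ne = Projectivization.mk F pInfV pInfV_ne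
  rw [smul_mk' _ _ _ (mulVec_ne _ pInfV_ne), Projectivization.mk_eq_mk_iff']
  exact ⟨1, by rw [one_smul, T_inf]⟩

theorem H_smul_aff (hF : Fintype.card F = 2 ^ (2 * m + 1)) (u : Fˣ) (x y : F) :
    H m u • aff m x y = aff m ((u : F) ^ 2 / th m (u : F) * x) (th m (u : F) * y) := by
  rw [aff, smul_mk' _ _ _ (mulVec_ne _ (pt_ne m x y)), aff, Projectivization.mk_eq_mk_iff']
  exact ⟨(u : F)⁻¹, by rw [H_pt hF]⟩

omit [Fintype F] in
theorem H_smul_inf (u : Fˣ) : H m u • suzukiPointInfinity F = suzukiPointInfinity F := by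
  show H m u • Projectivization.mk F pInfV pInfV_ne = Projectivization.mk F pInfV pInfV_ne
  rw [smul_mk' _ _ _ (mulVec_ne _ pInfV_ne), Projectivization.mk_eq_mk_iff']
  exact ⟨(u : F), by rw [H_inf]⟩

theorem W_smul_aff (hF : Fintype.card F = 2 ^ (2 * m + 1)) (x y : F) (h : zf m x y ≠ 0) :
    (W : SpecialLinearGroup (Fin 4) F) • aff m x y = aff m (y / zf m x y) (x / zf m x y) := by
  rw [aff, smul_mk' _ _ _ (mulVec_ne _ (pt_ne m x y)), aff, Projectivization.mk_eq_mk_iff']
  exact ⟨zf m x y, by rw [W_pt hF x y h]⟩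

omit [Fintype F] in
theorem W_smul_inf :
    (W : SpecialLinearGroup (Fin 4) F) • suzukiPointInfinity F = suzukiPointZero F := by
  show W • Projectivization.mk F pInfV pInfV_ne = _
  rw [smul_mk' _ _ _ (mulVec_ne _ pInfV_ne), suzukiPointZero, Projectivization.mk_eq_mk_iff']
  exact ⟨1, by rw [one_smul, W_mulVec]; simp [pInfV]⟩

omit [Fintype F] in
theorem W_smul_zero :
    (W : SpecialLinearGroup (Fin 4) F) • suzukiPointZero F = suzukiPointInfinity F := by
  rw [← W_smul_inf, ← mul_smul, W_mul_W, one_smul]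

theorem T_mem (hF : Fintype.card F = 2 ^ (2 * m + 1)) (a b : F) : T m a b ∈ Sz F m := by
  refine mem_Sz_of_mapsTo fun p hp => ?_
  rcases mem_ovoid_iff.1 hp with rfl | ⟨x, y, rfl⟩
  · rw [T_smul_inf]; exact inf_mem
  · rw [T_smul_aff hF]; exact aff_mem _ _

theorem H_mem (hF : Fintype.card F = 2 ^ (2 * m + 1)) (u : Fˣ) : H m u ∈ Sz F m := by
  refine mem_Sz_of_mapsTo fun p hp => ?_
  rcases mem_ovoid_iff.1 hp with rfl | ⟨x, y, rfl⟩
  · rw [H_smul_inf]; exact inf_mem
  · rw [H_smul_aff hF]; exact aff_mem _ _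

theorem W_mem (hF : Fintype.card F = 2 ^ (2 * m + 1)) : (W : SpecialLinearGroup (Fin 4) F) ∈ Sz F m := by
  refine mem_Sz_of_mapsTo fun p hp => ?_
  rcases mem_ovoid_iff.1 hp with rfl | ⟨x, y, rfl⟩
  · rw [W_smul_inf]; exact zero_mem
  · by_cases h : zf m x y = 0
    · obtain ⟨rfl, rfl⟩ := zf_eq_zero hF h
      rw [← zero_eq_aff (m := m), W_smul_zero]; exact inf_mem
    · rw [W_smul_aff hF x y h]; exact aff_mem _ _

/-- Double transitivity in normal form. -/
theorem exists_move (hF : Fintype.card F = 2 ^ (2 * m + 1)) {p q : Projectivization F (Fin 4 → F)}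
    (hp : p ∈ suzukiOvoid F m) (hq : q ∈ suzukiOvoid F m) (hpq : p ≠ q) :
    ∃ g ∈ Sz F m, g • p = suzukiPointInfinity F ∧ g • q = suzukiPointZero F := by
  have key : ∀ {q : Projectivization F (Fin 4 → F)}, q ∈ suzukiOvoid F m →
      q ≠ suzukiPointInfinity F → ∃ g ∈ Sz F m,
        g • suzukiPointInfinity F = suzukiPointInfinity F ∧ g • q = suzukiPointZero F := by
    intro q hq hne
    rcases mem_ovoid_iff.1 hq with rfl | ⟨x, y, rfl⟩
    · exact absurd rfl hne
    · refine ⟨T m x (y + th m x * x), T_mem hF _ _, T_smul_inf _ _, ?_⟩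
      rw [T_smul_aff hF, zero_eq_aff (m := m), add_self hF]
      congr 1
      linear_combination (y + th m x * x) * two_zero hF
  rcases mem_ovoid_iff.1 hp with rfl | ⟨x, y, rfl⟩
  · exact key hq hpq.symm
  · set g₀ := (W : SpecialLinearGroup (Fin 4) F) * T m x (y + th m x * x) with hg₀
    have hmem : g₀ ∈ Sz F m := Subgroup.mul_mem _ (W_mem hF) (T_mem hF _ _)
    have h0 : g₀ • aff m x y = suzukiPointInfinity F := by
      rw [hg₀, mul_smul, T_smul_aff hF, ← W_smul_zero, zero_eq_aff (m := m), add_self hF]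
      congr 2
      linear_combination (y + th m x * x) * two_zero hF
    obtain ⟨g, hg, hg1, hg2⟩ := key (smul_mem hmem hq) (fun h => hpq (by
      rw [← h0] at h; exact (MulAction.injective g₀ h).symm))
    exact ⟨g * g₀, Subgroup.mul_mem _ hg hmem, by rw [mul_smul, h0, hg1], by rw [mul_smul, hg2]⟩

end Cfsg.Agent.SZ
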