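/-
Suzuki groups, part 2: the form, point stabilisers, double transitivity and the order.
-/
import Cfsg.Agent.Lib.Sz.Basic

set_option autoImplicit false

namespace Cfsg.Agent.SZ

open Cfsg Matrix
open scoped Pointwise

variable {F : Type*} [Field F] [Fintype F] {m : ℕ}

/-- The form matrix evaluated on two vectors. -/
def bf (u v : Fin 4 → F) : F := u 0 * v 3 + u 1 * v 2 + u 2 * v 1 + u 3 * v 0

omit [Fintype F] in
theorem bf_eq (u v : Fin 4 → F) : bf u v = u ⬝ᵥ (wMat *ᵥ v) := by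
  simp [bf, wMat, dotProduct, Matrix.mulVec, Fin.sum_univ_four]

omit [Fintype F] in
theorem bf_mulVec (g : Matrix (Fin 4) (Fin 4) F) (u v : Fin 4 → F) :
    bf (g *ᵥ u) (g *ᵥ v) = u ⬝ᵥ ((gᵀ * wMat * g) *ᵥ v) := by
  rw [bf_eq, Matrix.mulVec_mulVec, Matrix.dotProduct_mulVec, ← Matrix.vecMul_transpose,
    Matrix.vecMul_vecMul, ← Matrix.dotProduct_mulVec, Matrix.mul_assoc]

/-- `g` preserves the form. -/
def Pres (g : SpecialLinearGroup (Fin 4) F) : Prop := g.1ᵀ * wMat * g.1 = wMat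

omit [Fintype F] in
theorem Pres.bf {g : SpecialLinearGroup (Fin 4) F} (h : Pres g) (u v : Fin 4 → F) :
    SZ.bf (g.1 *ᵥ u) (g.1 *ᵥ v) = SZ.bf u v := by
  rw [bf_mulVec, h, ← bf_eq]

omit [Fintype F] in
theorem Pres.mul {g h : SpecialLinearGroup (Fin 4) F} (hg : Pres g) (hh : Pres h) :
    Pres (g * h) := by
  rw [Pres, val_mul, Matrix.transpose_mul]
  calc h.1ᵀ * g.1ᵀ * wMat * (g.1 * h.1) = h.1ᵀ * (g.1ᵀ * wMat * g.1) * h.1 := by
        simp only [Matrix.mul_assoc]
    _ = wMat := by rw [hg]; exact hh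

theorem pres_T (hF : Fintype.card F = 2 ^ (2 * m + 1)) (a b : F) : Pres (T m a b) := by
  have h2 := two_zero hF
  rw [Pres]
  simp only [T]
  ext i j
  fin_cases i <;> fin_cases j <;>
    simp [tMat, wMat, Matrix.mul_apply, Fin.sum_univ_four, zf]
  all_goals first
    | linear_combination a * h2
    | linear_combination (b + th m a * a) * h2
    | linear_combination (th m a) * h2
    | linear_combination b * h2
    | linear_combination (a * b + th m a * a ^ 2 + th m b) * h2
    | linear_combination (a * b + a * b + th m a * a ^ 2 + th m b) * h2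
    | linear_combination (a * b + th m a * a ^ 2) * h2
    | linear_combination (th m a * a) * h2
    | linear_combination (a * b + th m b + th m a * a ^ 2 + b * (b + th m a * a)) * h2

omit [Fintype F] in
theorem pres_W : Pres (W : SpecialLinearGroup (Fin 4) F) := by
  rw [Pres]
  simp only [W]
  ext i j
  fin_cases i <;> fin_cases j <;> simp [wMat, Matrix.mul_apply, Fin.sum_univ_four]

omit [Fintype F] in
theorem pres_H (u : Fˣ) : Pres (H m u) := by
  have h1 : (u : F) ≠ 0 := u.ne_zero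
  have h2 : th m (u : F) ≠ 0 := fun h => h1 (th_eq_zero.1 h)
  rw [Pres]
  simp only [H, Matrix.diagonal_transpose]
  ext i j
  fin_cases i <;> fin_cases j <;>
    simp [wMat, Matrix.diagonal_mul, Matrix.mul_diagonal, hVec] <;> (try field_simp) <;> (try exact h2) <;> (try exact h1)

/-- The vectors spanning ovoid points. -/
def IsRep (m : ℕ) (p : Fin 4 → F) : Prop := p = pInfV ∨ ∃ x y, p = pt m x y

theorem bf_inf_pt (x y : F) : bf pInfV (pt m x y) = 1 := by simp [bf, pInfV, pt]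

omit [Fintype F] in
theorem mk_rep_mem {v : Fin 4 → F} (hv : v ≠ 0)
    (h : Projectivization.mk F v hv ∈ suzukiOvoid F m) :
    ∃ (a : F) (p : Fin 4 → F), a ≠ 0 ∧ IsRep m p ∧ a • p = v := by
  rcases mem_ovoid_iff.1 h with h | ⟨x, y, h⟩
  · obtain ⟨a, ha⟩ := (Projectivization.mk_eq_mk_iff' F _ _ _ _).1 h
    exact ⟨a, pInfV, fun e => hv (by rw [← ha, e, zero_smul]), Or.inl rfl, ha⟩
  · obtain ⟨a, ha⟩ := (Projectivization.mk_eq_mk_iff' F _ _ _ _).1 h
    exact ⟨a, pt m x y, fun e => hv (by rw [← ha, e, zero_smul]), Or.inr ⟨x, y, rfl⟩, ha⟩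

theorem bf_rep_ne_zero (hF : Fintype.card F = 2 ^ (2 * m + 1)) {p q : Fin 4 → F}
    (hp : IsRep m p) (hq : IsRep m q) (hpq : p ≠ q) : bf p q ≠ 0 := by
  rcases hp with rfl | ⟨x, y, rfl⟩ <;> rcases hq with rfl | ⟨x', y', rfl⟩
  · exact absurd rfl hpq
  · rw [bf_inf_pt]; exact one_ne_zero
  · simp [bf, pInfV, pt]
  · intro h
    rw [← (pres_T hF x (y + th m x * x)).bf, T_pt hF, T_pt hF, add_self hF] at h
    have e : y + (y + th m x * x) + th m x * x = 0 := by
      linear_combination (y + th m x * x) * two_zero hF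
    rw [e] at h
    have hz : zf m (x' + x) (y' + (y + th m x * x) + th m x * x') = 0 := by
      simpa [bf, pt, zf] using h
    obtain ⟨h1, h2⟩ := zf_eq_zero hF hz
    obtain rfl : x' = x := by linear_combination h1 - x * two_zero hF
    obtain rfl : y' = y := by linear_combination h2 - (y + th m x' * x') * two_zero hF
    exact hpq rfl

omit [Fintype F] in
/-- The tangent plane at infinity is unique. -/
theorem tangent_unique {c : Fin 4 → F} (h0 : c ⬝ᵥ pInfV = 0)
    (h : ∀ x y : F, c ⬝ᵥ pt m x y ≠ 0) : c 0 = 0 ∧ c 1 = 0 ∧ c 2 = 0 := by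
  have hc0 : c 0 = 0 := by simpa [dotProduct, pInfV, Fin.sum_univ_four] using h0
  have hf : ∀ x y : F, c ⬝ᵥ pt m x y = c 1 * y + c 2 * x + c 3 := fun x y => by
    simp [dotProduct, pt, Fin.sum_univ_four, hc0]
  refine ⟨hc0, ?_, ?_⟩
  · by_contra h1
    apply h 0 (-c 3 / c 1)
    rw [hf]; field_simp; ring
  · by_contra h1
    apply h (-c 3 / c 2) 0
    rw [hf]; field_simp; ring

theorem gram_inf (hF : Fintype.card F = 2 ^ (2 * m + 1)) {g : SpecialLinearGroup (Fin 4) F}
    (hg : g ∈ Sz F m) :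
    ∃ c : F, ∀ w, bf (g.1 *ᵥ pInfV) (g.1 *ᵥ w) = c * bf pInfV w := by
  set c : Fin 4 → F := pInfV ᵥ* (g.1ᵀ * wMat * g.1) with hc
  have hev : ∀ w, bf (g.1 *ᵥ pInfV) (g.1 *ᵥ w) = c ⬝ᵥ w := fun w => by
    rw [bf_mulVec, hc, Matrix.dotProduct_mulVec]
  have h0 : c ⬝ᵥ pInfV = 0 := by
    rw [← hev]
    simp only [bf]
    linear_combination ((g.1 *ᵥ pInfV) 0 * (g.1 *ᵥ pInfV) 3 +
      (g.1 *ᵥ pInfV) 1 * (g.1 *ᵥ pInfV) 2) * two_zero hF
  have h : ∀ x y : F, c ⬝ᵥ pt m x y ≠ 0 := by
    intro x y h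
    rw [← hev] at h
    have h1 := smul_mem hg (inf_mem (F := F) (m := m))
    have h2 := smul_mem hg (aff_mem (m := m) x y)
    change g • Projectivization.mk F pInfV pInfV_ne ∈ _ at h1
    rw [smul_mk' _ _ _ (mulVec_ne _ pInfV_ne)] at h1
    rw [aff, smul_mk' _ _ _ (mulVec_ne _ (pt_ne m x y))] at h2
    obtain ⟨a, p, ha, hp, hap⟩ := mk_rep_mem _ h1
    obtain ⟨b, q, hb, hq, hbq⟩ := mk_rep_mem _ h2
    have hpq : p ≠ q := by
      rintro rfl
      apply aff_ne_inf (m := m) x y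
      apply MulAction.injective g
      show g • aff m x y = g • Projectivization.mk F pInfV pInfV_ne
      rw [aff, smul_mk' _ _ _ (mulVec_ne _ (pt_ne m x y)), smul_mk' _ _ _ (mulVec_ne _ pInfV_ne),
        Projectivization.mk_eq_mk_iff']
      exact ⟨b / a, by rw [← hap, ← hbq, smul_smul, div_mul_cancel₀ _ ha]⟩
    apply bf_rep_ne_zero hF hp hq hpq
    rw [← hap, ← hbq] at h
    have : a * b * bf p q = 0 := by
      rw [← h]; simp [bf]; ring
    simpa [ha, hb] using this
  obtain ⟨e0, e1, e2⟩ := tangent_unique h0 h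
  refine ⟨c 3, fun w => ?_⟩
  rw [hev]
  simp [dotProduct, Fin.sum_univ_four, bf, pInfV, e0, e1, e2]

theorem gram_rep (hF : Fintype.card F = 2 ^ (2 * m + 1)) {g : SpecialLinearGroup (Fin 4) F}
    (hg : g ∈ Sz F m) {p : Fin 4 → F} (hp : IsRep m p) :
    ∃ c : F, ∀ w, bf (g.1 *ᵥ p) (g.1 *ᵥ w) = c * bf p w := by
  rcases hp with rfl | ⟨x, y, rfl⟩
  · exact gram_inf hF hg
  · set h := T m x y * W with hh
    have hp : h.1 *ᵥ pInfV = pt m x y := by
      rw [hh, val_mul, ← Matrix.mulVec_mulVec, W_mulVec,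
        show (![pInfV 3, pInfV 2, pInfV 1, pInfV 0] : Fin 4 → F) = pt m 0 0 by simp [pInfV, pt, zf],
        T_pt hF]
      simp
    obtain ⟨c, hc⟩ := gram_inf hF (Subgroup.mul_mem _ hg (Subgroup.mul_mem _ (T_mem hF x y) (W_mem hF)))
    refine ⟨c, fun w => ?_⟩
    have hw : h.1 *ᵥ ((h⁻¹).1 *ᵥ w) = w := by
      rw [Matrix.mulVec_mulVec, ← val_mul, mul_inv_cancel, val_one, Matrix.one_mulVec]
    have h1 := hc ((h⁻¹).1 *ᵥ w)
    rw [← hh, val_mul, ← Matrix.mulVec_mulVec, hp, ← Matrix.mulVec_mulVec, hw] at h1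
    rw [h1]
    congr 1
    rw [← (show Pres h from (pres_T hF x y).mul pres_W).bf, hp, hw]

/-- Every element stabilising the ovoid preserves the form. -/
theorem pres_of_mem (hF : Fintype.card F = 2 ^ (2 * m + 1)) {g : SpecialLinearGroup (Fin 4) F}
    (hg : g ∈ Sz F m) : Pres g := by
  have h2 := two_zero hF
  set N := g.1ᵀ * wMat * g.1 with hN
  have hN' : ∀ p, IsRep m p → ∃ c : F, ∀ j, (p ᵥ* N) j = c * (p ᵥ* wMat) j := by
    intro p hp
    obtain ⟨c, hc⟩ := gram_rep hF hg hp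
    refine ⟨c, fun j => ?_⟩
    have := hc (Pi.single j 1)
    rw [bf_mulVec, bf_eq, Matrix.dotProduct_mulVec, Matrix.dotProduct_mulVec] at this
    simpa [hN] using this
  have hsym : ∀ i j, N i j = N j i := by
    have : Nᵀ = N := by
      rw [hN, Matrix.transpose_mul, Matrix.transpose_mul, Matrix.transpose_transpose, Matrix.mul_assoc]
      congr 2
      ext i j
      fin_cases i <;> fin_cases j <;> simp [wMat]
    intro i j
    conv_lhs => rw [← this]
    rfl
  obtain ⟨c, hc⟩ := hN' pInfV (Or.inl rfl)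
  obtain ⟨d, hd⟩ := hN' (pt m 0 0) (Or.inr ⟨0, 0, rfl⟩)
  obtain ⟨e, he⟩ := hN' (pt m 0 1) (Or.inr ⟨0, 1, rfl⟩)
  obtain ⟨f, hf⟩ := hN' (pt m 1 0) (Or.inr ⟨1, 0, rfl⟩)
  have c0 := hc 0; have c1 := hc 1; have c2 := hc 2; have c3 := hc 3
  have d0 := hd 0; have d1 := hd 1; have d2 := hd 2; have d3 := hd 3
  have e0 := he 0; have e1 := he 1; have e2 := he 2
  have f0 := hf 0; have f2 := hf 2
  simp [Matrix.vecMul, dotProduct, Fin.sum_univ_four, pInfV, pt, zf, wMat] at c0 c1 c2 c3 d0 d1 d2 d3 e0 e1 e2 f0 f2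
  have s30 : N 3 0 = c := by rw [hsym, c3]
  have hdc : d = c := by rw [← d0, s30]
  have he' : e = c := by
    have : N 1 0 = 0 := by rw [hsym, c1]
    rw [← e0, c0, this, s30]; simp
  have hf' : f = c := by
    have : N 2 0 = 0 := by rw [hsym, c2]
    rw [← f0, c0, this, s30]; simp
  have n11 : N 1 1 = 0 := by rw [c1, d1] at e1; simpa using e1
  have n22 : N 2 2 = 0 := by rw [c2, d2] at f2; simpa using f2
  have n12 : N 1 2 = c := by rw [c2, d2, he'] at e2; simpa using e2
  have key : N = c • wMat := by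
    ext i j
    fin_cases i <;> fin_cases j <;>
      simp [wMat, c0, c1, c2, c3, d1, d2, d3, n11, n22, n12, s30, hsym 1 0, hsym 2 0, hsym 1 3,
        hsym 2 3, hsym 2 1]
  have hdet : c ^ 4 = 1 := by
    have := congrArg Matrix.det key
    rw [hN, Matrix.det_mul, Matrix.det_mul, Matrix.det_transpose, g.2, Matrix.det_smul, wMat_det,
      Fintype.card_fin] at this
    simpa using this.symm
  have hc1' : c = 1 := sq_inj hF (sq_inj hF (by rw [← pow_mul, hdet]; simp))
  rw [Pres, ← hN, key, hc1', one_smul]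

omit [Fintype F] in
theorem mk_mem_inf_iff {v : Fin 4 → F} (hv : v ≠ 0)
    (h : Projectivization.mk F v hv = suzukiPointInfinity F) : v 1 = 0 ∧ v 2 = 0 ∧ v 3 = 0 := by
  obtain ⟨a, ha⟩ := (Projectivization.mk_eq_mk_iff' F _ _ _ _).1 h
  subst ha
  simp

theorem three_term (hm : 1 ≤ m) (hF : Fintype.card F = 2 ^ (2 * m + 1)) {a b c : F}
    (h : ∀ y : F, a * y ^ 2 + b * th m y + c * (th m y * y ^ 2) = 0) : a = 0 ∧ b = 0 ∧ c = 0 := by
  open Polynomial in
  set σ := 2 ^ (m + 1) with hσ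
  have h4 : 4 ≤ σ := by
    rw [hσ]; exact le_trans (by norm_num) (Nat.pow_le_pow_right (by norm_num) (show 2 ≤ m + 1 by omega))
  have hlt : σ + 2 < Fintype.card F := by
    rw [hF, show 2 * m + 1 = (m + 1) + m by omega, pow_add, ← hσ]
    have : 2 ≤ 2 ^ m := le_trans (by norm_num) (Nat.pow_le_pow_right (show 1 ≤ 2 by norm_num) hm)
    nlinarith
  set P : Polynomial F := Polynomial.monomial 2 a + Polynomial.monomial σ b +
    Polynomial.monomial (σ + 2) c with hP
  have hdeg : P.natDegree < Fintype.card F := by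
    refine lt_of_le_of_lt ?_ hlt
    refine le_trans (Polynomial.natDegree_add_le _ _) (max_le (le_trans (Polynomial.natDegree_add_le _ _)
      (max_le ?_ ?_)) ?_) <;> refine le_trans (Polynomial.natDegree_monomial_le _) ?_ <;> omega
  have hP0 : P = 0 := by
    refine Polynomial.eq_zero_of_natDegree_lt_card_of_eval_eq_zero P (f := id)
      Function.injective_id ?_ hdeg
    intro y
    have := h y
    rw [th, ← hσ, ← pow_add] at this
    simpa [hP] using this
  have e2 := congrArg (fun Q => Polynomial.coeff Q 2) hP0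
  have eσ := congrArg (fun Q => Polynomial.coeff Q σ) hP0
  have e3 := congrArg (fun Q => Polynomial.coeff Q (σ + 2)) hP0
  simp [hP, Polynomial.coeff_monomial, show σ ≠ 2 by omega, show (2 : ℕ) ≠ σ by omega,
    show σ ≠ 0 by omega] at e2 eσ e3
  exact ⟨e2, eσ, e3⟩

/-- The two point stabiliser. -/
theorem exists_H_of_fix (hm : 1 ≤ m) (hF : Fintype.card F = 2 ^ (2 * m + 1))
    {g : SpecialLinearGroup (Fin 4) F} (hg : g ∈ Sz F m)
    (h0 : g • suzukiPointInfinity F = suzukiPointInfinity F)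
    (h1 : g • suzukiPointZero F = suzukiPointZero F) : ∃ u, g = H m u := by
  have hp := pres_of_mem hF hg
  obtain ⟨l, hl⟩ : ∃ l : F, l • pInfV = g.1 *ᵥ pInfV := by
    change g • Projectivization.mk F pInfV pInfV_ne = Projectivization.mk F pInfV pInfV_ne at h0
    rw [smul_mk' _ _ _ (mulVec_ne _ pInfV_ne), Projectivization.mk_eq_mk_iff'] at h0
    exact h0
  obtain ⟨μ, hμ⟩ : ∃ μ : F, μ • pt m 0 0 = g.1 *ᵥ pt m 0 0 := by
    rw [zero_eq_aff (m := m), aff, smul_mk' _ _ _ (mulVec_ne _ (pt_ne m 0 0)),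
      Projectivization.mk_eq_mk_iff'] at h1
    exact h1
  have a00 := congrFun hl 0; have a10 := congrFun hl 1; have a20 := congrFun hl 2
  have a30 := congrFun hl 3
  have a03 := congrFun hμ 0; have a13 := congrFun hμ 1; have a23 := congrFun hμ 2
  have a33 := congrFun hμ 3
  simp [pInfV, pt, zf, Matrix.mulVec, dotProduct, Fin.sum_univ_four] at a00 a10 a20 a30 a03 a13 a23 a33
  have gram : ∀ i j, bf (fun k => g.1 k i) (fun k => g.1 k j) = wMat i j := by
    intro i j
    have := hp.bf (Pi.single i 1) (Pi.single j 1)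
    simp only [Matrix.mulVec_single_one] at this
    rw [show (fun k => g.1 k i) = g.1.col i from rfl, show (fun k => g.1 k j) = g.1.col j from rfl,
      this, bf_eq]
    simp
  have g03 := gram 0 3; have g01 := gram 0 1; have g02 := gram 0 2
  have g31 := gram 3 1; have g32 := gram 3 2; have g12 := gram 1 2
  simp [bf, wMat, ← a00, ← a10, ← a20, ← a30, ← a03, ← a13, ← a23, ← a33] at g03 g01 g02 g31 g32 g12
  have hl0 : l ≠ 0 := fun e => one_ne_zero (α := F) (by rw [← g03, e, zero_mul])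
  have hμ0 : μ ≠ 0 := fun e => one_ne_zero (α := F) (by rw [← g03, e, mul_zero])
  have a31 : g.1 3 1 = 0 := by simpa [hl0] using g01
  have a32 : g.1 3 2 = 0 := by simpa [hl0] using g02
  have a01 : g.1 0 1 = 0 := by simpa [hμ0] using g31
  have a02 : g.1 0 2 = 0 := by simpa [hμ0] using g32
  simp [a01, a02, a31, a32] at g12
  set p := g.1 1 1 with hp11
  set q := g.1 1 2 with hq12
  set r := g.1 2 1 with hr21
  set s := g.1 2 2 with hs22
  have hμl : μ = l⁻¹ := eq_inv_of_mul_eq_one_right g03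
  have key : ∀ x y : F, zf m (l * (r * y + s * x)) (l * (p * y + q * x)) = l ^ 2 * zf m x y := by
    intro x y
    have hmem := smul_mem hg (aff_mem (m := m) x y)
    rw [aff, smul_mk' _ _ _ (mulVec_ne _ (pt_ne m x y))] at hmem
    obtain ⟨a, v, -, hv, hav⟩ := mk_rep_mem _ hmem
    have k0 := congrFun hav 0; have k1 := congrFun hav 1
    have k2 := congrFun hav 2; have k3 := congrFun hav 3
    rcases hv with rfl | ⟨X, Y, rfl⟩
    · simp [pInfV, pt, Matrix.mulVec, dotProduct, Fin.sum_univ_four, a31, a32, ← a30, ← a33] at k3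
      exact absurd k3 (Ne.symm hμ0)
    · simp [pt, Matrix.mulVec, dotProduct, Fin.sum_univ_four, a31, a32, a01, a02,
        ← a00, ← a10, ← a20, ← a30, ← a03, ← a13, ← a23, ← a33, ← hp11, ← hq12, ← hr21, ← hs22] at k0 k1 k2 k3
      rw [k3, hμl] at k0 k1 k2
      field_simp at k0 k1 k2
      rw [show l * (r * y + s * x) = X by linear_combination -k2,
        show l * (p * y + q * x) = Y by linear_combination -k1, k0]
  obtain ⟨hr2, hy1, hy3⟩ := three_term hm hF (a := l ^ 2 * (p * r)) (b := th m (l * p) - l ^ 2)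
    (c := th m (l * r) * (l * r) ^ 2) (fun y => by
      have := key 0 y
      simp [zf, th_mul] at this ⊢
      linear_combination this)
  have hr : r = 0 := by simpa [hl0, th_eq_zero] using hy3
  have hp0 : l * p = th m l := by
    apply th_inj hF
    rw [th_th hF]
    exact sub_eq_zero.1 hy1
  obtain ⟨-, hx1, -⟩ := three_term hm hF (a := l ^ 2 * (q * s)) (b := th m (l * q))
    (c := th m (l * s) * (l * s) ^ 2 - l ^ 2) (fun x => by
      have := key x 0
      simp [zf, th_mul] at this ⊢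
      linear_combination this)
  have hq : q = 0 := by simpa [hl0, th_eq_zero] using hx1
  rw [hr, hq] at g12
  simp at g12
  have hth : th m l ≠ 0 := fun e => hl0 (th_eq_zero.1 e)
  have hs : s = l / th m l := by
    rw [← hp0, eq_div_iff (by rw [hp0]; exact hth)]
    linear_combination l * g12
  have hpv : p = th m l / l := by
    rw [← hp0]; field_simp
  refine ⟨Units.mk0 l hl0, sl_ext ?_⟩
  simp only [H, hVec, Units.val_mk0]
  ext i j
  fin_cases i <;> fin_cases j <;>
    simp [← a00, ← a10, ← a20, ← a30, ← a03, ← a13, ← a23, ← a33, a01, a02, a31, a32, ← hp11,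
      ← hq12, ← hr21, ← hs22, hr, hq, hs, hpv, hμl]

omit [Fintype F] in
theorem H_smul_zero (u : Fˣ) :
    H m u • suzukiPointZero F = suzukiPointZero F := by
  rw [suzukiPointZero, smul_mk' _ _ _ (mulVec_ne _ (by simp)), Projectivization.mk_eq_mk_iff']
  refine ⟨(u : F)⁻¹, ?_⟩
  funext i
  fin_cases i <;> simp [H, hVec, Matrix.mulVec_diagonal]

/-- The point stabiliser. -/
theorem exists_TH_of_fix (hm : 1 ≤ m) (hF : Fintype.card F = 2 ^ (2 * m + 1))
    {g : SpecialLinearGroup (Fin 4) F} (hg : g ∈ Sz F m)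
    (h0 : g • suzukiPointInfinity F = suzukiPointInfinity F) :
    ∃ a b u, g = T m a b * H m u := by
  have hmem := smul_mem hg (zero_mem (F := F) (m := m))
  rcases mem_ovoid_iff.1 hmem with h | ⟨a, b, h⟩
  · exact absurd (MulAction.injective g (h.trans h0.symm))
      (by rw [zero_eq_aff (m := m)]; exact aff_ne_inf 0 0)
  · obtain ⟨u, hu⟩ := exists_H_of_fix hm hF
      (Subgroup.mul_mem _ (Subgroup.inv_mem _ (T_mem hF a b)) hg)
      (by rw [mul_smul, h0, inv_smul_eq_iff, T_smul_inf])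
      (by rw [mul_smul, h, inv_smul_eq_iff, zero_eq_aff (m := m), T_smul_aff hF]; simp)
    exact ⟨a, b, u, by rw [← hu, mul_inv_cancel_left]⟩

omit [Fintype F] in
theorem H_inj {u v : Fˣ} (h : H m u = H m v) : u = v := by
  have := congrArg (fun g : SpecialLinearGroup (Fin 4) F => g.1 0 0) h
  exact Units.ext (by simpa [H, hVec] using this)

omit [Fintype F] in
theorem T_inj {a b c d : F} (h : T m a b = T m c d) : a = c ∧ b = d := by
  have h1 := congrArg (fun g : SpecialLinearGroup (Fin 4) F => g.1 2 3) h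
  have h2 := congrArg (fun g : SpecialLinearGroup (Fin 4) F => g.1 1 3) h
  simp [T, tMat] at h1 h2
  exact ⟨h1, h2⟩

theorem TH_inj (hF : Fintype.card F = 2 ^ (2 * m + 1)) {a b c d : F} {u v : Fˣ}
    (h : T m a b * H m u = T m c d * H m v) : a = c ∧ b = d ∧ u = v := by
  have e := congrArg (fun g => g • suzukiPointZero F) h
  simp only [mul_smul, H_smul_zero] at e
  rw [zero_eq_aff (m := m), T_smul_aff hF, T_smul_aff hF] at e
  simp at e
  obtain ⟨rfl, rfl⟩ := aff_inj e
  exact ⟨rfl, rfl, H_inj (mul_left_cancel h)⟩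

/-- The torus as a subgroup-valued isomorphism. -/
noncomputable def torusEquiv (hm : 1 ≤ m) (hF : Fintype.card F = 2 ^ (2 * m + 1)) :
    Fˣ ≃* ↥(MulAction.stabilizer (Sz F m) (suzukiPointInfinity F) ⊓
      MulAction.stabilizer (Sz F m) (suzukiPointZero F)) :=
  MulEquiv.ofBijective
    ({ toFun := fun u => ⟨⟨H m u, H_mem hF u⟩, H_smul_inf u, H_smul_zero u⟩
       map_one' := Subtype.ext (Subtype.ext H_one)
       map_mul' := fun u v => Subtype.ext (Subtype.ext (H_mul u v)) } : Fˣ →* _)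
    ⟨fun _ _ h => H_inj (congrArg (fun g => g.1.1) h), fun g => by
      obtain ⟨u, hu⟩ := exists_H_of_fix hm hF g.1.2 g.2.1 g.2.2
      exact ⟨u, Subtype.ext (Subtype.ext hu.symm)⟩⟩

theorem card_stab_inf (hm : 1 ≤ m) (hF : Fintype.card F = 2 ^ (2 * m + 1)) :
    Nat.card (MulAction.stabilizer (Sz F m) (suzukiPointInfinity F)) =
      Fintype.card F ^ 2 * (Fintype.card F - 1) := by
  let f : (F × F) × Fˣ → MulAction.stabilizer (Sz F m) (suzukiPointInfinity F) := fun x =>
    ⟨⟨T m x.1.1 x.1.2 * H m x.2, Subgroup.mul_mem _ (T_mem hF _ _) (H_mem hF _)⟩, by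
      show (T m x.1.1 x.1.2 * H m x.2) • suzukiPointInfinity F = _
      rw [mul_smul, H_smul_inf, T_smul_inf]⟩
  have hf : Function.Bijective f := by
    constructor
    · rintro ⟨⟨a, b⟩, u⟩ ⟨⟨c, d⟩, v⟩ h
      obtain ⟨rfl, rfl, rfl⟩ := TH_inj hF (congrArg (fun g => g.1.1) h)
      rfl
    · intro g
      obtain ⟨a, b, u, h⟩ := exists_TH_of_fix hm hF g.1.2 g.2
      exact ⟨((a, b), u), Subtype.ext (Subtype.ext h.symm)⟩
  rw [← Nat.card_eq_of_bijective f hf, Nat.card_prod, Nat.card_prod, Nat.card_units,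
    Nat.card_eq_fintype_card, pow_two]

theorem orbit_inf (hF : Fintype.card F = 2 ^ (2 * m + 1)) :
    MulAction.orbit (Sz F m) (suzukiPointInfinity F) = suzukiOvoid F m := by
  ext p
  constructor
  · rintro ⟨g, rfl⟩
    exact smul_mem g.2 inf_mem
  · intro hp
    by_cases h : p = suzukiPointInfinity F
    · exact h ▸ MulAction.mem_orbit_self _
    · obtain ⟨g, hg, hg1, -⟩ := exists_move hF hp inf_mem h
      refine ⟨⟨g, hg⟩⁻¹, ?_⟩
      show g⁻¹ • suzukiPointInfinity F = p
      rw [← hg1, inv_smul_smul]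

theorem card_Sz (hm : 1 ≤ m) (hF : Fintype.card F = 2 ^ (2 * m + 1)) :
    Nat.card (Sz F m) = Fintype.card F ^ 2 * (Fintype.card F ^ 2 + 1) * (Fintype.card F - 1) := by
  rw [← Subgroup.card_mul_index (MulAction.stabilizer (Sz F m) (suzukiPointInfinity F)),
    MulAction.index_stabilizer, orbit_inf hF, card_stab_inf hm hF]
  rw [← Nat.card_coe_set_eq, card_ovoid]
  ring

theorem isMultiplyPretransitive (hF : Fintype.card F = 2 ^ (2 * m + 1)) :
    MulAction.IsMultiplyPretransitive (Sz F m) (suzukiOvoid F m) 2 := by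
  rw [MulAction.is_two_pretransitive_iff]
  intro a b c d hab hcd
  obtain ⟨g, hg, g1, g2⟩ := exists_move hF a.2 b.2 (fun e => hab (Subtype.ext e))
  obtain ⟨k, hk, k1, k2⟩ := exists_move hF c.2 d.2 (fun e => hcd (Subtype.ext e))
  refine ⟨⟨k⁻¹ * g, Subgroup.mul_mem _ (Subgroup.inv_mem _ hk) hg⟩, Subtype.ext ?_, Subtype.ext ?_⟩
  · show (k⁻¹ * g) • (a : Projectivization F (Fin 4 → F)) = c
    rw [mul_smul, g1, ← k1, inv_smul_smul]
  · show (k⁻¹ * g) • (b : Projectivization F (Fin 4 → F)) = d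
    rw [mul_smul, g2, ← k2, inv_smul_smul]

theorem three_points (hm : 1 ≤ m) (hF : Fintype.card F = 2 ^ (2 * m + 1))
    {g : SpecialLinearGroup (Fin 4) F} (hg : g ∈ Sz F m)
    {p q r : Projectivization F (Fin 4 → F)} (hp : p ∈ suzukiOvoid F m) (hq : q ∈ suzukiOvoid F m)
    (hr : r ∈ suzukiOvoid F m) (hpq : p ≠ q) (hqr : q ≠ r) (hpr : p ≠ r)
    (gp : g • p = p) (gq : g • q = q) (gr : g • r = r) : g = 1 := by
  obtain ⟨k, hk, k1, k2⟩ := exists_move hF hp hq hpq
  obtain ⟨u, hu⟩ := exists_H_of_fix hm hF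
    (g := k * g * k⁻¹) (Subgroup.mul_mem _ (Subgroup.mul_mem _ hk hg) (Subgroup.inv_mem _ hk))
    (by rw [mul_smul, mul_smul, ← k1, inv_smul_smul, gp])
    (by rw [mul_smul, mul_smul, ← k2, inv_smul_smul, gq])
  obtain ⟨x, y, hxy⟩ : ∃ x y, k • r = aff m x y := by
    rcases mem_ovoid_iff.1 (smul_mem hk hr) with h | h
    · exact absurd (MulAction.injective k (k1.trans h.symm)) hpr
    · exact h
  have hfix : H m u • aff m x y = aff m x y := by
    rw [← hu, ← hxy, mul_smul, mul_smul, inv_smul_smul, gr]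
  rw [H_smul_aff hF] at hfix
  obtain ⟨hx, hy⟩ := aff_inj hfix
  have hu0 : th m (u : F) ≠ 0 := fun e => u.ne_zero (th_eq_zero.1 e)
  have h1 : u = 1 := by
    apply Units.ext
    by_cases hy0 : y = 0
    · subst hy0
      by_cases hx0 : x = 0
      · subst hx0
        rw [← zero_eq_aff (m := m), ← k2] at hxy
        exact absurd (MulAction.injective k hxy).symm hqr
      · have : (u : F) ^ 2 / th m (u : F) = 1 := mul_right_cancel₀ hx0 (hx.trans (one_mul x).symm)
        rw [div_eq_one_iff_eq hu0] at this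
        exact th_eq_sq hF this.symm u.ne_zero
    · exact (th_eq_one hF).1 (mul_right_cancel₀ hy0 (hy.trans (one_mul y).symm))
  rw [h1, H_one] at hu
  calc g = k⁻¹ * (k * g * k⁻¹) * k := by group
    _ = 1 := by rw [hu]; group

end Cfsg.Agent.SZ
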