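/-
Suzuki groups, part 3: Bruhat form of the elements, perfectness, simplicity.
-/
import Cfsg.Agent.Lib.Sz.Stabilizer

set_option autoImplicit false

namespace Cfsg.Agent.SZ

open Cfsg Matrix
open scoped Pointwise commutatorElement

variable {F : Type*} [Field F] [Fintype F] {m : ℕ}

/-- Every element is `T H` or `T W T H`. -/
theorem bruhat (hm : 1 ≤ m) (hF : Fintype.card F = 2 ^ (2 * m + 1))
    {g : SpecialLinearGroup (Fin 4) F} (hg : g ∈ Sz F m) :
    (∃ a b u, g = T m a b * H m u) ∨ ∃ a b c d u, g = T m a b * W * (T m c d * H m u) := by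
  rcases mem_ovoid_iff.1 (smul_mem hg (inf_mem (F := F) (m := m))) with h | ⟨a, b, h⟩
  · exact Or.inl (exists_TH_of_fix hm hF hg h)
  · have h1 : T m a b * (W : SpecialLinearGroup (Fin 4) F) ∈ Sz F m :=
      Subgroup.mul_mem _ (T_mem hF a b) (W_mem hF)
    have h2 : (T m a b * (W : SpecialLinearGroup (Fin 4) F)) • suzukiPointInfinity F = aff m a b := by
      rw [mul_smul, W_smul_inf, zero_eq_aff (m := m), T_smul_aff hF]; simp
    obtain ⟨c, d, u, hu⟩ := exists_TH_of_fix hm hF (Subgroup.mul_mem _ (Subgroup.inv_mem _ h1) hg)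
      (by rw [mul_smul, h, ← h2, inv_smul_smul])
    exact Or.inr ⟨a, b, c, d, u, by rw [← hu, mul_inv_cancel_left]⟩

theorem H_conj_T (hF : Fintype.card F = 2 ^ (2 * m + 1)) (u : Fˣ) (a b : F) :
    H m u * T m a b = T m ((u : F) ^ 2 / th m (u : F) * a) (th m (u : F) * b) * H m u := by
  have h1 : (u : F) ≠ 0 := u.ne_zero
  have h2 : th m (u : F) ≠ 0 := fun h => h1 (th_eq_zero.1 h)
  apply sl_ext
  rw [val_mul, val_mul]
  simp only [H, T]
  ext i j
  fin_cases i <;> fin_cases j <;>
    simp [tMat, hVec, Matrix.diagonal_mul, Matrix.mul_diagonal, zf, th_mul, th_div, th_th hF,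
      th_pow] <;> (try field_simp)

omit [Fintype F] in
theorem W_conj_H (u : Fˣ) :
    (W : SpecialLinearGroup (Fin 4) F) * H m u = H m u⁻¹ * W := by
  have h1 : (u : F) ≠ 0 := u.ne_zero
  have h2 : th m (u : F) ≠ 0 := fun h => h1 (th_eq_zero.1 h)
  apply sl_ext
  rw [val_mul, val_mul]
  simp only [H, W]
  ext i j
  fin_cases i <;> fin_cases j <;>
    simp [wMat, hVec, Matrix.diagonal_mul, Matrix.mul_diagonal, th_inv] <;>
    (try (field_simp))

omit [Fintype F] in
theorem H_inv (u : Fˣ) : (H m u)⁻¹ = H m u⁻¹ :=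
  inv_eq_of_mul_eq_one_right (by rw [← H_mul, mul_inv_cancel, H_one])

theorem T_inv (hF : Fintype.card F = 2 ^ (2 * m + 1)) (a b : F) :
    (T m a b)⁻¹ = T m a (b + th m a * a) := by
  refine inv_eq_of_mul_eq_one_right ?_
  rw [T_mul hF, add_self hF, ← T_zero (m := m)]
  congr 1
  linear_combination (b + th m a * a) * two_zero hF

/-- `H` as an element of the group. -/
def hS (hF : Fintype.card F = 2 ^ (2 * m + 1)) (u : Fˣ) : Sz F m := ⟨H m u, H_mem hF u⟩

/-- `T` as an element of the group. -/
def tS (hF : Fintype.card F = 2 ^ (2 * m + 1)) (a b : F) : Sz F m := ⟨T m a b, T_mem hF a b⟩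

/-- `W` as an element of the group. -/
def wS (hF : Fintype.card F = 2 ^ (2 * m + 1)) : Sz F m := ⟨W, W_mem hF⟩

theorem exists_sqrt (hF : Fintype.card F = 2 ^ (2 * m + 1)) (u : Fˣ) : ∃ v : Fˣ, v * v = u := by
  haveI := charTwo hF
  obtain ⟨v, hv⟩ := FiniteField.isSquare_of_char_two (ringChar.eq F 2) (u : F)
  have hv0 : v ≠ 0 := fun e => u.ne_zero (by rw [hv, e, mul_zero])
  exact ⟨Units.mk0 v hv0, Units.ext hv.symm⟩

theorem exists_unit_ne_one (hm : 1 ≤ m) (hF : Fintype.card F = 2 ^ (2 * m + 1)) :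
    ∃ u : Fˣ, u ≠ 1 := by
  have h : 1 < Nat.card Fˣ := by
    rw [Nat.card_units, Nat.card_eq_fintype_card, hF]
    have : 8 ≤ 2 ^ (2 * m + 1) :=
      le_trans (by norm_num) (Nat.pow_le_pow_right (by norm_num) (show 3 ≤ 2 * m + 1 by omega))
    omega
  haveI : Nontrivial Fˣ := Finite.one_lt_card_iff_nontrivial.1 h
  exact exists_ne 1

theorem tS_mem_commutator (hm : 1 ≤ m) (hF : Fintype.card F = 2 ^ (2 * m + 1)) (a b : F) :
    tS hF a b ∈ commutator (Sz F m) := by
  obtain ⟨u, hu⟩ := exists_unit_ne_one hm hF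
  set k := (u : F) ^ 2 / th m (u : F) with hk
  set l := th m (u : F) with hl
  have h1 : (u : F) ≠ 0 := u.ne_zero
  have h2 : l ≠ 0 := fun h => h1 (th_eq_zero.1 h)
  have hk1 : k + 1 ≠ 0 := by
    intro e
    have : k = 1 := by linear_combination e - two_zero hF
    rw [hk, div_eq_one_iff_eq h2] at this
    exact hu (Units.ext (th_eq_sq hF this.symm h1))
  have hl1 : l + 1 ≠ 0 := by
    intro e
    have : l = 1 := by linear_combination e - two_zero hF
    exact hu (Units.ext ((th_eq_one hF).1 this))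
  set a0 := a / (k + 1) with ha0
  set b0 := (b + th m a0 * a0 + th m (k * a0) * a0) / (l + 1) with hb0
  have key : ⁅hS hF u, tS hF a0 b0⁆ = tS hF a b := by
    apply Subtype.ext
    show H m u * T m a0 b0 * (H m u)⁻¹ * (T m a0 b0)⁻¹ = T m a b
    rw [H_conj_T hF, mul_inv_cancel_right, T_inv hF, T_mul hF, ← hk, ← hl]
    have e1 : k * a0 + a0 = a := by rw [ha0]; field_simp
    have e2 : (l + 1) * b0 = b + th m a0 * a0 + th m (k * a0) * a0 := by
      rw [hb0]; field_simp
    rw [e1]
    congr 1
    linear_combination e2 + (th m a0 * a0 + th m (k * a0) * a0) * two_zero hF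
  rw [← key, commutator_def]
  exact Subgroup.commutator_mem_commutator (Subgroup.mem_top _) (Subgroup.mem_top _)

theorem perfect (hm : 1 ≤ m) (hF : Fintype.card F = 2 ^ (2 * m + 1)) :
    commutator (Sz F m) = ⊤ := by
  have hH : ∀ u, hS hF u ∈ commutator (Sz F m) := by
    intro u
    obtain ⟨v, rfl⟩ := exists_sqrt hF u
    have key : ⁅hS hF v, wS hF⁆ = hS hF (v * v) := by
      apply Subtype.ext
      show H m v * W * (H m v)⁻¹ * W⁻¹ = H m (v * v)
      rw [H_inv, mul_assoc (H m v), W_conj_H, inv_inv, ← mul_assoc, mul_inv_cancel_right, H_mul]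
    rw [← key, commutator_def]
    exact Subgroup.commutator_mem_commutator (Subgroup.mem_top _) (Subgroup.mem_top _)
  have hW : wS hF ∈ commutator (Sz F m) := by
    have h2 := two_zero hF
    have hz : zf m (1 : F) 1 = 1 := by
      simp [zf]; linear_combination h2
    have hfix : (W : SpecialLinearGroup (Fin 4) F) • aff m (1 : F) 1 = aff m 1 1 := by
      rw [W_smul_aff hF 1 1 (by rw [hz]; exact one_ne_zero), hz]; simp
    set g := T m (1 : F) 1 * W with hg
    have hgm : g ∈ Sz F m := Subgroup.mul_mem _ (T_mem hF _ _) (W_mem hF)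
    have hgi : g • suzukiPointInfinity F = aff m 1 1 := by
      rw [hg, mul_smul, W_smul_inf, zero_eq_aff (m := m), T_smul_aff hF]; simp
    set g' : Sz F m := ⟨g, hgm⟩
    obtain ⟨a, b, u, hu⟩ := exists_TH_of_fix hm hF
      (g := g⁻¹ * W * g) (g'⁻¹ * wS hF * g').2
      (by rw [mul_smul, mul_smul, hgi, hfix, ← hgi, inv_smul_smul])
    have hsq : (T m a b * H m u) * (T m a b * H m u) = 1 := by
      rw [← hu]
      calc g⁻¹ * W * g * (g⁻¹ * W * g) = g⁻¹ * (W * W) * g := by group
        _ = 1 := by rw [W_mul_W]; group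
    rw [mul_assoc, ← mul_assoc (H m u), H_conj_T hF, ← mul_assoc, ← mul_assoc, T_mul hF,
      mul_assoc, ← H_mul, ← T_zero (F := F) (m := m)] at hsq
    conv_rhs at hsq => rw [← mul_one (T m (0 : F) 0), ← H_one (F := F) (m := m)]
    obtain ⟨-, -, huu⟩ := TH_inj hF hsq
    obtain rfl : u = 1 := Units.ext (sq_inj hF (by
      rw [sq, sq, ← Units.val_mul, huu]; simp))
    rw [H_one, mul_one] at hu
    have hc : g'⁻¹ * wS hF * g' ∈ commutator (Sz F m) := by
      rw [show g'⁻¹ * wS hF * g' = tS hF a b from Subtype.ext hu]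
      exact tS_mem_commutator hm hF a b
    have := Subgroup.Normal.conj_mem inferInstance _ hc g'
    simpa [mul_assoc] using this
  rw [eq_top_iff]
  rintro ⟨g, hg⟩ -
  rcases bruhat hm hF hg with ⟨a, b, u, rfl⟩ | ⟨a, b, c, d, u, rfl⟩
  · exact Subgroup.mul_mem _ (tS_mem_commutator hm hF a b) (hH u)
  · exact Subgroup.mul_mem _ (Subgroup.mul_mem _ (tS_mem_commutator hm hF a b) hW)
      (Subgroup.mul_mem _ (tS_mem_commutator hm hF c d) (hH u))

theorem isSolvable_stab (hm : 1 ≤ m) (hF : Fintype.card F = 2 ^ (2 * m + 1)) :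
    Group.IsSolvable (MulAction.stabilizer (Sz F m) (suzukiPointInfinity F)) := by
  set B := MulAction.stabilizer (Sz F m) (suzukiPointInfinity F)
  have hrep : ∀ g : B, ∃ a b u, (g.1.1 : SpecialLinearGroup (Fin 4) F) = T m a b * H m u :=
    fun g => exists_TH_of_fix hm hF g.1.2 g.2
  choose a b u h using hrep
  let φ : B →* Fˣ :=
    { toFun := u
      map_one' := by
        have e := h 1
        have : T m (a 1) (b 1) * H m (u 1) = T m (0 : F) 0 * H m 1 := by
          rw [← e, T_zero, H_one, mul_one]; rfl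
        exact (TH_inj hF this).2.2
      map_mul' := fun x y => by
        have e := h (x * y)
        change x.1.1 * y.1.1 = _ at e
        rw [h x, h y, mul_assoc, ← mul_assoc (H m (u x)), H_conj_T hF, ← mul_assoc, ← mul_assoc,
          T_mul hF, mul_assoc, ← H_mul] at e
        exact (TH_inj hF e).2.2.symm }
  have hker : ∀ g : φ.ker, g.1.1.1 = T m (a g.1) (b g.1) := fun g => by
    rw [h g.1, show u g.1 = 1 from g.2, H_one, mul_one]
  let ψ : φ.ker →* Multiplicative F :=
    { toFun := fun g => Multiplicative.ofAdd (a g.1)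
      map_one' := by
        have e := hker 1
        have : T m (a (1 : B)) (b (1 : B)) = T m (0 : F) 0 := by
          rw [T_zero]; exact e.symm
        rw [show ((1 : φ.ker) : B) = 1 from rfl, (T_inj this).1, ofAdd_zero]
      map_mul' := fun x y => by
        have e := hker (x * y)
        change x.1.1.1 * y.1.1.1 = _ at e
        rw [hker x, hker y, T_mul hF] at e
        rw [← ofAdd_add, (T_inj e).1] }
  haveI : Group.IsSolvable ψ.ker := by
    refine Group.isSolvable_of_comm fun x y => ?_
    apply Subtype.ext; apply Subtype.ext; apply Subtype.ext; apply Subtype.ext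
    show x.1.1.1.1 * y.1.1.1.1 = y.1.1.1.1 * x.1.1.1.1
    rw [hker x.1, hker y.1, T_mul hF, T_mul hF]
    have hx : a x.1.1 = 0 := Multiplicative.ofAdd.injective (x.2.trans ofAdd_zero.symm)
    have hy : a y.1.1 = 0 := Multiplicative.ofAdd.injective (y.2.trans ofAdd_zero.symm)
    rw [hx, hy]
    simp [add_comm]
  haveI : Group.IsSolvable φ.ker := Group.isSolvable_of_ker_le_range ψ.ker.subtype ψ (by simp)
  exact Group.isSolvable_of_ker_le_range φ.ker.subtype φ (by simp)

theorem isSimple (hm : 1 ≤ m) (hF : Fintype.card F = 2 ^ (2 * m + 1)) :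
    IsSimpleGroup (Sz F m) := by
  set B := MulAction.stabilizer (Sz F m) (suzukiPointInfinity F) with hB
  haveI := isSolvable_stab hm hF
  haveI : Nontrivial (Sz F m) := by
    refine ⟨wS hF, 1, fun e => ?_⟩
    have := congrArg (fun g : SpecialLinearGroup (Fin 4) F => g • suzukiPointInfinity F)
      (congrArg Subtype.val e)
    simp only [wS, OneMemClass.coe_one, one_smul, W_smul_inf] at this
    rw [zero_eq_aff (m := m)] at this
    exact aff_ne_inf 0 0 this
  refine ⟨fun N hN => ?_⟩
  by_cases hle : ∀ n ∈ N, (n : SpecialLinearGroup (Fin 4) F) • suzukiPointInfinity F = suzukiPointInfinity F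
  · left
    rw [Subgroup.eq_bot_iff_forall]
    intro n hn
    have hall : ∀ p ∈ suzukiOvoid F m, (n : SpecialLinearGroup (Fin 4) F) • p = p := by
      intro p hp
      rw [← orbit_inf hF] at hp
      obtain ⟨g, rfl⟩ := hp
      have := hle _ (hN.conj_mem n hn g⁻¹)
      simp only [inv_inv, Subgroup.coe_mul, InvMemClass.coe_inv, mul_smul, inv_smul_eq_iff] at this
      exact this
    apply Subtype.ext
    refine three_points hm hF n.2 inf_mem (aff_mem 0 0) (aff_mem 0 1) (aff_ne_inf 0 0).symm ?_
      (aff_ne_inf 0 1).symm (hall _ inf_mem) (hall _ (aff_mem 0 0)) (hall _ (aff_mem 0 1))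
    exact fun e => zero_ne_one (aff_inj e).2
  · right
    push Not at hle
    obtain ⟨n, hn, hne⟩ := hle
    obtain ⟨x, y, hxy⟩ : ∃ x y,
        (n : SpecialLinearGroup (Fin 4) F) • suzukiPointInfinity F = aff m x y := by
      rcases mem_ovoid_iff.1 (smul_mem n.2 inf_mem) with h | h
      exacts [absurd h hne, h]
    have htop : ∀ g : Sz F m, g ∈ N ⊔ B := by
      intro g
      rcases mem_ovoid_iff.1 (smul_mem g.2 (inf_mem (F := F) (m := m))) with h | ⟨x', y', h⟩
      · exact Subgroup.mem_sup_right h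
      · set t := tS hF (x + x') (y' + y + th m (x + x') * x) with ht
        have htB : t ∈ B := T_smul_inf _ _
        have h1 : t * n * t⁻¹ ∈ N := hN.conj_mem n hn t
        have h2 : (t * n * t⁻¹).1 • suzukiPointInfinity F = aff m x' y' := by
          simp only [Subgroup.coe_mul, InvMemClass.coe_inv, mul_smul]
          rw [show ((t : Sz F m).1)⁻¹ • suzukiPointInfinity F = suzukiPointInfinity F by
            rw [inv_smul_eq_iff]; exact (T_smul_inf _ _).symm, hxy]
          show T m _ _ • aff m x y = _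
          rw [T_smul_aff hF]
          congr 1
          · linear_combination x * two_zero hF
          · linear_combination (y + th m (x + x') * x) * two_zero hF
        have h3 : (t * n * t⁻¹)⁻¹ * g ∈ B := by
          show ((t * n * t⁻¹)⁻¹ * g).1 • suzukiPointInfinity F = _
          rw [Subgroup.coe_mul, InvMemClass.coe_inv, mul_smul, h, ← h2, inv_smul_smul]
        have := Subgroup.mul_mem _ (Subgroup.mem_sup_left (T := B) h1) (Subgroup.mem_sup_right h3)
        rwa [mul_inv_cancel_left] at this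
    let π := (QuotientGroup.mk' N).comp B.subtype
    have hπ : Function.Surjective π := by
      intro q
      obtain ⟨g, rfl⟩ := QuotientGroup.mk_surjective q
      obtain ⟨c, hc, b, hb, rfl⟩ := Subgroup.mem_sup_of_normal_left.1 (htop g)
      refine ⟨⟨b, hb⟩, ?_⟩
      have : (QuotientGroup.mk c : Sz F m ⧸ N) = 1 := (QuotientGroup.eq_one_iff c).2 hc
      simp [π, this]
    have hs : Group.IsSolvable (Sz F m ⧸ N) := Group.isSolvable_of_surjective hπ
    have hp : commutator (Sz F m ⧸ N) = ⊤ := by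
      rw [commutator_def, ← Subgroup.map_top_of_surjective (QuotientGroup.mk' N)
        (QuotientGroup.mk'_surjective N), ← Subgroup.map_commutator, ← commutator_def, perfect hm hF]
    by_contra hne'
    haveI : Nontrivial (Sz F m ⧸ N) := by
      by_contra hnt
      rw [not_nontrivial_iff_subsingleton, QuotientGroup.subsingleton_iff] at hnt
      exact hne' hnt
    exact absurd hp (ne_of_lt (Group.IsSolvable.commutator_lt_top_of_nontrivial _))

end Cfsg.Agent.SZ
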