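/-
Suzuki groups, part 5: the Sylow 2-subgroup `U` and its normaliser.
-/
import Cfsg.Agent.Lib.Sz.Simple

set_option autoImplicit false

namespace Cfsg.Agent.SZ

open Cfsg Matrix
open scoped Pointwise commutatorElement

variable {F : Type*} [Field F] [Fintype F] {m : ℕ}

/-- The subgroup of translations. -/
def uGrp (hF : Fintype.card F = 2 ^ (2 * m + 1)) : Subgroup (Sz F m) where
  carrier := Set.range fun p : F × F => tS hF p.1 p.2
  mul_mem' := by
    rintro _ _ ⟨p, rfl⟩ ⟨q, rfl⟩
    exact ⟨(p.1 + q.1, p.2 + q.2 + th m p.1 * q.1), Subtype.ext (T_mul hF _ _ _ _).symm⟩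
  one_mem' := ⟨(0, 0), Subtype.ext T_zero⟩
  inv_mem' := by
    rintro _ ⟨p, rfl⟩
    exact ⟨(p.1, p.2 + th m p.1 * p.1), Subtype.ext (T_inv hF _ _).symm⟩

theorem mem_uGrp (hF : Fintype.card F = 2 ^ (2 * m + 1)) {g : Sz F m} :
    g ∈ uGrp hF ↔ ∃ a b, tS hF a b = g :=
  ⟨fun ⟨p, hp⟩ => ⟨p.1, p.2, hp⟩, fun ⟨a, b, h⟩ => ⟨(a, b), h⟩⟩

/-- Parametrisation of `U`. -/
noncomputable def uParam (hF : Fintype.card F = 2 ^ (2 * m + 1)) : F × F ≃ uGrp hF :=
  Equiv.ofBijective (fun p => ⟨tS hF p.1 p.2, p, rfl⟩)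
    ⟨fun p q h => by
      obtain ⟨h1, h2⟩ := T_inj (congrArg (fun g => g.1.1) h)
      exact Prod.ext h1 h2,
    fun ⟨_, p, hp⟩ => ⟨p, Subtype.ext hp⟩⟩

theorem card_uGrp (hF : Fintype.card F = 2 ^ (2 * m + 1)) :
    Nat.card (uGrp hF) = Fintype.card F ^ 2 := by
  rw [← Nat.card_congr (uParam hF), Nat.card_prod, Nat.card_eq_fintype_card, sq]

theorem odd_cofactor (hF : Fintype.card F = 2 ^ (2 * m + 1)) :
    Odd ((Fintype.card F ^ 2 + 1) * (Fintype.card F - 1)) := by
  have he : Even (Fintype.card F) := by rw [hF]; exact Nat.even_pow.2 ⟨even_two, by omega⟩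
  exact ((he.pow_of_ne_zero two_ne_zero).add_one).mul
    (Nat.Even.sub_odd Fintype.card_pos he odd_one)

theorem factorization_card (hm : 1 ≤ m) (hF : Fintype.card F = 2 ^ (2 * m + 1)) :
    2 ^ (Nat.card (Sz F m)).factorization 2 = Fintype.card F ^ 2 := by
  have hodd := odd_cofactor hF
  rw [card_Sz hm hF, mul_assoc, hF, ← pow_mul, Nat.factorization_mul (by positivity)
    (by rw [hF, ← pow_mul] at hodd; exact hodd.pos.ne'), Finsupp.add_apply]
  rw [hF, ← pow_mul] at hodd
  rw [Nat.factorization_eq_zero_of_not_dvd (fun h => Nat.not_even_iff_odd.2 hodd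
    (even_iff_two_dvd.2 h)), add_zero, Nat.Prime.factorization_pow Nat.prime_two,
    Finsupp.single_eq_same]

/-- `U` as a Sylow subgroup. -/
def uSylow (hm : 1 ≤ m) (hF : Fintype.card F = 2 ^ (2 * m + 1)) : Sylow 2 (Sz F m) :=
  haveI : Fact (Nat.Prime 2) := ⟨Nat.prime_two⟩
  Sylow.ofCard (uGrp hF) (by rw [factorization_card hm hF, card_uGrp])

theorem coe_uSylow (hm : 1 ≤ m) (hF : Fintype.card F = 2 ^ (2 * m + 1)) :
    (uSylow hm hF : Subgroup (Sz F m)) = uGrp hF := rfl

theorem exists_conj_eq_uGrp (hm : 1 ≤ m) (hF : Fintype.card F = 2 ^ (2 * m + 1))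
    (P : Sylow 2 (Sz F m)) :
    ∃ g : Sz F m, (uGrp hF).map (MulAut.conj g).toMonoidHom = P := by
  haveI : Fact (Nat.Prime 2) := ⟨Nat.prime_two⟩
  obtain ⟨g, hg⟩ := MulAction.exists_smul_eq (Sz F m) (uSylow hm hF) P
  exact ⟨g, by rw [← hg]; rfl⟩

/-- Every Sylow 2-subgroup is isomorphic to `U`. -/
theorem sylowEquiv (hm : 1 ≤ m) (hF : Fintype.card F = 2 ^ (2 * m + 1))
    (P : Sylow 2 (Sz F m)) : Nonempty (uGrp hF ≃* (P : Subgroup (Sz F m))) := by
  haveI : Fact (Nat.Prime 2) := ⟨Nat.prime_two⟩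
  exact ⟨(uSylow hm hF).equiv P⟩

theorem uGrp_le_stab (hF : Fintype.card F = 2 ^ (2 * m + 1)) :
    uGrp hF ≤ MulAction.stabilizer (Sz F m) (suzukiPointInfinity F) := by
  rintro _ ⟨p, rfl⟩
  exact T_smul_inf _ _

theorem stab_eq (hm : 1 ≤ m) (hF : Fintype.card F = 2 ^ (2 * m + 1)) {g : Sz F m}
    (hg : g ∈ MulAction.stabilizer (Sz F m) (suzukiPointInfinity F)) :
    ∃ a b u, g = tS hF a b * hS hF u := by
  obtain ⟨a, b, u, h⟩ := exists_TH_of_fix hm hF g.2 hg
  exact ⟨a, b, u, Subtype.ext h⟩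

theorem hS_conj_tS (hF : Fintype.card F = 2 ^ (2 * m + 1)) (u : Fˣ) (a b : F) :
    hS hF u * tS hF a b * (hS hF u)⁻¹ =
      tS hF ((u : F) ^ 2 / th m (u : F) * a) (th m (u : F) * b) := by
  apply Subtype.ext
  show H m u * T m a b * (H m u)⁻¹ = _
  rw [H_conj_T hF, mul_inv_cancel_right]
  rfl

theorem normalizer_uGrp (hm : 1 ≤ m) (hF : Fintype.card F = 2 ^ (2 * m + 1)) :
    Subgroup.normalizer (uGrp hF : Set (Sz F m)) =
      MulAction.stabilizer (Sz F m) (suzukiPointInfinity F) := by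
  apply le_antisymm
  · intro g hg
    by_contra hne
    obtain ⟨x, y, hxy⟩ : ∃ x y, g.1 • suzukiPointInfinity F = aff m x y := by
      rcases mem_ovoid_iff.1 (smul_mem g.2 (inf_mem (F := F) (m := m))) with h | h
      exacts [absurd h hne, h]
    have hmem : g⁻¹ * tS hF 0 1 * g ∈ uGrp hF :=
      (Subgroup.mem_normalizer_iff''.1 hg _).1 ((mem_uGrp hF).2 ⟨0, 1, rfl⟩)
    have := uGrp_le_stab hF hmem
    change (g⁻¹ * tS hF 0 1 * g).1 • suzukiPointInfinity F = _ at this
    rw [Subgroup.coe_mul, Subgroup.coe_mul, InvMemClass.coe_inv, mul_smul, mul_smul, hxy,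
      inv_smul_eq_iff, hxy] at this
    change T m 0 1 • aff m x y = aff m x y at this
    rw [T_smul_aff hF] at this
    have := (aff_inj this).2
    simp at this
  · intro g hg
    obtain ⟨a, b, u, rfl⟩ := stab_eq hm hF hg
    refine Subgroup.mul_mem _ (Subgroup.le_normalizer ((mem_uGrp hF).2 ⟨a, b, rfl⟩)) ?_
    rw [Subgroup.mem_normalizer_iff]
    intro h
    constructor
    · rintro ⟨p, rfl⟩
      exact (mem_uGrp hF).2 ⟨_, _, (hS_conj_tS hF u p.1 p.2).symm⟩
    · rintro ⟨p, hp⟩
      have e : (hS hF u)⁻¹ = hS hF u⁻¹ := Subtype.ext (H_inv u)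
      refine (mem_uGrp hF).2 ⟨_, _, ((hS_conj_tS hF u⁻¹ p.1 p.2).symm.trans ?_)⟩
      simp only at hp
      rw [hp, ← e]
      group

theorem card_normalizer_uGrp (hm : 1 ≤ m) (hF : Fintype.card F = 2 ^ (2 * m + 1)) :
    Nat.card (Subgroup.normalizer (uGrp hF : Set (Sz F m))) =
      Fintype.card F ^ 2 * (Fintype.card F - 1) := by
  rw [normalizer_uGrp hm hF, card_stab_inf hm hF]

theorem index_normalizer_uGrp (hm : 1 ≤ m) (hF : Fintype.card F = 2 ^ (2 * m + 1)) :
    (Subgroup.normalizer (uGrp hF : Set (Sz F m))).index = Fintype.card F ^ 2 + 1 := by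
  rw [normalizer_uGrp hm hF, MulAction.index_stabilizer, orbit_inf hF, ← Nat.card_coe_set_eq,
    card_ovoid]

/-- `U` is regular on the affine points. -/
theorem uGrp_regular (hF : Fintype.card F = 2 ^ (2 * m + 1)) {p q : Projectivization F (Fin 4 → F)}
    (hp : p ∈ suzukiOvoid F m) (hq : q ∈ suzukiOvoid F m) (hp' : p ≠ suzukiPointInfinity F)
    (hq' : q ≠ suzukiPointInfinity F) : ∃! s : uGrp hF, (s : Sz F m).1 • p = q := by
  obtain ⟨x, y, rfl⟩ := (mem_ovoid_iff.1 hp).resolve_left hp'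
  obtain ⟨x', y', rfl⟩ := (mem_ovoid_iff.1 hq).resolve_left hq'
  refine ⟨⟨tS hF (x' + x) (y' + y + th m (x' + x) * x), (mem_uGrp hF).2 ⟨_, _, rfl⟩⟩, ?_, ?_⟩
  · show T m _ _ • aff m x y = _
    rw [T_smul_aff hF]
    congr 1
    · linear_combination x * two_zero hF
    · linear_combination (y + th m (x' + x) * x) * two_zero hF
  · rintro ⟨_, ⟨a, b⟩, rfl⟩ h
    change T m a b • aff m x y = aff m x' y' at h
    rw [T_smul_aff hF] at h
    obtain ⟨h1, h2⟩ := aff_inj h
    have ha : a = x' + x := by linear_combination h1 - x * two_zero hF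
    apply Subtype.ext
    show tS hF a b = _
    rw [ha] at h2 ⊢
    congr 1
    linear_combination h2 - (y + th m (x' + x) * x) * two_zero hF

theorem tS_comm_iff (hF : Fintype.card F = 2 ^ (2 * m + 1)) (a b c d : F) :
    tS hF a b * tS hF c d = tS hF c d * tS hF a b ↔ th m a * c = th m c * a := by
  rw [Subtype.ext_iff]
  show T m a b * T m c d = T m c d * T m a b ↔ _
  rw [T_mul hF, T_mul hF]
  constructor
  · intro h
    have := (T_inj h).2
    linear_combination this
  · intro h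
    rw [h, add_comm a c, add_comm b d]

theorem tS_central_iff (hm : 1 ≤ m) (hF : Fintype.card F = 2 ^ (2 * m + 1)) (a b : F) :
    (∀ c d : F, tS hF a b * tS hF c d = tS hF c d * tS hF a b) ↔ a = 0 := by
  simp only [tS_comm_iff]
  constructor
  · intro h
    by_contra ha
    have h1 : th m a = a := by simpa using h 1 0
    obtain ⟨u, hu⟩ := exists_unit_ne_one hm hF
    have h2 := h u 0
    rw [h1, mul_comm (th m (u : F))] at h2
    exact hu (Units.ext (th_eq_self hF (mul_left_cancel₀ ha h2).symm u.ne_zero))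
  · rintro rfl c d
    simp

/-- The centre `T(0, b)` of `U`. -/
def zHom (hF : Fintype.card F = 2 ^ (2 * m + 1)) : Multiplicative F →* uGrp hF where
  toFun b := ⟨tS hF 0 b.toAdd, (mem_uGrp hF).2 ⟨_, _, rfl⟩⟩
  map_one' := Subtype.ext (Subtype.ext T_zero)
  map_mul' b c := by
    apply Subtype.ext; apply Subtype.ext
    show T m (0 : F) (b.toAdd + c.toAdd) = T m 0 b.toAdd * T m 0 c.toAdd
    rw [T_mul hF]
    simp

theorem center_eq (hm : 1 ≤ m) (hF : Fintype.card F = 2 ^ (2 * m + 1)) :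
    Subgroup.center (uGrp hF) = (zHom hF).range := by
  ext ⟨g, hg⟩
  obtain ⟨a, b, rfl⟩ := (mem_uGrp hF).1 hg
  rw [Subgroup.mem_center_iff]
  constructor
  · intro h
    have ha : a = 0 := (tS_central_iff hm hF a b).1 fun c d =>
      (congrArg Subtype.val (h ⟨tS hF c d, (mem_uGrp hF).2 ⟨c, d, rfl⟩⟩)).symm
    subst ha
    exact ⟨Multiplicative.ofAdd b, rfl⟩
  · rintro ⟨c, hc⟩ ⟨k, hk⟩
    obtain ⟨x, y, rfl⟩ := (mem_uGrp hF).1 hk
    have ha : a = 0 := (T_inj (congrArg (fun g => g.1.1) hc)).1.symm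
    subst ha
    exact Subtype.ext ((tS_central_iff hm hF 0 b).2 rfl x y).symm

theorem card_center (hm : 1 ≤ m) (hF : Fintype.card F = 2 ^ (2 * m + 1)) :
    Nat.card (Subgroup.center (uGrp hF)) = Fintype.card F := by
  rw [center_eq hm hF]
  have hinj : Function.Injective (zHom (m := m) hF) := fun b c h =>
    Multiplicative.toAdd.injective (T_inj (congrArg (fun g => g.1.1) h)).2
  rw [← Nat.card_congr (MonoidHom.ofInjective hinj).toEquiv, Nat.card_congr Multiplicative.toAdd,
    Nat.card_eq_fintype_card]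

theorem tS_sq (hF : Fintype.card F = 2 ^ (2 * m + 1)) (a b : F) :
    tS hF a b * tS hF a b = tS hF 0 (th m a * a) := by
  apply Subtype.ext
  show T m a b * T m a b = T m 0 (th m a * a)
  rw [T_mul hF, add_self hF, add_self hF, zero_add]

theorem commutator_eq (hm : 1 ≤ m) (hF : Fintype.card F = 2 ^ (2 * m + 1)) :
    commutator (uGrp hF) = Subgroup.center (uGrp hF) := by
  have hc : ∀ a b c d : F, ⁅tS hF a b, tS hF c d⁆ = tS hF 0 (th m a * c + th m c * a) := by
    intro a b c d
    rw [commutatorElement_def, mul_inv_eq_iff_eq_mul, mul_inv_eq_iff_eq_mul]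
    apply Subtype.ext
    show T m a b * T m c d = T m 0 _ * T m c d * T m a b
    rw [T_mul hF, T_mul hF, T_mul hF]
    congr 1
    · ring
    · simp
      linear_combination -(th m c * a) * two_zero hF
  apply le_antisymm
  · rw [center_eq hm hF, commutator_def, Subgroup.commutator_le]
    rintro ⟨x, hx⟩ - ⟨y, hy⟩ -
    obtain ⟨a, b, rfl⟩ := (mem_uGrp hF).1 hx
    obtain ⟨c, d, rfl⟩ := (mem_uGrp hF).1 hy
    exact ⟨Multiplicative.ofAdd (th m a * c + th m c * a), Subtype.ext (hc a b c d).symm⟩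
  · rw [center_eq hm hF]
    rintro _ ⟨b, rfl⟩
    -- the image of `(a, c) ↦ th a * c + th c * a` spans `F`
    let K : AddSubgroup F :=
      { carrier := {t | zHom hF (Multiplicative.ofAdd t) ∈ commutator (uGrp hF)}
        zero_mem' := by simp
        add_mem' := fun {s t} hs ht => by
          simp only [Set.mem_ofPred_eq, ofAdd_add, map_mul] at hs ht ⊢
          exact mul_mem hs ht
        neg_mem' := fun {s} hs => by
          simp only [Set.mem_ofPred_eq, neg_eq hF] at hs ⊢
          exact hs }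
    have hK : ∀ a c, th m a * c + th m c * a ∈ K := by
      intro a c
      show zHom hF (Multiplicative.ofAdd (th m a * c + th m c * a)) ∈ commutator (uGrp hF)
      have : zHom hF (Multiplicative.ofAdd (th m a * c + th m c * a)) =
          ⁅(⟨tS hF a 0, (mem_uGrp hF).2 ⟨_, _, rfl⟩⟩ : uGrp hF),
            ⟨tS hF c 0, (mem_uGrp hF).2 ⟨_, _, rfl⟩⟩⁆ := Subtype.ext (hc a 0 c 0).symm
      rw [this, commutator_def]
      exact Subgroup.commutator_mem_commutator (Subgroup.mem_top _) (Subgroup.mem_top _)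
    obtain ⟨u, hu⟩ := exists_unit_ne_one hm hF
    have hne : th m (u : F) + u ≠ 0 := fun e =>
      hu (Units.ext (th_eq_self hF (by linear_combination e - (u : F) * two_zero hF) u.ne_zero))
    -- scale by `s^(σ+1)`, which runs over all of `F`
    have key : ∀ t : F, ∃ s, th m s * s = t := by
      have hinj : Function.Injective fun s : F => th m s * s := by
        intro s t (h : th m s * s = th m t * t)
        by_cases ht : t = 0
        · subst ht
          simp at h
          rcases h with h | h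
          exacts [th_eq_zero.1 h, h]
        · have hs : s ≠ 0 := fun e => by
            subst e
            simp at h
            rcases h with h | h
            exacts [ht (th_eq_zero.1 h), ht h]
          have h1 : th m (s / t) * (s / t) = 1 := by
            rw [th_div]
            have hth : th m t ≠ 0 := fun e => ht (th_eq_zero.1 e)
            field_simp
            exact h
          set r := s / t
          have h2 := congrArg (th m) h1
          rw [th_mul, th_th hF, th_one] at h2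
          have h3 : r = 1 := by
            linear_combination h2 - r * h1
          exact mul_left_cancel₀ (inv_ne_zero ht) (by rw [inv_mul_cancel₀ ht, mul_comm, ← div_eq_mul_inv]; exact h3)
      intro t
      exact Finite.injective_iff_surjective.1 hinj t
    obtain ⟨s, hs⟩ := key (b.toAdd / (th m (u : F) + u))
    have := hK (s * u) s
    rw [th_mul] at this
    have e : th m s * th m (u : F) * s + th m s * (s * u) = b.toAdd := by
      calc th m s * th m (u : F) * s + th m s * (s * u) = th m s * s * (th m (u : F) + u) := by ring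
        _ = b.toAdd := by rw [hs, div_mul_cancel₀ _ hne]
    rw [e] at this
    exact this

theorem exponent_uGrp (hF : Fintype.card F = 2 ^ (2 * m + 1)) :
    Monoid.exponent (uGrp hF) = 4 := by
  haveI : Fact (Nat.Prime 2) := ⟨Nat.prime_two⟩
  have h4 : Monoid.exponent (uGrp hF) ∣ 2 ^ 2 := by
    refine Monoid.exponent_dvd_of_forall_pow_eq_one fun ⟨g, hg⟩ => ?_
    obtain ⟨a, b, rfl⟩ := (mem_uGrp hF).1 hg
    apply Subtype.ext
    show tS hF a b ^ (2 ^ 2) = 1
    rw [show (2 ^ 2 : ℕ) = 2 + 2 by norm_num, pow_add, pow_two, tS_sq, tS_sq, th_zero, zero_mul]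
    exact Subtype.ext T_zero
  obtain ⟨i, hi, he⟩ := (Nat.dvd_prime_pow Nat.prime_two).1 h4
  have h2 : ¬ Monoid.exponent (uGrp hF) ∣ 2 := by
    intro h
    have := Monoid.exponent_dvd_iff_forall_pow_eq_one.1 h
      ⟨tS hF 1 0, (mem_uGrp hF).2 ⟨_, _, rfl⟩⟩
    have h' : tS hF (1 : F) 0 ^ 2 = 1 := congrArg Subtype.val this
    rw [pow_two, tS_sq] at h'
    have := (T_inj ((congrArg Subtype.val h').trans T_zero.symm)).2
    simp at this
  interval_cases i <;> simp [he] at h2 ⊢

end Cfsg.Agent.SZ
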