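/-
Suzuki groups: every automorphism is a product of an inner and a field automorphism.
-/
import Cfsg.Agent.Lib.Sz.Sylow

set_option autoImplicit false

namespace Cfsg.Agent.SZ

open Cfsg Matrix
open scoped Pointwise

variable {F : Type*} [Field F] [Fintype F] {m : ℕ}

omit [Fintype F] in
theorem slMap_T (σ : F ≃+* F) (a b : F) :
    SpecialLinearGroup.map σ.toRingHom (T m a b) = T m (σ a) (σ b) := by
  apply sl_ext
  show (tMat m a b).map σ = tMat m (σ a) (σ b)
  ext i j
  fin_cases i <;> fin_cases j <;> simp [tMat, zf, th]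

omit [Fintype F] in
theorem slMap_H (σ : F ≃+* F) (u : Fˣ) :
    SpecialLinearGroup.map σ.toRingHom (H m u) = H m (Units.map σ.toMonoidHom u) := by
  apply sl_ext
  show (Matrix.diagonal (hVec m u)).map σ = Matrix.diagonal (hVec m (Units.map σ.toMonoidHom u))
  ext i j
  fin_cases i <;> fin_cases j <;> simp [hVec, th]

omit [Fintype F] in
theorem slMap_W (σ : F ≃+* F) :
    SpecialLinearGroup.map σ.toRingHom (W : SpecialLinearGroup (Fin 4) F) = W := by
  apply sl_ext
  show (wMat : Matrix (Fin 4) (Fin 4) F).map σ = wMat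
  ext i j
  fin_cases i <;> fin_cases j <;> simp [wMat]

theorem slMap_mem (hm : 1 ≤ m) (hF : Fintype.card F = 2 ^ (2 * m + 1)) (σ : F ≃+* F)
    {g : SpecialLinearGroup (Fin 4) F} (hg : g ∈ Sz F m) :
    SpecialLinearGroup.map σ.toRingHom g ∈ Sz F m := by
  rcases bruhat hm hF hg with ⟨a, b, u, rfl⟩ | ⟨a, b, c, d, u, rfl⟩
  · rw [map_mul, slMap_T, slMap_H]
    exact Subgroup.mul_mem _ (T_mem hF _ _) (H_mem hF _)
  · rw [map_mul, map_mul, map_mul, slMap_T, slMap_T, slMap_H, slMap_W]
    exact Subgroup.mul_mem _ (Subgroup.mul_mem _ (T_mem hF _ _) (W_mem hF))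
      (Subgroup.mul_mem _ (T_mem hF _ _) (H_mem hF _))

omit [Fintype F] in
theorem slMap_symm (σ : F ≃+* F) (g : SpecialLinearGroup (Fin 4) F) :
    SpecialLinearGroup.map σ.symm.toRingHom (SpecialLinearGroup.map σ.toRingHom g) = g := by
  apply sl_ext
  show (g.1.map σ).map σ.symm = g.1
  ext i j; simp

/-- The field automorphism of `Sz` attached to `σ`. -/
def fieldAut (hm : 1 ≤ m) (hF : Fintype.card F = 2 ^ (2 * m + 1)) :
    RingAut F →* MulAut (Sz F m) where
  toFun σ :=
    { toFun := fun g => ⟨SpecialLinearGroup.map σ.toRingHom g.1, slMap_mem hm hF σ g.2⟩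
      invFun := fun g => ⟨SpecialLinearGroup.map σ.symm.toRingHom g.1, slMap_mem hm hF σ.symm g.2⟩
      left_inv := fun g => Subtype.ext (slMap_symm σ g.1)
      right_inv := fun g => Subtype.ext (by
        have := slMap_symm σ.symm g.1
        rwa [RingEquiv.symm_symm] at this)
      map_mul' := fun a b => Subtype.ext (map_mul _ a.1 b.1) }
  map_one' := by
    ext g : 1
    apply Subtype.ext; apply sl_ext
    show g.1.1.map (RingEquiv.refl F) = g.1.1
    ext i j; simp
  map_mul' σ τ := by
    ext g : 1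
    apply Subtype.ext; apply sl_ext
    show g.1.1.map (σ * τ) = (g.1.1.map τ).map σ
    ext i j; simp

section

variable (hm : 1 ≤ m) (hF : Fintype.card F = 2 ^ (2 * m + 1))

theorem fieldAut_tS (σ : RingAut F) (a b : F) :
    fieldAut hm hF σ (tS hF a b) = tS hF (σ a) (σ b) :=
  Subtype.ext (slMap_T σ a b)

theorem fieldAut_hS (σ : RingAut F) (u : Fˣ) :
    fieldAut hm hF σ (hS hF u) = hS hF (Units.map σ.toMonoidHom u) :=
  Subtype.ext (slMap_H σ u)

theorem fieldAut_wS (σ : RingAut F) : fieldAut hm hF σ (wS hF) = wS hF :=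
  Subtype.ext (slMap_W σ)

include hF

theorem tS_mul (a b c d : F) :
    tS hF a b * tS hF c d = tS hF (a + c) (b + d + th m a * c) :=
  Subtype.ext (T_mul hF a b c d)

theorem tS_inj {a b c d : F} (h : tS hF a b = tS (m := m) hF c d) : a = c ∧ b = d :=
  T_inj (congrArg Subtype.val h)

theorem hS_mul (u v : Fˣ) : hS (m := m) hF (u * v) = hS hF u * hS hF v :=
  Subtype.ext (H_mul u v)

theorem th_surj (x : Fˣ) : ∃ u : Fˣ, th m (u : F) = x := by
  obtain ⟨y, hy⟩ := Finite.injective_iff_surjective.1 (fun _ _ h => th_inj hF h) (x : F)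
  refine ⟨Units.mk0 y fun h => x.ne_zero ?_, hy⟩
  rw [← hy, h]; exact th_zero

theorem k_surj {x : F} (hx : x ≠ 0) :
    ∃ u : Fˣ, (u : F) ^ 2 / th m (u : F) = x ∧ th m (u : F) = th m x * x := by
  have hinj : Function.Injective fun u : Fˣ => (u : F) ^ 2 / th m (u : F) := by
    intro u v (h : (u : F) ^ 2 / th m (u : F) = (v : F) ^ 2 / th m (v : F))
    have hu : th m (u : F) ≠ 0 := fun e => u.ne_zero (th_eq_zero.1 e)
    have hv : th m (v : F) ≠ 0 := fun e => v.ne_zero (th_eq_zero.1 e)
    have hv' : (v : F) ≠ 0 := v.ne_zero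
    have h1 : th m ((u : F) / v) = ((u : F) / v) ^ 2 := by
      rw [th_div]
      field_simp at h ⊢
      linear_combination -h
    have := th_eq_sq hF h1 (div_ne_zero u.ne_zero hv')
    exact Units.ext ((div_eq_one_iff_eq hv').1 this)
  let g : Fˣ → Fˣ := fun u => Units.mk0 ((u : F) ^ 2 / th m (u : F))
    (div_ne_zero (pow_ne_zero 2 u.ne_zero) fun e => u.ne_zero (th_eq_zero.1 e))
  have hg : Function.Injective g := fun u v h => hinj (congrArg Units.val h)
  obtain ⟨u, hu⟩ := Finite.injective_iff_surjective.1 hg (Units.mk0 x hx)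
  have hu' : (u : F) ^ 2 / th m (u : F) = x := congrArg Units.val hu
  refine ⟨u, hu', ?_⟩
  have h1 : th m (u : F) ≠ 0 := fun e => u.ne_zero (th_eq_zero.1 e)
  have h2 : (u : F) ≠ 0 := u.ne_zero
  rw [← hu', th_div, th_th hF, th_pow]
  field_simp

include hm in
/-- An automorphism fixing `∞` and `0` and fixing the translations is trivial. -/
theorem eq_one_of_fix (α : MulAut (Sz F m))
    (hinf : ∀ g : Sz F m, g.1 • suzukiPointInfinity F = suzukiPointInfinity F →
      (α g).1 • suzukiPointInfinity F = suzukiPointInfinity F)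
    (hW : (α (wS hF)).1 • suzukiPointInfinity F = suzukiPointZero F)
    (hT : ∀ a b, α (tS hF a b) = tS hF a b) : α = 1 := by
  have hπ : ∀ (g : Sz F m) p, p ∈ suzukiOvoid F m → g.1 • suzukiPointInfinity F = p →
      (α g).1 • suzukiPointInfinity F = p := by
    intro g p hp h
    rcases mem_ovoid_iff.1 hp with rfl | ⟨x, y, rfl⟩
    · exact hinf g h
    · have h1 : (tS hF x y * wS hF).1 • suzukiPointInfinity F = aff m x y := by
        show (T m x y * W) • _ = _
        rw [mul_smul, W_smul_inf, zero_eq_aff (m := m), T_smul_aff hF]; simp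
      have h2 := hinf ((tS hF x y * wS hF)⁻¹ * g) (by
        rw [Subgroup.coe_mul, InvMemClass.coe_inv, mul_smul, h, inv_smul_eq_iff, h1])
      rw [map_mul, map_inv, map_mul, hT, Subgroup.coe_mul, InvMemClass.coe_inv, mul_smul,
        inv_smul_eq_iff] at h2
      rw [h2, Subgroup.coe_mul, mul_smul, hW]
      show T m x y • _ = _
      rw [zero_eq_aff (m := m), T_smul_aff hF]; simp
  ext g : 1
  have hall : ∀ p ∈ suzukiOvoid F m, (g⁻¹ * α g).1 • p = p := by
    intro p hp
    obtain ⟨h, rfl⟩ : p ∈ MulAction.orbit (Sz F m) (suzukiPointInfinity F) := by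
      rw [orbit_inf hF]; exact hp
    have h1 := hπ h _ hp rfl
    have h2 := hπ (g * h) _ (smul_mem g.2 hp) (mul_smul g.1 h.1 _)
    rw [map_mul, Subgroup.coe_mul, mul_smul, h1] at h2
    rw [Subgroup.coe_mul, mul_smul, h2, InvMemClass.coe_inv, inv_smul_smul]
  have e : g⁻¹ * α g = 1 := Subtype.ext (three_points hm hF (g⁻¹ * α g).2 inf_mem
    (aff_mem 0 0) (aff_mem 0 1) (aff_ne_inf 0 0).symm (fun e => zero_ne_one (aff_inj e).2)
    (aff_ne_inf 0 1).symm (hall _ inf_mem) (hall _ (aff_mem 0 0)) (hall _ (aff_mem 0 1)))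
  exact (inv_mul_eq_one.1 e).symm

include hm in
/-- Normalised automorphisms are field automorphisms times a torus element. -/
theorem exists_field_of_fix (α : MulAut (Sz F m))
    (hBst : ∀ g : Sz F m, (α g).1 • suzukiPointInfinity F = suzukiPointInfinity F ↔
      g.1 • suzukiPointInfinity F = suzukiPointInfinity F)
    (hU : ∀ g, g ∈ uGrp hF → α g ∈ uGrp hF)
    (hW : (α (wS hF)).1 • suzukiPointInfinity F = suzukiPointZero F) :
    ∃ (σ : RingAut F) (v : Fˣ), α = MulAut.conj (hS hF v) * fieldAut hm hF σ := by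
  -- the image of a torus element
  have hH : ∀ u, ∃ v, α (hS hF u) = hS hF v := by
    intro u
    obtain ⟨v, hv⟩ := exists_H_of_fix hm hF (α (hS hF u)).2 ((hBst _).2 (H_smul_inf u)) (by
      have h1 : ((wS hF)⁻¹ * hS hF u * wS hF).1 • suzukiPointInfinity F = suzukiPointInfinity F := by
        show (W⁻¹ * H m u * W) • _ = _
        rw [mul_smul, mul_smul, W_smul_inf, H_smul_zero, inv_smul_eq_iff, W_smul_inf]
      have h2 := (hBst _).2 h1
      rw [map_mul, map_mul, map_inv, Subgroup.coe_mul, Subgroup.coe_mul, InvMemClass.coe_inv,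
        mul_smul, mul_smul, hW, inv_smul_eq_iff, hW] at h2
      exact h2)
    exact ⟨v, Subtype.ext hv⟩
  choose η hη using hH
  have hT : ∀ a b, ∃ c d, α (tS hF a b) = tS hF c d := fun a b => by
    obtain ⟨c, d, h⟩ := (mem_uGrp hF).1 (hU _ ((mem_uGrp hF).2 ⟨a, b, rfl⟩))
    exact ⟨c, d, h.symm⟩
  choose A B hAB using hT
  have hadd : ∀ a b c d, A (a + c) (b + d + th m a * c) = A a b + A c d ∧
      B (a + c) (b + d + th m a * c) = B a b + B c d + th m (A a b) * A c d := by
    intro a b c d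
    refine tS_inj hF (m := m) ?_
    rw [← hAB, ← tS_mul hF, map_mul, hAB, hAB, tS_mul hF]
  have hequiv : ∀ u a b, A ((u : Fˣ) ^ 2 / th m (u : F) * a) (th m (u : F) * b) =
        (η u : F) ^ 2 / th m (η u : F) * A a b ∧
      B ((u : F) ^ 2 / th m (u : F) * a) (th m (u : F) * b) = th m (η u : F) * B a b := by
    intro u a b
    refine tS_inj hF (m := m) ?_
    rw [← hAB, ← hS_conj_tS hF, map_mul, map_mul, map_inv, hη, hAB, hS_conj_tS hF]
  have hsq : ∀ a b, A 0 (th m a * a) = 0 ∧ B 0 (th m a * a) = th m (A a b) * A a b := by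
    intro a b
    refine tS_inj hF (m := m) ?_
    rw [← hAB, ← tS_sq hF a b, map_mul, hAB, tS_sq hF]
  have hsurjsq : ∀ x : F, ∃ a, th m a * a = x := by
    intro x
    rcases eq_or_ne x 0 with rfl | hx
    · exact ⟨0, by simp⟩
    obtain ⟨u, hu⟩ := th_surj hF (Units.mk0 x hx)
    have hu' : th m (u : F) ≠ 0 := fun e => u.ne_zero (th_eq_zero.1 e)
    have hu0 : (u : F) ≠ 0 := u.ne_zero
    refine ⟨(u : F) ^ 2 / th m (u : F), ?_⟩
    rw [th_div, th_th hF, th_pow]
    field_simp
    simpa using hu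
  have hA0 : ∀ b, A 0 b = 0 := fun b => by
    obtain ⟨a, rfl⟩ := hsurjsq b
    exact (hsq a 0).1
  have hcentral : ∀ a b, A a b = A a 0 ∧ B a b = B a 0 + B 0 b := by
    intro a b
    have := hadd a 0 0 b
    simp [hA0] at this
    exact this
  have hBadd : ∀ b d, B 0 (b + d) = B 0 b + B 0 d := by
    intro b d
    have := (hadd 0 b 0 d).2
    simpa [hA0] using this
  have hAadd : ∀ a c, A (a + c) 0 = A a 0 + A c 0 := by
    intro a c
    have := (hadd a 0 c 0).1
    rw [(hcentral (a + c) _).1] at this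
    exact this
  set c₀ := B 0 1 with hc₀def
  have hc₀ : c₀ ≠ 0 := by
    intro h
    have e : α (tS hF 0 1) = α 1 := by
      rw [map_one, hAB, hA0, ← hc₀def, h]
      exact Subtype.ext T_zero
    have := congrArg Subtype.val (α.injective e)
    exact one_ne_zero (T_inj (this.trans T_zero.symm)).2
  have hBmul : ∀ u : Fˣ, B 0 (th m (u : F)) = th m (η u : F) * c₀ := fun u => by
    have := (hequiv u 0 1).2
    simpa using this
  let s : F → F := fun x => B 0 x / c₀
  have s0 : s 0 = 0 := by
    have := hBadd 0 0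
    rw [add_zero] at this
    simp [s, left_eq_add.1 this]
  have hs_th : ∀ u : Fˣ, s (th m (u : F)) = th m (η u : F) := fun u => by
    show B 0 _ / c₀ = _
    rw [hBmul, mul_div_cancel_right₀ _ hc₀]
  have hηmul : ∀ u v, η (u * v) = η u * η v := by
    intro u v
    refine H_inj (m := m) (congrArg Subtype.val (?_ : hS hF (η (u * v)) = hS hF (η u * η v)))
    rw [← hη, hS_mul, map_mul, hη, hη, ← hS_mul]
  have smul' : ∀ x y, s (x * y) = s x * s y := by
    intro x y
    rcases eq_or_ne x 0 with rfl | hx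
    · simp [s0]
    rcases eq_or_ne y 0 with rfl | hy
    · simp [s0]
    obtain ⟨u, hu⟩ := th_surj hF (Units.mk0 x hx)
    obtain ⟨v, hv⟩ := th_surj hF (Units.mk0 y hy)
    simp only [Units.val_mk0] at hu hv
    rw [← hu, ← hv, ← th_mul, hs_th, hs_th, ← Units.val_mul, hs_th, hηmul, Units.val_mul, th_mul]
  have s1 : s 1 = 1 := div_self hc₀
  let sHom : F →+* F :=
    { toFun := s, map_one' := s1, map_mul' := smul', map_zero' := s0
      map_add' := fun x y => by show B 0 _ / c₀ = _ / c₀ + _ / c₀; rw [hBadd, add_div] }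
  let σ : RingAut F := RingEquiv.ofBijective sHom (Finite.injective_iff_bijective.1 sHom.injective)
  have hση : ∀ u : Fˣ, (η u : F) = σ u := by
    intro u
    refine th_inj hF (m := m) ?_
    rw [← hs_th]
    show sHom (th m (u : F)) = th m (sHom u)
    exact map_pow sHom _ _
  have hth_σ : ∀ x : F, σ (th m x) = th m (σ x) := fun x => map_pow σ _ _
  have hB0 : ∀ b, B 0 b = c₀ * σ b := fun b => by
    show _ = c₀ * (B 0 b / c₀)
    rw [mul_div_cancel₀ _ hc₀]
  set a₀ := A 1 0 with ha₀
  have hA : ∀ a, A a 0 = a₀ * σ a := by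
    intro a
    rcases eq_or_ne a 0 with rfl | ha
    · simp [hA0]
    obtain ⟨u, hu, -⟩ := k_surj hF ha
    have := (hequiv u 1 0).1
    rw [mul_one, mul_zero, hu, hση] at this
    rw [this, ← hu, map_div₀, map_pow, hth_σ, ← ha₀]
    ring
  have hc_a : c₀ = th m a₀ * a₀ := by
    have := (hsq 1 0).2
    simp at this
    exact this
  have ha0 : a₀ ≠ 0 := fun h => hc₀ (by rw [hc_a, h, mul_zero])
  have hB : ∀ a, B a 0 = B 1 0 * (th m (σ a) * σ a) := by
    intro a
    rcases eq_or_ne a 0 with rfl | ha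
    · have := hB0 0
      simp at this ⊢
      exact this
    obtain ⟨u, hu, hu'⟩ := k_surj hF ha
    have := (hequiv u 1 0).2
    rw [mul_one, mul_zero, hu, hση, ← hth_σ, hu', map_mul, hth_σ] at this
    rw [this]; ring
  have hB10 : B 1 0 = 0 := by
    -- evaluate at a sum
    obtain ⟨x, hx0, hx1⟩ : ∃ x : F, x ≠ 0 ∧ x ≠ 1 := by
      obtain ⟨u, hu⟩ := exists_unit_ne_one hm hF
      exact ⟨u, u.ne_zero, fun e => hu (Units.ext e)⟩
    have h1 := (hadd x 0 1 0).2
    rw [(hcentral (x + 1) _).2, hB (x + 1), hB x, hA, hA] at h1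
    simp only [zero_add, mul_one, map_add, map_one, th_add hF, th_one, hB0] at h1
    have e : B 1 0 * (th m (σ x) + σ x) = 0 := by
      rw [hth_σ, hc_a, th_mul] at h1
      linear_combination h1
    rcases mul_eq_zero.1 e with h | h
    · exact h
    · exfalso
      have : th m (σ x) = σ x := by linear_combination h - (σ x) * two_zero hF
      have := th_eq_self hF this ((map_ne_zero_iff σ σ.injective).2 hx0)
      exact hx1 (σ.injective (this.trans (map_one σ).symm))
  obtain ⟨v, hv, hv'⟩ := k_surj hF (m := m) ha0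
  refine ⟨σ, v, ?_⟩
  have hTeq : ∀ a b, α (tS hF a b) = tS hF (a₀ * σ a) (c₀ * σ b) := fun a b => by
    rw [hAB, (hcentral a b).1, (hcentral a b).2, hA, hB, hB10, zero_mul, zero_add, hB0]
  have key : (MulAut.conj (hS hF v) * fieldAut hm hF σ)⁻¹ * α = 1 := by
    set β := MulAut.conj (hS hF v) * fieldAut hm hF σ with hβ
    have hβT : ∀ a b, β (tS hF a b) = α (tS hF a b) := fun a b => by
      rw [hTeq, hβ, MulAut.mul_apply, fieldAut_tS, MulAut.conj_apply, hS_conj_tS hF, hv, hv', ← hc_a]
    have hβW : (β (wS hF)).1 • suzukiPointInfinity F = suzukiPointZero F := by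
      rw [hβ, MulAut.mul_apply, fieldAut_wS, MulAut.conj_apply]
      show (H m v * W * (H m v)⁻¹) • _ = _
      rw [mul_smul, mul_smul, inv_smul_eq_iff.2 (H_smul_inf v).symm, W_smul_inf, H_smul_zero]
    have hβinf : ∀ g : Sz F m, g.1 • suzukiPointInfinity F = suzukiPointInfinity F →
        (β g).1 • suzukiPointInfinity F = suzukiPointInfinity F := by
      intro g hg
      obtain ⟨a, b, u, rfl⟩ := stab_eq hm hF (g := g) hg
      rw [hβ, MulAut.mul_apply, map_mul, fieldAut_tS, fieldAut_hS, MulAut.conj_apply]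
      show (H m v * (T m _ _ * H m _) * (H m v)⁻¹) • _ = _
      rw [mul_smul, mul_smul, inv_smul_eq_iff.2 (H_smul_inf v).symm, mul_smul, H_smul_inf,
        T_smul_inf, H_smul_inf]
    have hβinf' : ∀ g : Sz F m, (β g).1 • suzukiPointInfinity F = suzukiPointInfinity F →
        g.1 • suzukiPointInfinity F = suzukiPointInfinity F := by
      intro g hg
      rcases bruhat hm hF g.2 with ⟨a, b, u, h⟩ | ⟨a, b, c, d, u, h⟩
      · rw [h, mul_smul, H_smul_inf, T_smul_inf]
      · exfalso
        have e : g = tS hF a b * wS hF * (tS hF c d * hS hF u) := Subtype.ext h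
        have h1 := hβinf (tS hF c d * hS hF u) (by
          show (T m c d * H m u) • _ = _; rw [mul_smul, H_smul_inf, T_smul_inf])
        rw [e, map_mul, Subgroup.coe_mul, mul_smul, h1, map_mul, Subgroup.coe_mul, mul_smul, hβW,
          hβT, hTeq] at hg
        change T m _ _ • suzukiPointZero F = _ at hg
        rw [zero_eq_aff (m := m), T_smul_aff hF] at hg
        exact aff_ne_inf _ _ hg
    refine eq_one_of_fix hm hF _ (fun g hg => hβinf' _ ?_) ?_ (fun a b => ?_)
    · show (β (β⁻¹ (α g))).1 • _ = _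
      rw [MulAut.apply_inv_self]; exact (hBst g).2 hg
    · have h1 : ((wS hF)⁻¹ * (β⁻¹ * α) (wS hF)).1 • suzukiPointInfinity F = suzukiPointInfinity F := by
        apply hβinf'
        rw [map_mul, show β ((β⁻¹ * α) (wS hF)) = α (wS hF) from MulAut.apply_inv_self _ _ _,
          map_inv, Subgroup.coe_mul,
          InvMemClass.coe_inv, mul_smul, hW, inv_smul_eq_iff, hβW]
      rw [Subgroup.coe_mul, InvMemClass.coe_inv, mul_smul, inv_smul_eq_iff] at h1
      exact h1.trans W_smul_inf
    · rw [MulAut.mul_apply, ← hβT, MulAut.inv_apply_self]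
  exact (inv_mul_eq_one.1 key).symm

include hm in
/-- Every automorphism of `Sz` is inner times field. -/
theorem exists_conj_fieldAut (α : MulAut (Sz F m)) :
    ∃ (g : Sz F m) (σ : RingAut F), α = MulAut.conj g * fieldAut hm hF σ := by
  haveI : Fact (Nat.Prime 2) := ⟨Nat.prime_two⟩
  -- normalise on U
  let P : Sylow 2 (Sz F m) := Sylow.ofCard ((uGrp hF).map α.toMonoidHom) (by
    rw [← Nat.card_congr ((uGrp hF).equivMapOfInjective α.toMonoidHom α.injective).toEquiv,
      card_uGrp, factorization_card hm hF])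
  obtain ⟨g, hg⟩ := exists_conj_eq_uGrp hm hF P
  let α₁ := (MulAut.conj g)⁻¹ * α
  have hU1 : (uGrp hF).map α₁.toMonoidHom = uGrp hF := by
    have e : (uGrp hF).map α₁.toMonoidHom =
        ((uGrp hF).map α.toMonoidHom).map ((MulAut.conj g)⁻¹).toMonoidHom := by
      rw [Subgroup.map_map]; rfl
    have hg' : (uGrp hF).map α.toMonoidHom = (uGrp hF).map (MulAut.conj g).toMonoidHom := hg.symm
    rw [e, hg', Subgroup.map_map]
    convert Subgroup.map_id (uGrp hF)
    refine MonoidHom.ext fun x => ?_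
    simp [MulAut.inv_apply, MulAut.conj_symm_apply, mul_assoc]
  have hB1 : ∀ x : Sz F m, (α₁ x).1 • suzukiPointInfinity F = suzukiPointInfinity F ↔
      x.1 • suzukiPointInfinity F = suzukiPointInfinity F := by
    intro x
    show α₁ x ∈ MulAction.stabilizer (Sz F m) (suzukiPointInfinity F) ↔
      x ∈ MulAction.stabilizer (Sz F m) (suzukiPointInfinity F)
    rw [← normalizer_uGrp hm hF, Subgroup.mem_normalizer_iff, Subgroup.mem_normalizer_iff]
    have hmem : ∀ y, α₁ y ∈ uGrp hF ↔ y ∈ uGrp hF := fun y => by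
      conv_lhs => rw [← hU1]
      exact Subgroup.mem_map_iff_mem α₁.injective
    constructor
    · intro h y
      have := h (α₁ y)
      rwa [← map_inv, ← map_mul, ← map_mul, hmem, hmem] at this
    · intro h y
      obtain ⟨y, rfl⟩ := α₁.surjective y
      rw [← map_inv, ← map_mul, ← map_mul, hmem, hmem]
      exact h y
  obtain ⟨x, y, hxy⟩ : ∃ x y, (α₁ (wS hF)).1 • suzukiPointInfinity F = aff m x y := by
    rcases mem_ovoid_iff.1 (smul_mem (α₁ (wS hF)).2 inf_mem) with h | h
    · have := (hB1 _).1 h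
      rw [show (wS hF).1 • suzukiPointInfinity F = suzukiPointZero F from W_smul_inf,
        zero_eq_aff (m := m)] at this
      exact absurd this (aff_ne_inf 0 0)
    · exact h
  let α₂ := (MulAut.conj (tS hF x y))⁻¹ * α₁
  have hα₂ : ∀ z, α₂ z = (tS hF x y)⁻¹ * α₁ z * tS hF x y := fun z => by
    simp [α₂, MulAut.conj_symm_apply, MulAut.inv_apply]
  have ht : (tS hF x y).1 • suzukiPointInfinity F = suzukiPointInfinity F := T_smul_inf x y
  obtain ⟨σ, v, hv⟩ := exists_field_of_fix hm hF α₂
    (fun z => by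
      rw [hα₂, ← hB1 z, Subgroup.coe_mul, Subgroup.coe_mul, InvMemClass.coe_inv, mul_smul,
        mul_smul, ht, inv_smul_eq_iff, ht])
    (fun z hz => by
      rw [hα₂]
      refine mul_mem (mul_mem (inv_mem ((mem_uGrp hF).2 ⟨x, y, rfl⟩)) ?_)
        ((mem_uGrp hF).2 ⟨x, y, rfl⟩)
      rw [← hU1]; exact ⟨z, hz, rfl⟩)
    (by
      rw [hα₂, Subgroup.coe_mul, Subgroup.coe_mul, InvMemClass.coe_inv, mul_smul, mul_smul, ht,
        hxy, inv_smul_eq_iff, zero_eq_aff (m := m)]
      show _ = T m x y • _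
      rw [T_smul_aff hF]; simp)
  refine ⟨g * tS hF x y * hS hF v, σ, ?_⟩
  rw [map_mul, map_mul]
  have : α = MulAut.conj g * MulAut.conj (tS hF x y) * α₂ := by
    simp only [α₂, α₁, mul_assoc, mul_inv_cancel_left]
  rw [this, hv, ← mul_assoc]

include hm in
theorem fieldAut_inner_imp {σ : RingAut F} {g : Sz F m} (h : fieldAut hm hF σ = MulAut.conj g) :
    σ = 1 := by
  have e1 : tS hF 0 1 * g = g * tS hF 0 1 := by
    have := congrArg (fun φ : MulAut (Sz F m) => φ (tS hF 0 1)) h
    simp only [fieldAut_tS, map_zero, map_one, MulAut.conj_apply] at this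
    exact (mul_inv_eq_iff_eq_mul.1 this.symm).symm
  have hginf : g.1 • suzukiPointInfinity F = suzukiPointInfinity F := by
    rcases mem_ovoid_iff.1 (smul_mem g.2 (inf_mem (F := F) (m := m))) with hp | ⟨x, y, hp⟩
    · exact hp
    · exfalso
      have := congrArg (fun z : Sz F m => z.1 • suzukiPointInfinity F) e1
      simp only [Subgroup.coe_mul, mul_smul] at this
      rw [hp] at this
      change T m 0 1 • aff m x y = g.1 • (T m 0 1 • suzukiPointInfinity F) at this
      rw [T_smul_inf, hp, T_smul_aff hF] at this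
      simpa using (aff_inj this).2
  have e2 : wS hF * g = g * wS hF := by
    have := congrArg (fun φ : MulAut (Sz F m) => φ (wS hF)) h
    simp only [fieldAut_wS, MulAut.conj_apply] at this
    exact (mul_inv_eq_iff_eq_mul.1 this.symm).symm
  have hg0 : g.1 • suzukiPointZero F = suzukiPointZero F := by
    have := congrArg (fun z : Sz F m => z.1 • suzukiPointInfinity F) e2
    simp only [Subgroup.coe_mul, mul_smul, hginf] at this
    change W • suzukiPointInfinity F = g.1 • ((W : SpecialLinearGroup (Fin 4) F) • suzukiPointInfinity F) at this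
    rw [W_smul_inf] at this
    exact this.symm
  obtain ⟨u, hu⟩ := exists_H_of_fix hm hF g.2 hginf hg0
  have hu' : g = hS hF u := Subtype.ext hu
  ext b
  have := congrArg (fun φ : MulAut (Sz F m) => φ (tS hF 0 b)) h
  simp only [fieldAut_tS, MulAut.conj_apply, hu', hS_conj_tS hF] at this
  have hb := (tS_inj hF this).2
  have h1 := congrArg (fun φ : MulAut (Sz F m) => φ (tS hF 0 1)) h
  simp only [fieldAut_tS, MulAut.conj_apply, hu', hS_conj_tS hF] at h1
  have hu1 := (tS_inj hF h1).2
  rw [map_one, mul_one] at hu1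
  rw [hb, ← hu1, one_mul]
  rfl

end

theorem card_out (hm : 1 ≤ m) (hF : Fintype.card F = 2 ^ (2 * m + 1)) :
    Nat.card (MulAut (Sz F m) ⧸ (MulAut.conj : Sz F m →* MulAut (Sz F m)).range) =
      Nat.card (RingAut F) := by
  symm
  refine Nat.card_eq_of_bijective (fun σ => QuotientGroup.mk (fieldAut hm hF σ)) ⟨?_, ?_⟩
  · intro σ τ h
    obtain ⟨g, hg⟩ := QuotientGroup.eq.1 h
    have := fieldAut_inner_imp hm hF (σ := σ⁻¹ * τ) (g := g) (by rw [map_mul, map_inv, hg])
    exact inv_mul_eq_one.1 this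
  · intro q
    obtain ⟨α, rfl⟩ := QuotientGroup.mk_surjective q
    obtain ⟨g, σ, rfl⟩ := exists_conj_fieldAut hm hF α
    refine ⟨σ, QuotientGroup.eq.2 ⟨(fieldAut hm hF σ).symm g, ?_⟩⟩
    ext z : 1
    simp [MulAut.mul_apply, MulAut.conj_apply, MulAut.inv_apply]

theorem card_ringAut (hF : Fintype.card F = 2 ^ (2 * m + 1)) :
    Nat.card (RingAut F) = 2 * m + 1 := by
  haveI : Fact (Nat.Prime 2) := ⟨Nat.prime_two⟩
  haveI := charTwo hF
  letI := ZMod.algebra F 2
  haveI : Module.Finite (ZMod 2) F := Module.Finite.of_finite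
  have e : (F ≃ₐ[ZMod 2] F) ≃ RingAut F :=
    { toFun := fun f => f.toRingEquiv
      invFun := fun f => AlgEquiv.ofRingEquiv (f := f) fun x =>
        RingHom.congr_fun (RingHom.ext_zmod (f.toRingHom.comp (algebraMap (ZMod 2) F))
          (algebraMap (ZMod 2) F)) x
      left_inv := fun f => by ext; rfl
      right_inv := fun f => by ext; rfl }
  rw [← Nat.card_congr e, IsGalois.card_aut_eq_finrank]
  have h := Module.card_eq_pow_finrank (K := ZMod 2) (V := F)
  rw [hF, ZMod.card] at h
  exact (Nat.pow_right_injective le_rfl h).symm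

end Cfsg.Agent.SZ
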