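/-
Suzuki groups, part 4: the two models of the Suzuki group coincide.
-/
import Cfsg.Agent.Lib.Sz.Simple
import Cfsg.Agent.Lib.Suzuki4.Basic

set_option autoImplicit false

namespace Cfsg.Agent.SZ

open Cfsg Matrix
open scoped Pointwise

variable {F : Type*} [Field F] [Fintype F] {m : ℕ}

/-- The twisted two-by-two minors of a pair of vectors. -/
def minors (v u : Fin 4 → F) : Fin 4 → F := fun p =>
  v (Lie.pairOf p).1 * u (Lie.pairOf p).2 - v (Lie.pairOf p).2 * u (Lie.pairOf p).1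

/-- Coordinate-free characterisation of the ovoid vectors. -/
def OvoidVec (m : ℕ) (v : Fin 4 → F) : Prop :=
  v ≠ 0 ∧ ∃ (u : Fin 4 → F) (c : F), c ≠ 0 ∧ bf v u = 0 ∧ ∀ p, minors v u p = c * th m (v p)

theorem ovoidVec_inf (hF : Fintype.card F = 2 ^ (2 * m + 1)) : OvoidVec m (pInfV : Fin 4 → F) := by
  refine ⟨pInfV_ne, ![0, 1, 0, 0], 1, one_ne_zero, by simp [bf, pInfV], fun p => ?_⟩
  fin_cases p <;> simp [minors, Lie.pairOf, pInfV]

theorem ovoidVec_pt (hF : Fintype.card F = 2 ^ (2 * m + 1)) (x y : F) : OvoidVec m (pt m x y) := by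
  have h2 := two_zero hF
  refine ⟨pt_ne m x y, ![y + th m x * x, th m x, 1, 0], 1, one_ne_zero, ?_, fun p => ?_⟩
  · simp [bf, pt]
    linear_combination (y + th m x * x) * h2
  · fin_cases p <;> simp [minors, Lie.pairOf, pt, zf, th_add hF, th_mul, th_th hF, th_pow]
    · linear_combination -y ^ 2 * h2
    · ring
    · linear_combination -th m x * h2
    · linear_combination -h2

theorem ovoidVec_smul (hF : Fintype.card F = 2 ^ (2 * m + 1)) {v : Fin 4 → F} (h : OvoidVec m v)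
    {a : F} (ha : a ≠ 0) : OvoidVec m (a • v) := by
  obtain ⟨hv, u, c, hc, hb, hp⟩ := h
  have hta : th m a ≠ 0 := fun e => ha (th_eq_zero.1 e)
  refine ⟨smul_ne_zero ha hv, u, a * c / th m a, div_ne_zero (mul_ne_zero ha hc) hta, ?_, fun p => ?_⟩
  · have : bf (a • v) u = a * bf v u := by simp [bf]; ring
    rw [this, hb, mul_zero]
  · have : minors (a • v) u p = a * minors v u p := by simp [minors]; ring
    rw [this, hp, Pi.smul_apply, smul_eq_mul, th_mul]
    field_simp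

theorem minors_mulVec (hF : Fintype.card F = 2 ^ (2 * m + 1)) {g : Matrix (Fin 4) (Fin 4) F}
    (hg : g * Suzuki4.J * gᵀ = Suzuki4.J) {v u : Fin 4 → F} (hb : bf v u = 0) (p : Fin 4) :
    minors (g *ᵥ v) (g *ᵥ u) p = ∑ r, Lie.star4 g p r * minors v u r := by
  have h2 := two_zero hF
  have hneg := neg_eq hF
  set k := (Lie.pairOf p).1 with hk
  set l := (Lie.pairOf p).2 with hl
  have hkl : (Suzuki4.J : Matrix (Fin 4) (Fin 4) F) k l = 0 := by
    fin_cases p <;> simp [hk, hl, Lie.pairOf, Suzuki4.J]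
  have e1 := congrFun (congrFun hg k) l
  rw [hkl] at e1
  simp [Suzuki4.J, Matrix.mul_apply, Fin.sum_univ_four] at e1
  simp only [bf] at hb
  simp only [minors, Lie.star4, ← hk, ← hl, Matrix.of_apply, Fin.sum_univ_four, Matrix.mulVec,
    dotProduct]
  simp [Lie.pairOf]
  grind

theorem ovoidVec_map (hF : Fintype.card F = 2 ^ (2 * m + 1)) {g : SpecialLinearGroup (Fin 4) F}
    (hg : g.1 * Suzuki4.J * g.1ᵀ = Suzuki4.J) (hgp : Pres g)
    (hst : Lie.star4 g.1 = g.1.map (fun x => x ^ 2 ^ (m + 1))) {v : Fin 4 → F} (h : OvoidVec m v) :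
    OvoidVec m (g.1 *ᵥ v) := by
  obtain ⟨hv, u, c, hc, hb, hp⟩ := h
  refine ⟨mulVec_ne g hv, g.1 *ᵥ u, c, hc, by rw [hgp.bf, hb], fun p => ?_⟩
  rw [minors_mulVec hF hg hb, hst]
  simp only [hp, Matrix.map_apply, Matrix.mulVec, dotProduct, Fin.sum_univ_four, th_add hF, th_mul]
  simp only [th]
  ring

theorem mem_ovoid_of_ovoidVec (hF : Fintype.card F = 2 ^ (2 * m + 1)) {v : Fin 4 → F}
    (h : OvoidVec m v) (hv : v ≠ 0) : Projectivization.mk F v hv ∈ suzukiOvoid F m := by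
  have h2 := two_zero hF
  by_cases h3 : v 3 = 0
  · obtain ⟨-, u, c, hc, hb, hp⟩ := h
    have p0 := hp 0; have p1 := hp 1; have p2 := hp 2; have p3 := hp 3
    simp [minors, Lie.pairOf, h3] at p0 p1 p2 p3
    simp [bf, h3] at hb
    obtain ⟨v1, v2⟩ : v 1 = 0 ∧ v 2 = 0 := by
      by_cases hu : u 3 = 0
      · have v2 : v 2 = 0 := by
          simp [hu, hc] at p2
          exact th_eq_zero.1 p2
        refine ⟨?_, v2⟩
        by_contra h1
        have hu2 : u 2 = 0 := by simpa [hu, v2, h1] using hb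
        have := p1
        simp [hu2, v2, hc] at this
        exact h1 (th_eq_zero.1 this)
      · have v2 : v 2 = 0 := by simpa [hu] using p3
        refine ⟨?_, v2⟩
        simpa [hu, v2] using p2
    refine mem_ovoid_iff.2 (Or.inl ?_)
    rw [suzukiPointInfinity, Projectivization.mk_eq_mk_iff']
    refine ⟨v 0, ?_⟩
    funext i
    fin_cases i <;> simp [v1, v2, h3]
  · obtain ⟨-, u, c, hc, hb, hp⟩ := ovoidVec_smul hF h (inv_ne_zero h3)
    set z := (v 3)⁻¹ * v 0
    set y := (v 3)⁻¹ * v 1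
    set x := (v 3)⁻¹ * v 2
    have p1 := hp 1; have p2 := hp 2; have p3 := hp 3
    simp [minors, Lie.pairOf, inv_mul_cancel₀ h3] at p1 p2 p3
    simp [bf, inv_mul_cancel₀ h3] at hb
    have hz : z = zf m x y := by
      refine mul_left_cancel₀ hc ?_
      simp only [zf]
      grind
    refine mem_ovoid_iff.2 (Or.inr ⟨x, y, ?_⟩)
    rw [aff, Projectivization.mk_eq_mk_iff']
    refine ⟨v 3, ?_⟩
    funext i
    fin_cases i <;> simp [pt, ← hz, x, y, z, h3]

omit [Fintype F] in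
theorem toGL_val (g : SpecialLinearGroup (Fin 4) F) :
    ((SpecialLinearGroup.toGL g : GL (Fin 4) F) : Matrix (Fin 4) (Fin 4) F) = g.1 := rfl

omit [Fintype F] in
theorem mem_Sp4_of_pres {g : SpecialLinearGroup (Fin 4) F} (hg : Pres g) :
    SpecialLinearGroup.toGL g ∈ Lie.Sp4 F := fun u v => hg.bf u v

theorem gen_mem_Lie (hF : Fintype.card F = 2 ^ (2 * m + 1)) {g : SpecialLinearGroup (Fin 4) F}
    (hg : Pres g) (hst : Lie.star4 g.1 = g.1.map (fun x => th m x)) :
    SpecialLinearGroup.toGL g ∈ Lie.Sz F (2 ^ (m + 1)) :=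
  Subgroup.subset_closure ⟨mem_Sp4_of_pres hg, hst⟩

theorem star4_T (hF : Fintype.card F = 2 ^ (2 * m + 1)) (a b : F) :
    Lie.star4 (T m a b).1 = (T m a b).1.map (fun x => th m x) := by
  have h2 := two_zero hF
  simp only [T]
  ext p r
  fin_cases p <;> fin_cases r <;>
    simp [Lie.star4, Lie.pairOf, tMat, zf, th_add hF, th_mul, th_th hF, th_pow] <;> grind

omit [Fintype F] in
theorem star4_W (hneg : (-1 : F) = 1) :
    Lie.star4 (W : SpecialLinearGroup (Fin 4) F).1 =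
      (W : SpecialLinearGroup (Fin 4) F).1.map (fun x => th m x) := by
  simp only [W]
  ext p r
  fin_cases p <;> fin_cases r <;> simp [Lie.star4, Lie.pairOf, wMat, hneg]

theorem star4_H (hF : Fintype.card F = 2 ^ (2 * m + 1)) (u : Fˣ) :
    Lie.star4 (H m u).1 = (H m u).1.map (fun x => th m x) := by
  have h1 : (u : F) ≠ 0 := u.ne_zero
  have h2 : th m (u : F) ≠ 0 := fun h => h1 (th_eq_zero.1 h)
  simp only [H]
  ext p r
  fin_cases p <;> fin_cases r <;>
    simp [Lie.star4, Lie.pairOf, hVec, th_div, th_inv, th_th hF] <;> field_simp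

/-- The Suzuki group of the exterior-square model is the image of the ovoid stabiliser. -/
theorem map_toGL_eq (hm : 1 ≤ m) (hF : Fintype.card F = 2 ^ (2 * m + 1)) :
    (Sz F m).map SpecialLinearGroup.toGL = Lie.Sz F (2 ^ (m + 1)) := by
  haveI := charTwo hF
  apply le_antisymm
  · rintro _ ⟨g, hg, rfl⟩
    have hT : ∀ a b, SpecialLinearGroup.toGL (T m a b) ∈ Lie.Sz F (2 ^ (m + 1)) := fun a b =>
      gen_mem_Lie hF (pres_T hF a b) (star4_T hF a b)
    have hH : ∀ u : Fˣ, SpecialLinearGroup.toGL (H m u) ∈ Lie.Sz F (2 ^ (m + 1)) := fun u =>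
      gen_mem_Lie hF (pres_H u) (star4_H hF u)
    have hW : SpecialLinearGroup.toGL (W : SpecialLinearGroup (Fin 4) F) ∈ Lie.Sz F (2 ^ (m + 1)) :=
      gen_mem_Lie hF pres_W (star4_W (neg_eq hF 1))
    rcases bruhat hm hF hg with ⟨a, b, u, rfl⟩ | ⟨a, b, c, d, u, rfl⟩
    · rw [map_mul]
      exact Subgroup.mul_mem _ (hT a b) (hH u)
    · rw [map_mul, map_mul, map_mul]
      exact Subgroup.mul_mem _ (Subgroup.mul_mem _ (hT a b) hW) (Subgroup.mul_mem _ (hT c d) (hH u))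
  · intro g hg
    obtain ⟨hsp, hst⟩ := Suzuki4.inSz_of_mem hg
    let g' : SpecialLinearGroup (Fin 4) F :=
      ⟨(g : Matrix (Fin 4) (Fin 4) F), Suzuki4.det_eq_one hsp⟩
    refine ⟨g', ?_, Units.ext rfl⟩
    have hJ : (Suzuki4.J : Matrix (Fin 4) (Fin 4) F) = wMat := rfl
    have hv : g'.1 = (g : Matrix (Fin 4) (Fin 4) F) := rfl
    have hp : Pres g' := by rw [Pres, hv, ← hJ]; exact Suzuki4.transpose_mul_J hsp
    have hJ' : g'.1 * Suzuki4.J * g'.1ᵀ = Suzuki4.J := by
      rw [hv]; exact Suzuki4.mul_J_transpose hsp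
    have hst' : Lie.star4 g'.1 = g'.1.map (fun x => x ^ 2 ^ (m + 1)) := by rw [hv]; exact hst
    refine mem_Sz_of_mapsTo fun p hp' => ?_
    rcases mem_ovoid_iff.1 hp' with rfl | ⟨x, y, rfl⟩
    · show g' • Projectivization.mk F pInfV pInfV_ne ∈ _
      rw [smul_mk' _ _ _ (mulVec_ne _ pInfV_ne)]
      exact mem_ovoid_of_ovoidVec hF
        (ovoidVec_map hF hJ' hp hst' (ovoidVec_inf hF)) _
    · rw [aff, smul_mk' _ _ _ (mulVec_ne _ (pt_ne m x y))]
      exact mem_ovoid_of_ovoidVec hF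
        (ovoidVec_map hF hJ' hp hst' (ovoidVec_pt hF x y)) _

/-- The two models of the Suzuki group are isomorphic. -/
noncomputable def szEquiv (hm : 1 ≤ m) (hF : Fintype.card F = 2 ^ (2 * m + 1)) :
    Sz F m ≃* Lie.Sz F (2 ^ (m + 1)) :=
  ((Sz F m).equivMapOfInjective SpecialLinearGroup.toGL (fun g h e => sl_ext
      (congrArg (fun x : GL (Fin 4) F => (x : Matrix (Fin 4) (Fin 4) F)) e))).trans
    (MulEquiv.subgroupCongr (map_toGL_eq hm hF))

theorem szEquiv_apply (hm : 1 ≤ m) (hF : Fintype.card F = 2 ^ (2 * m + 1)) (g : Sz F m) :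
    ((szEquiv hm hF g : GL (Fin 4) F) : Matrix (Fin 4) (Fin 4) F) = g.1.1 := rfl

theorem card_LieSz (hm : 1 ≤ m) (hF : Fintype.card F = 2 ^ (2 * m + 1)) :
    Nat.card (Lie.Sz F (2 ^ (m + 1))) =
      Fintype.card F ^ 2 * (Fintype.card F ^ 2 + 1) * (Fintype.card F - 1) := by
  rw [← Nat.card_congr (szEquiv hm hF).toEquiv, card_Sz hm hF]

theorem isSimple_LieSz (hm : 1 ≤ m) (hF : Fintype.card F = 2 ^ (2 * m + 1)) :
    IsSimpleGroup (Lie.Sz F (2 ^ (m + 1))) :=
  haveI := isSimple hm hF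
  haveI : Nontrivial (Lie.Sz F (2 ^ (m + 1))) := (szEquiv hm hF).toEquiv.symm.nontrivial
  (szEquiv hm hF).symm.isSimpleGroup

end Cfsg.Agent.SZ
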