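/-
Suzuki groups, part 6: the eigenvalues of the fixed-point-free tori, over the algebraic closure.
-/
import Cfsg.Agent.Lib.Sz.Lie

set_option autoImplicit false

namespace Cfsg.Agent.SZ

open Cfsg Matrix
open scoped Pointwise

variable {F : Type*} [Field F] [Fintype F] {m : ℕ}

/-- `k` is one of `q + r + 1`, `q - r + 1`, with `r = 2^(m+1)`. -/
def IsTorusOrder (m k : ℕ) : Prop :=
  k = 2 ^ (2 * m + 1) + 2 ^ (m + 1) + 1 ∨ k = 2 ^ (2 * m + 1) - 2 ^ (m + 1) + 1

theorem two_sigma_le (hm : 1 ≤ m) : 2 * 2 ^ (m + 1) ≤ 2 ^ (2 * m + 1) := by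
  rw [← pow_succ']
  exact Nat.pow_le_pow_right (by norm_num) (by omega)

theorem sigma_sq (m : ℕ) : 2 ^ (m + 1) * 2 ^ (m + 1) = 2 * 2 ^ (2 * m + 1) := by
  rw [← pow_add, ← pow_succ']
  congr 1
  omega

theorem torus_prod (hm : 1 ≤ m) :
    (2 ^ (2 * m + 1) + 2 ^ (m + 1) + 1) * (2 ^ (2 * m + 1) - 2 ^ (m + 1) + 1) =
      (2 ^ (2 * m + 1)) ^ 2 + 1 := by
  obtain ⟨d, hd⟩ := Nat.exists_eq_add_of_le (show 2 ^ (m + 1) ≤ 2 ^ (2 * m + 1) by
    have := two_sigma_le hm; omega)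
  have h2 := sigma_sq m
  rw [hd] at h2 ⊢
  rw [Nat.add_sub_cancel_left]
  nlinarith

theorem IsTorusOrder.dvd {k : ℕ} (hk : IsTorusOrder m k) (hm : 1 ≤ m) :
    k ∣ (2 ^ (2 * m + 1)) ^ 2 + 1 := by
  rw [← torus_prod hm]
  rcases hk with rfl | rfl
  exacts [dvd_mul_right _ _, dvd_mul_left _ _]

theorem IsTorusOrder.odd {k : ℕ} (hk : IsTorusOrder m k) : Odd k := by
  have h1 : Even (2 ^ (2 * m + 1)) := Nat.even_pow.2 ⟨even_two, by omega⟩
  have h2 : Even (2 ^ (m + 1)) := Nat.even_pow.2 ⟨even_two, by omega⟩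
  rcases hk with rfl | rfl
  · exact (h1.add h2).add_one
  · refine Even.add_one ?_
    rcases le_total (2 ^ (m + 1)) (2 ^ (2 * m + 1)) with h | h
    · exact (Nat.even_sub h).2 (iff_of_true h1 h2)
    · rw [Nat.sub_eq_zero_of_le h]; exact Even.zero

theorem IsTorusOrder.bound {k : ℕ} (hk : IsTorusOrder m k) (hm : 1 ≤ m) :
    2 ^ (2 * m + 1) + 2 ^ (m + 1) + 1 < 3 * k ∧ 5 ≤ k := by
  have := two_sigma_le hm
  have h4 : 4 ≤ 2 ^ (m + 1) :=
    le_trans (by norm_num) (Nat.pow_le_pow_right (by norm_num) (show 2 ≤ m + 1 by omega))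
  rcases hk with rfl | rfl <;> omega

/-- The four conjugates of a root of unity of order dividing `k`. -/
def rt {E : Type*} [Field E] (m : ℕ) (a : E) : Fin 4 → E :=
  ![a, a ^ 2 ^ (2 * m + 1), a⁻¹, (a ^ 2 ^ (2 * m + 1))⁻¹]

variable {E : Type*} [Field E]

theorem rt_pow (a : E) (j : ℕ) (i : Fin 4) : rt m a i ^ j = rt m (a ^ j) i := by
  fin_cases i <;> simp [rt, ← pow_mul, mul_comm j]

theorem pow_qq {k : ℕ} (hk : IsTorusOrder m k) (hm : 1 ≤ m) {a : E} (ha : a ^ k = 1) :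
    a ^ ((2 ^ (2 * m + 1)) ^ 2 + 1) = 1 := by
  obtain ⟨c, hc⟩ := hk.dvd hm
  rw [hc, pow_mul, ha, one_pow]

theorem pow_q_q {k : ℕ} (hk : IsTorusOrder m k) (hm : 1 ≤ m) {a : E} (ha : a ^ k = 1) :
    (a ^ 2 ^ (2 * m + 1)) ^ 2 ^ (2 * m + 1) = a⁻¹ := by
  rw [← pow_mul, ← pow_two]
  exact eq_inv_of_mul_eq_one_left (by rw [← pow_succ]; exact pow_qq hk hm ha)

theorem rt_succ {k : ℕ} (hk : IsTorusOrder m k) (hm : 1 ≤ m) {a : E} (ha : a ^ k = 1) (i : Fin 4) :
    rt m a i ^ 2 ^ (2 * m + 1) = rt m a (i + 1) := by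
  fin_cases i <;> simp [rt, pow_q_q hk hm ha]

theorem rt_mul_opp {k : ℕ} (hk : IsTorusOrder m k) {a : E} (ha : a ^ k = 1) (i : Fin 4) :
    rt m a i * rt m a (i + 2) = 1 := by
  have ha0 : a ≠ 0 := fun e => by
    have := hk.odd.pos.ne'
    simp [e, this] at ha
  fin_cases i <;> simp [rt, ha0]

theorem ne_zero_of_root {k : ℕ} (hk : IsTorusOrder m k) {a : E} (ha : a ^ k = 1) : a ≠ 0 := fun e => by
  have := hk.odd.pos.ne'
  simp [e, this] at ha

theorem sq_ne_one {k : ℕ} (hk : IsTorusOrder m k) {a : E} (ha : a ^ k = 1) (h1 : a ≠ 1) :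
    a * a ≠ 1 := by
  intro h
  obtain ⟨c, hc⟩ := hk.odd
  rw [hc, pow_succ, pow_mul, pow_two, h, one_pow, one_mul] at ha
  exact h1 ha

theorem rt_injective {k : ℕ} (hk : IsTorusOrder m k) (hm : 1 ≤ m) {a : E} (ha : a ^ k = 1)
    (h1 : a ≠ 1) : Function.Injective (rt m a) := by
  have ha0 := ne_zero_of_root hk ha
  set b := a ^ 2 ^ (2 * m + 1) with hb
  have hb0 : b ≠ 0 := pow_ne_zero _ ha0
  have hab : a ≠ a⁻¹ := fun e => sq_ne_one hk ha h1 (by nth_rw 2 [e]; exact mul_inv_cancel₀ ha0)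
  have hbb := pow_q_q hk hm ha
  rw [← hb] at hbb
  have e1 : a ≠ b := fun e => hab (by rw [← e, ← hb, ← e] at hbb; exact hbb)
  have e2 : a ≠ b⁻¹ := fun e => hab (by
    have h : b = a⁻¹ := by rw [e, inv_inv]
    rw [h, inv_pow, ← hb, h, inv_inv] at hbb
    exact hbb)
  have e3 : b ≠ b⁻¹ := fun e => by
    have hbk : b ^ k = 1 := by rw [hb, ← pow_mul, mul_comm, pow_mul, ha, one_pow]
    refine sq_ne_one hk hbk ?_ (by nth_rw 2 [e]; exact mul_inv_cancel₀ hb0)
    intro hb1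
    rw [hb1, one_pow, eq_comm, inv_eq_one] at hbb
    exact h1 hbb
  have e4 : b ≠ a⁻¹ := fun e => e2 (by rw [e, inv_inv])
  have e5 : a⁻¹ ≠ b⁻¹ := fun e => e1 (_root_.inv_inj.1 e)
  intro i j h
  fin_cases i <;> fin_cases j <;> first
    | rfl
    | (simp only [rt, ← hb, Fin.reduceFinMk, Matrix.cons_val_zero, Matrix.cons_val_one,
        Matrix.cons_val, Fin.zero_eta, Fin.mk_one] at h
       first
         | exact absurd h hab | exact absurd h hab.symm | exact absurd h e1 | exact absurd h e1.symm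
         | exact absurd h e2 | exact absurd h e2.symm | exact absurd h e3 | exact absurd h e3.symm
         | exact absurd h e4 | exact absurd h e4.symm | exact absurd h e5 | exact absurd h e5.symm)

theorem inv_rel {k : ℕ} (hk : IsTorusOrder m k) (hm : 1 ≤ m) {a : E} (ha : a ^ k = 1) :
    a ^ 2 ^ (m + 1) + (a ^ 2 ^ (2 * m + 1)) ^ 2 ^ (m + 1) + (a ^ 2 ^ (m + 1))⁻¹ +
        ((a ^ 2 ^ (2 * m + 1)) ^ 2 ^ (m + 1))⁻¹ =
      (a + a⁻¹) * (a ^ 2 ^ (2 * m + 1) + (a ^ 2 ^ (2 * m + 1))⁻¹) := by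
  have ha0 := ne_zero_of_root hk ha
  set b := a ^ 2 ^ (2 * m + 1) with hb
  set A := a ^ 2 ^ (m + 1) with hA
  set B := b ^ 2 ^ (m + 1) with hB
  have hA0 : A ≠ 0 := pow_ne_zero _ ha0
  have hb0 : b ≠ 0 := pow_ne_zero _ ha0
  have hAA : A ^ 2 ^ (m + 1) = b ^ 2 := by
    rw [hA, hb, ← pow_mul, ← pow_mul, sigma_sq, mul_comm]
  rcases hk with h | h
  · rw [h, pow_succ, pow_add, ← hb, ← hA] at ha
    have hbv : b = (a * A)⁻¹ := eq_inv_of_mul_eq_one_left (by linear_combination ha)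
    have hBv : B = A * a ^ 2 := by
      rw [hB, hbv, inv_pow, mul_pow, ← hA, hAA, hbv]
      field_simp
    rw [hBv, hbv]
    field_simp
    ring
  · have hkk : 2 ^ (2 * m + 1) + 1 = k + 2 ^ (m + 1) := by
      have := two_sigma_le hm; omega
    have h' : b * a = A := by
      rw [hb, ← pow_succ, hkk, pow_add, ha, one_mul, hA]
    have hbv : b = A / a := by rw [← h']; field_simp
    have hBv : B = A / a ^ 2 := by
      rw [hB, hbv, div_pow, hAA, ← hA, hbv]
      field_simp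
    rw [hBv, hbv]
    field_simp
    ring

/-- Elements of a field extension fixed by `x ↦ x^|F|` come from `F`. -/
theorem mem_range_of_pow_card [Algebra F E] {x : E} (hx : x ^ Fintype.card F = x) :
    ∃ y : F, algebraMap F E y = x := by
  classical
  by_contra hne
  have hq : 1 < Fintype.card F := Fintype.one_lt_card
  let P : Polynomial E := Polynomial.X ^ Fintype.card F - Polynomial.X
  have hP : P ≠ 0 := FiniteField.X_pow_card_sub_X_ne_zero E hq
  have hsub : insert x (Finset.univ.image (algebraMap F E)) ⊆ P.roots.toFinset := by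
    intro z hz
    rw [Multiset.mem_toFinset, Polynomial.mem_roots hP]
    rcases Finset.mem_insert.1 hz with rfl | hz
    · simp [P, hx]
    · obtain ⟨y, -, rfl⟩ := Finset.mem_image.1 hz
      simp [P, ← map_pow, FiniteField.pow_card]
  have h1 := (Finset.card_le_card hsub).trans (Multiset.toFinset_card_le _)
  have h2 := Polynomial.card_roots' P
  rw [FiniteField.X_pow_card_sub_X_natDegree_eq E hq] at h2
  rw [Finset.card_insert_of_notMem (by simpa using hne),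
    Finset.card_image_of_injective _ (algebraMap F E).injective, Finset.card_univ] at h1
  omega

end Cfsg.Agent.SZ
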