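/-
Suzuki groups, part 7: the cyclic tori of order `q + r + 1` and `q - r + 1`.
-/
import Cfsg.Agent.Lib.Sz.TorusRoots

set_option autoImplicit false

namespace Cfsg.Agent.SZ

open Cfsg Matrix
open scoped Pointwise

variable {F : Type*} [Field F] [Fintype F] {m : ℕ}
variable {E : Type*} [Field E] [Algebra F E]

/-- The matrix of an element over an extension field. -/
def mE (E : Type*) [Field E] [Algebra F E] (g : SpecialLinearGroup (Fin 4) F) :
    Matrix (Fin 4) (Fin 4) E := g.1.map (algebraMap F E)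

omit [Fintype F] in
theorem mE_mul (g h : SpecialLinearGroup (Fin 4) F) : mE E (g * h) = mE E g * mE E h := by
  rw [mE, val_mul, Matrix.map_mul]; rfl

omit [Fintype F] in
theorem mE_one : mE E (1 : SpecialLinearGroup (Fin 4) F) = 1 := by
  rw [mE, val_one, Matrix.map_one _ (map_zero _) (map_one _)]

omit [Fintype F] in
theorem mE_injective : Function.Injective (mE E : SpecialLinearGroup (Fin 4) F → _) := fun g h e =>
  sl_ext (Matrix.map_injective (algebraMap F E).injective e)

theorem charTwoExt (hF : Fintype.card F = 2 ^ (2 * m + 1)) (E : Type*) [Field E] [Algebra F E] :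
    CharP E 2 :=
  haveI := charTwo hF
  charP_of_injective_algebraMap (algebraMap F E).injective 2

theorem th_add_ext (hF : Fintype.card F = 2 ^ (2 * m + 1)) (n : ℕ) (x y : E) :
    (x + y) ^ 2 ^ n = x ^ 2 ^ n + y ^ 2 ^ n := by
  haveI := charTwoExt hF E
  haveI : Fact (Nat.Prime 2) := ⟨Nat.prime_two⟩
  exact add_pow_char_pow x y 2 n

/-- `Q` diagonalises `g` with eigenvalues the conjugates of `a`, compatibly with the Frobenius map. -/
def Diag (m : ℕ) (g : SpecialLinearGroup (Fin 4) F) (a : E) (Q : Matrix (Fin 4) (Fin 4) E) : Prop :=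
  mE E g * Q = Q * Matrix.diagonal (rt m a) ∧ IsUnit Q.det ∧
    ∀ i j, Q i j ^ 2 ^ (2 * m + 1) = Q i (j + 1)

omit [Fintype F] in
theorem Diag.pow {g : SpecialLinearGroup (Fin 4) F} {a : E} {Q : Matrix (Fin 4) (Fin 4) E}
    (h : Diag m g a Q) : ∀ j : ℕ, Diag m (g ^ j) (a ^ j) Q := by
  intro j
  refine ⟨?_, h.2.1, h.2.2⟩
  induction j with
  | zero =>
    have : rt m (1 : E) = 1 := by funext i; fin_cases i <;> simp [rt]
    simp [mE_one, this]
  | succ j ih =>
    rw [pow_succ, mE_mul, mul_assoc, h.1, ← mul_assoc, ih, mul_assoc, Matrix.diagonal_mul_diagonal]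
    congr 2
    funext i
    rw [← rt_pow, ← rt_pow, pow_succ]

/-- The diagonal entries of a commuting element in the eigenbasis. -/
noncomputable def eta (Q : Matrix (Fin 4) (Fin 4) E) (h : SpecialLinearGroup (Fin 4) F) : Fin 4 → E :=
  fun i => (Q⁻¹ * mE E h * Q) i i

theorem eigen_commute {k : ℕ} (hk : IsTorusOrder m k) (hm : 1 ≤ m)
    {g h : SpecialLinearGroup (Fin 4) F} {a : E} {Q : Matrix (Fin 4) (Fin 4) E}
    (hd : Diag m g a Q) (ha : a ^ k = 1) (h1 : a ≠ 1) (hc : h * g = g * h) :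
    mE E h * Q = Q * Matrix.diagonal (eta Q h) := by
  obtain ⟨hgq, hu, -⟩ := hd
  set K := Q⁻¹ * mE E h * Q with hK
  have e1 : mE E h * Q = Q * K := by
    rw [hK, ← mul_assoc, ← mul_assoc, Matrix.mul_nonsing_inv _ hu, one_mul]
  have e2 : K * Matrix.diagonal (rt m a) = Matrix.diagonal (rt m a) * K := by
    have : Q * (K * Matrix.diagonal (rt m a)) = Q * (Matrix.diagonal (rt m a) * K) := by
      rw [← mul_assoc, ← e1, mul_assoc, ← hgq, ← mul_assoc, ← mE_mul, hc, mE_mul, mul_assoc, e1,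
        ← mul_assoc, hgq, mul_assoc]
    calc K * Matrix.diagonal (rt m a) = Q⁻¹ * (Q * (K * Matrix.diagonal (rt m a))) := by
          rw [← mul_assoc Q⁻¹, Matrix.nonsing_inv_mul _ hu, one_mul]
      _ = _ := by rw [this, ← mul_assoc Q⁻¹, Matrix.nonsing_inv_mul _ hu, one_mul]
  rw [e1]
  congr 1
  ext i j
  by_cases hij : i = j
  · subst hij; simp [eta, hK]
  · rw [Matrix.diagonal_apply_ne _ hij]
    have h3 := congrFun (congrFun e2 i) j
    rw [Matrix.mul_diagonal, Matrix.diagonal_mul, mul_comm] at h3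
    by_contra hne
    exact hij (rt_injective hk hm ha h1 (mul_right_cancel₀ hne h3).symm)

theorem eta_succ (hF : Fintype.card F = 2 ^ (2 * m + 1)) {h : SpecialLinearGroup (Fin 4) F}
    {Q : Matrix (Fin 4) (Fin 4) E} (hu : IsUnit Q.det)
    (hQ : ∀ i j, Q i j ^ 2 ^ (2 * m + 1) = Q i (j + 1)) {η : Fin 4 → E}
    (hh : mE E h * Q = Q * Matrix.diagonal η) (j : Fin 4) :
    η j ^ 2 ^ (2 * m + 1) = η (j + 1) := by
  obtain ⟨i, hi⟩ : ∃ i, Q i (j + 1) ≠ 0 := by
    by_contra hall
    push Not at hall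
    exact hu.ne_zero (Matrix.det_eq_zero_of_column_eq_zero (j + 1) hall)
  have e1 := congrFun (congrFun hh i) j
  have e2 := congrFun (congrFun hh i) (j + 1)
  rw [Matrix.mul_diagonal, Matrix.mul_apply, Fin.sum_univ_four] at e1 e2
  have h3 := congrArg (· ^ 2 ^ (2 * m + 1)) e1
  simp only [th_add_ext hF, mul_pow, hQ, mE, Matrix.map_apply, ← map_pow] at h3
  rw [← hF] at h3
  simp only [FiniteField.pow_card] at h3
  rw [hF] at h3
  simp only [mE, Matrix.map_apply] at e2
  exact mul_left_cancel₀ hi (h3.symm.trans e2)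

theorem eta_apply {k : ℕ} (hk : IsTorusOrder m k) (hm : 1 ≤ m)
    {g h : SpecialLinearGroup (Fin 4) F} {a : E} {Q : Matrix (Fin 4) (Fin 4) E}
    (hd : Diag m g a Q) (ha : a ^ k = 1) (h1 : a ≠ 1) (hc : h * g = g * h) {η : Fin 4 → E}
    (hh : mE E h * Q = Q * Matrix.diagonal η) : eta Q h = η := by
  funext i
  simp [eta, mul_assoc, hh]
  rw [← mul_assoc, Matrix.nonsing_inv_mul _ hd.2.1, one_mul, Matrix.diagonal_apply_eq]

/-- An element commuting with `g` is determined by its eigenvalue on the first vector. -/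
theorem eq_one_of_eta (hF : Fintype.card F = 2 ^ (2 * m + 1)) {h : SpecialLinearGroup (Fin 4) F}
    {Q : Matrix (Fin 4) (Fin 4) E} (hu : IsUnit Q.det)
    (hQ : ∀ i j, Q i j ^ 2 ^ (2 * m + 1) = Q i (j + 1)) {η : Fin 4 → E}
    (hh : mE E h * Q = Q * Matrix.diagonal η) (h0 : η 0 = 1) : h = 1 := by
  have e1 := eta_succ hF hu hQ hh 0
  rw [h0, one_pow] at e1
  have e2 := eta_succ hF hu hQ hh 1
  rw [show η 1 = 1 from e1.symm, one_pow] at e2
  have e3 := eta_succ hF hu hQ hh 2
  rw [show η 2 = 1 from e2.symm, one_pow] at e3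
  have hη : η = 1 := by
    funext i
    fin_cases i
    exacts [h0, e1.symm, e2.symm, e3.symm]
  rw [hη, Matrix.diagonal_one', mul_one] at hh
  apply mE_injective (E := E)
  rw [mE_one]
  calc mE E h = mE E h * Q * Q⁻¹ := by rw [mul_assoc, Matrix.mul_nonsing_inv _ hu, mul_one]
    _ = 1 := by rw [hh, Matrix.mul_nonsing_inv _ hu]

/-- The eigenvalue homomorphism on the centraliser. -/
noncomputable def etaHom (hF : Fintype.card F = 2 ^ (2 * m + 1)) {k : ℕ} (hk : IsTorusOrder m k)
    (hm : 1 ≤ m) {g : Sz F m} {a : E} {Q : Matrix (Fin 4) (Fin 4) E}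
    (hd : Diag m g.1 a Q) (ha : a ^ k = 1) (h1 : a ≠ 1) :
    Subgroup.centralizer ({g} : Set (Sz F m)) →* E where
  toFun h := eta Q h.1.1 0
  map_one' := by
    simp [eta, mE_one, Matrix.nonsing_inv_mul _ hd.2.1]
  map_mul' h h' := by
    have hc : ∀ h : Subgroup.centralizer ({g} : Set (Sz F m)), h.1.1 * g.1 = g.1 * h.1.1 := fun h =>
      congrArg Subtype.val (Subgroup.mem_centralizer_singleton_iff.1 h.2)
    have e1 := eigen_commute hk hm hd ha h1 (hc h)
    have e2 := eigen_commute hk hm hd ha h1 (hc h')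
    have : mE E (h.1.1 * h'.1.1) * Q = Q * Matrix.diagonal (fun i => eta Q h.1.1 i * eta Q h'.1.1 i) := by
      rw [mE_mul, mul_assoc, e2, ← mul_assoc, e1, mul_assoc, Matrix.diagonal_mul_diagonal]
    show eta Q (h * h').1.1 0 = _
    exact congrFun (eta_apply hk hm hd ha h1 (hc (h * h')) this) 0

theorem etaHom_injective (hF : Fintype.card F = 2 ^ (2 * m + 1)) {k : ℕ} (hk : IsTorusOrder m k)
    (hm : 1 ≤ m) {g : Sz F m} {a : E} {Q : Matrix (Fin 4) (Fin 4) E}
    (hd : Diag m g.1 a Q) (ha : a ^ k = 1) (h1 : a ≠ 1) :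
    Function.Injective (etaHom hF hk hm hd ha h1) := by
  rw [injective_iff_map_eq_one]
  intro h h0
  exact Subtype.ext (Subtype.ext (eq_one_of_eta hF hd.2.1 hd.2.2
    (eigen_commute hk hm hd ha h1 (congrArg Subtype.val (Subgroup.mem_centralizer_singleton_iff.1 h.2))) h0))

theorem etaHom_self (hF : Fintype.card F = 2 ^ (2 * m + 1)) {k : ℕ} (hk : IsTorusOrder m k)
    (hm : 1 ≤ m) {g : Sz F m} {a : E} {Q : Matrix (Fin 4) (Fin 4) E}
    (hd : Diag m g.1 a Q) (ha : a ^ k = 1) (h1 : a ≠ 1)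
    (hg : g ∈ Subgroup.centralizer ({g} : Set (Sz F m))) :
    etaHom hF hk hm hd ha h1 ⟨g, hg⟩ = a :=
  congrFun (eta_apply hk hm hd ha h1 rfl hd.1) 0

/-- Minors of a pair of vectors transform by `star4` (any field of characteristic two). -/
theorem minors_mulVec_ext [CharP E 2] {g : Matrix (Fin 4) (Fin 4) E}
    (hg : g * wMat * gᵀ = wMat) {v u : Fin 4 → E} (hb : bf v u = 0) :
    minors (g *ᵥ v) (g *ᵥ u) = Lie.star4 g *ᵥ minors v u := by
  have h2 : (2 : E) = 0 := CharTwo.two_eq_zero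
  funext p
  set k := (Lie.pairOf p).1 with hk
  set l := (Lie.pairOf p).2 with hl
  have hkl : (wMat : Matrix (Fin 4) (Fin 4) E) k l = 0 := by
    fin_cases p <;> simp [hk, hl, Lie.pairOf, wMat]
  have e1 := congrFun (congrFun hg k) l
  rw [hkl] at e1
  simp [wMat, Matrix.mul_apply, Fin.sum_univ_four] at e1
  simp only [bf] at hb
  simp only [minors, Lie.star4, ← hk, ← hl, Matrix.of_apply, Fin.sum_univ_four, Matrix.mulVec,
    dotProduct]
  simp [Lie.pairOf]
  grind

theorem minors_ne_zero {v u : Fin 4 → E} (hb : bf v u = 0) [CharP E 2]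
    (hind : ∀ a b : E, a • v + b • u = 0 → a = 0 ∧ b = 0) : minors v u ≠ 0 := by
  intro h
  have p0 := congrFun h 0; have p1 := congrFun h 1
  have p2 := congrFun h 2; have p3 := congrFun h 3
  simp [minors, Lie.pairOf] at p0 p1 p2 p3
  simp only [bf] at hb
  have h2 : (2 : E) = 0 := CharTwo.two_eq_zero
  have p4 : (v 0 * u 3 - v 3 * u 0) ^ 2 = 0 := by
    linear_combination (v 0 * u 3 - v 3 * u 0) * hb + (v 2 * u 3 - v 3 * u 2) * p0 -
      (v 1 * u 3 - v 3 * u 1) * p1 -
      (v 0 * u 3 * v 3 * u 0) * 0 +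
      (-(v 3 * u 0) * (v 0 * u 3 - v 3 * u 0) - v 2 * u 1 * (v 0 * u 3 - v 3 * u 0)) * h2
  have p4' : v 0 * u 3 - v 3 * u 0 = 0 := eq_zero_of_pow_eq_zero p4
  have p5 : v 1 * u 2 - v 2 * u 1 = 0 := by
    linear_combination hb - p4' + (-(v 3 * u 0) - v 2 * u 1) * h2
  -- all minors vanish: the vectors are dependent
  obtain ⟨i, hi⟩ : ∃ i, v i ≠ 0 := by
    by_contra hall
    push Not at hall
    exact one_ne_zero (hind 1 0 (by funext i; simp [hall i])).1
  have := hind (u i) (-v i) (by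
    funext j
    fin_cases i <;> fin_cases j <;> simp <;> (try ring) <;>
      first
        | linear_combination p0 | linear_combination -p0
        | linear_combination p1 | linear_combination -p1
        | linear_combination p2 | linear_combination -p2
        | linear_combination p3 | linear_combination -p3
        | linear_combination p4' | linear_combination -p4'
        | linear_combination p5 | linear_combination -p5)
  exact hi (neg_eq_zero.1 this.2)

theorem eta_bound (hF : Fintype.card F = 2 ^ (2 * m + 1)) {k : ℕ} (hk : IsTorusOrder m k)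
    (hm : 1 ≤ m) {g h : Sz F m} {a : E} {Q : Matrix (Fin 4) (Fin 4) E}
    (hd : Diag m g.1 a Q) (ha : a ^ k = 1) (h1 : a ≠ 1) {η : Fin 4 → E}
    (hh : mE E h.1 * Q = Q * Matrix.diagonal η) :
    η 0 ^ ((2 ^ (2 * m + 1)) ^ 2 + 1) = 1 ∧
      orderOf (η 0) ≤ 2 ^ (2 * m + 1) + 2 ^ (m + 1) + 1 := by
  haveI := charTwoExt hF E
  haveI : Fact (Nat.Prime 2) := ⟨Nat.prime_two⟩
  obtain ⟨hgq, hu, hQ⟩ := hd
  set q := 2 ^ (2 * m + 1) with hq
  set σ := 2 ^ (m + 1) with hσ
  have hJ : ∀ x : Sz F m, (mE E x.1)ᵀ * wMat * mE E x.1 = (wMat : Matrix (Fin 4) (Fin 4) E) := by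
    intro x
    have := congrArg (fun M => M.map (algebraMap F E)) (pres_of_mem hF x.2)
    simp only [Matrix.map_mul, Matrix.transpose_map] at this
    have e : (wMat : Matrix (Fin 4) (Fin 4) F).map (algebraMap F E) = wMat := by
      ext i j; fin_cases i <;> fin_cases j <;> simp [wMat]
    rwa [e] at this
  -- the Gram matrix of the eigenbasis
  set Gm := Qᵀ * wMat * Q with hGm
  have hgram : ∀ (x : Sz F m) (ν : Fin 4 → E), mE E x.1 * Q = Q * Matrix.diagonal ν →
      ∀ i j, ν i * ν j * Gm i j = Gm i j := by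
    intro x ν hx i j
    have e : (mE E x.1 * Q)ᵀ * wMat * (mE E x.1 * Q) = Gm := by
      rw [Matrix.transpose_mul, hGm]
      calc Qᵀ * (mE E x.1)ᵀ * wMat * (mE E x.1 * Q) = Qᵀ * ((mE E x.1)ᵀ * wMat * mE E x.1) * Q := by
            simp only [Matrix.mul_assoc]
        _ = _ := by rw [hJ]
    rw [hx, Matrix.transpose_mul, Matrix.diagonal_transpose,
      show Matrix.diagonal ν * Qᵀ * wMat * (Q * Matrix.diagonal ν) =
        Matrix.diagonal ν * Gm * Matrix.diagonal ν by rw [hGm]; simp only [Matrix.mul_assoc]] at e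
    have := congrFun (congrFun e i) j
    rw [Matrix.mul_diagonal, Matrix.diagonal_mul] at this
    linear_combination this
  have hinj := rt_injective hk hm ha h1
  have hzero : ∀ i j, j ≠ i + 2 → Gm i j = 0 := by
    intro i j hij
    have := hgram g (rt m a) hgq i j
    by_contra hne
    have hp : rt m a i * rt m a j = 1 := mul_right_cancel₀ hne (this.trans (one_mul _).symm)
    apply hij
    apply hinj
    have h2 := rt_mul_opp hk ha i
    exact mul_left_cancel₀ (left_ne_zero_of_mul_eq_one h2) (hp.trans h2.symm)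
  have hG02 : Gm 0 2 ≠ 0 := by
    intro h0
    have : Gm.det = 0 := by
      refine Matrix.det_eq_zero_of_row_eq_zero 0 fun j => ?_
      by_cases hj : j = 2
      · exact hj ▸ h0
      · exact hzero 0 j (by simpa using hj)
    rw [hGm, Matrix.det_mul, Matrix.det_mul, Matrix.det_transpose, wMat_det] at this
    simp [hu.ne_zero] at this
  have s1 := eta_succ hF hu hQ hh 0
  have s2 := eta_succ hF hu hQ hh 1
  have s3 := eta_succ hF hu hQ hh 2
  have h02 : η 0 * η 2 = 1 :=
    mul_right_cancel₀ hG02 ((hgram h η hh 0 2).trans (one_mul _).symm)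
  set e := η 0 with he
  change e ^ q = η 1 at s1
  change η 1 ^ q = η 2 at s2
  change η 2 ^ q = η 3 at s3
  rw [← s1, ← pow_mul, ← pow_two] at s2
  have hqq : e ^ (q ^ 2 + 1) = 1 := by rw [pow_succ', s2]; exact h02
  refine ⟨hqq, ?_⟩
  have he0 : e ≠ 0 := left_ne_zero_of_mul_eq_one h02
  -- the twisting relation on the first two vectors
  set v : Fin 4 → E := fun i => Q i 0 with hv
  set u : Fin 4 → E := fun i => Q i 1 with hu'
  have hb : bf v u = 0 := by
    have := hzero 0 1 (by decide)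
    rw [hGm] at this
    rw [← this]
    simp [bf, wMat, Matrix.mul_apply, Fin.sum_univ_four, hv, hu']
    ring
  have hne : minors v u ≠ 0 := by
    refine minors_ne_zero hb fun x y hxy => ?_
    have hz : Q *ᵥ ![x, y, 0, 0] = 0 := by
      funext i
      have := congrFun hxy i
      simp [hv, hu'] at this
      simp [Matrix.mulVec, dotProduct, Fin.sum_univ_four]
      linear_combination this
    have := congrArg (Q⁻¹ *ᵥ ·) hz
    simp only [Matrix.mulVec_mulVec, Matrix.nonsing_inv_mul _ hu, Matrix.one_mulVec,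
      Matrix.mulVec_zero] at this
    exact ⟨congrFun this 0, congrFun this 1⟩
  have hst : Lie.star4 (mE E h.1) = (mE E h.1).map (fun x => x ^ σ) := by
    have hmem : SpecialLinearGroup.toGL h.1 ∈ Lie.Sz F (2 ^ (m + 1)) := by
      rw [← map_toGL_eq hm hF]; exact Subgroup.mem_map_of_mem _ h.2
    haveI := charTwo hF
    have h0 := (Suzuki4.inSz_of_mem hmem).2
    rw [toGL_val] at h0
    ext p r
    have := congrArg (algebraMap F E) (congrFun (congrFun h0 p) r)
    simpa [Lie.star4, mE, hσ] using this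
  have hJ' : mE E h.1 * wMat * (mE E h.1)ᵀ = (wMat : Matrix (Fin 4) (Fin 4) E) := by
    have h1 := hJ h
    have hw : (wMat : Matrix (Fin 4) (Fin 4) E) * wMat = 1 := congrArg Subtype.val (W_mul_W (F := E))
    have h3 : (wMat * (mE E h.1)ᵀ * wMat) * mE E h.1 = 1 := by
      rw [show wMat * (mE E h.1)ᵀ * wMat * mE E h.1 = wMat * ((mE E h.1)ᵀ * wMat * mE E h.1) by
        simp only [Matrix.mul_assoc], h1, hw]
    have h4 := congrArg (· * wMat) (mul_eq_one_comm.1 h3)
    simpa [Matrix.mul_assoc, hw] using h4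
  have hcol : ∀ j, mE E h.1 *ᵥ (fun i => Q i j) = η j • fun i => Q i j := by
    intro j
    funext i
    have := congrFun (congrFun hh i) j
    rw [Matrix.mul_diagonal, Matrix.mul_apply] at this
    rw [Pi.smul_apply, smul_eq_mul, mul_comm]
    exact this
  have hkey := minors_mulVec_ext hJ' hb
  rw [hcol 0, hcol 1, hst] at hkey
  have hmin : minors (η 0 • v) (η 1 • u) = (η 0 * η 1) • minors v u := by
    funext p; simp [minors]; ring
  rw [hmin] at hkey
  -- diagonalise the twisted matrix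
  let φ : E →+* E := iterateFrobenius E 2 (m + 1)
  have hφ : (fun x : E => x ^ σ) = ⇑φ := rfl
  rw [hφ] at hkey
  have hQφ : IsUnit (Q.map φ).det := by
    have : (Q.map φ).det = φ Q.det := (RingHom.map_det φ Q).symm
    rw [this]; exact hu.map φ
  have hdφ : (mE E h.1).map φ * Q.map φ = Q.map φ * Matrix.diagonal (fun i => φ (η i)) := by
    rw [← Matrix.map_mul, hh, Matrix.map_mul, Matrix.diagonal_map (map_zero φ)]
  set w := (Q.map φ)⁻¹ *ᵥ minors v u with hw
  have hQw : Q.map φ *ᵥ w = minors v u := by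
    rw [hw, Matrix.mulVec_mulVec, Matrix.mul_nonsing_inv _ hQφ, Matrix.one_mulVec]
  have hw' : ∀ i, φ (η i) * w i = η 0 * η 1 * w i := by
    have h5 : Q.map φ *ᵥ (Matrix.diagonal (fun i => φ (η i)) *ᵥ w) =
        Q.map φ *ᵥ ((η 0 * η 1) • w) := by
      rw [Matrix.mulVec_mulVec, ← hdφ, ← Matrix.mulVec_mulVec, hQw, Matrix.mulVec_smul, hQw]
      exact hkey.symm
    intro i
    have h6 := congrFun (congrArg ((Q.map φ)⁻¹ *ᵥ ·) h5) i
    simpa [Matrix.mulVec_mulVec, ← Matrix.mul_assoc, Matrix.nonsing_inv_mul _ hQφ,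
      Matrix.mulVec_diagonal] using h6
  obtain ⟨i, hwi⟩ : ∃ i, w i ≠ 0 := by
    by_contra hall
    push Not at hall
    exact hne (by rw [← hQw, show w = 0 from funext hall, Matrix.mulVec_zero])
  have hrel : η i ^ σ = e * η 1 := mul_right_cancel₀ hwi (hw' i)
  rw [← s1, ← pow_succ'] at hrel
  have hσq : 2 * σ ≤ q := two_sigma_le hm
  have hσ1 : 2 ≤ σ := by
    rw [hσ]; exact le_trans (by norm_num) (Nat.pow_le_pow_right (by norm_num) (show 1 ≤ m + 1 by omega))
  have hqσ : (e ^ σ) ^ (q ^ 2) * e ^ σ = 1 := by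
    rw [← pow_mul, ← pow_add, show σ * q ^ 2 + σ = (q ^ 2 + 1) * σ by ring, pow_mul, hqq, one_pow]
  have hq2 : (e ^ q) ^ q * e = 1 := by rw [← pow_mul, ← pow_two, ← pow_succ, hqq]
  suffices hd' : ∃ d, 0 < d ∧ d ≤ q + σ + 1 ∧ e ^ d = 1 by
    obtain ⟨d, hd0, hdle, hde⟩ := hd'
    exact le_trans (Nat.le_of_dvd hd0 (orderOf_dvd_of_pow_eq_one hde)) hdle
  fin_cases i
  · refine ⟨q + 1 - σ, by omega, by omega, ?_⟩
    simp only [Fin.zero_eta] at hrel
    rw [← he] at hrel
    apply mul_right_cancel₀ (pow_ne_zero σ he0)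
    rw [← pow_add, Nat.sub_add_cancel (by omega), one_mul, hrel]
  · refine ⟨q + σ - 1, by omega, by omega, ?_⟩
    simp only [Fin.mk_one] at hrel
    rw [← s1] at hrel
    have h6 := congrArg (· ^ q) hrel
    rw [← pow_mul, ← pow_mul, ← pow_mul, show q * (σ * q) = σ * q ^ 2 by ring, pow_mul e σ,
      show (q + 1) * q = q * q + q by ring, pow_add, pow_mul e q q] at h6
    apply mul_right_cancel₀ he0
    rw [← pow_succ, Nat.sub_add_cancel (by omega), one_mul, pow_add]
    linear_combination (e * e ^ σ) * h6.symm - e ^ q * e ^ σ * hq2 + e * hqσ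
  · refine ⟨q + σ + 1, by omega, le_rfl, ?_⟩
    simp only [Fin.reduceFinMk] at hrel
    have h2 : η 2 ^ σ * e ^ σ = 1 := by rw [← mul_pow, mul_comm, h02, one_pow]
    rw [show q + σ + 1 = q + 1 + σ by ring, pow_add, ← hrel, h2]
  · refine ⟨q - σ - 1, by omega, by omega, ?_⟩
    simp only [Fin.reduceFinMk] at hrel
    have h3 : (η 3) ^ σ * (e ^ q) ^ σ = 1 := by
      rw [← mul_pow, ← s3, ← mul_pow, mul_comm (η 2), h02, one_pow, one_pow]
    rw [hrel] at h3
    have h6 : (e ^ q) ^ q * e ^ q * (e ^ σ) ^ (q ^ 2) = 1 := by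
      have := congrArg (· ^ q) h3
      rw [one_pow] at this
      rw [← this]
      simp only [← pow_mul, ← pow_add]
      congr 1
      ring
    apply mul_right_cancel₀ (mul_ne_zero (pow_ne_zero σ he0) he0)
    rw [one_mul, ← pow_succ, ← pow_add, show q - σ - 1 + (σ + 1) = q by omega, pow_succ]
    linear_combination (e * e ^ σ) * h6 - e ^ q * (e ^ σ) ^ (q ^ 2) * e ^ σ * hq2 - e ^ q * hqσ

theorem exists_torus_root {k : ℕ} (hF : Fintype.card F = 2 ^ (2 * m + 1)) (hk : IsTorusOrder m k) :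
    ∃ ζ : AlgebraicClosure F, IsPrimitiveRoot ζ k := by
  haveI := charTwoExt hF (AlgebraicClosure F)
  haveI : NeZero (k : AlgebraicClosure F) := ⟨by
    rw [Ne, CharP.cast_eq_zero_iff (AlgebraicClosure F) 2]
    exact fun h => Nat.not_even_iff_odd.2 hk.odd (even_iff_two_dvd.2 h)⟩
  obtain ⟨z, hz⟩ := IsAlgClosed.exists_root (Polynomial.cyclotomic k (AlgebraicClosure F))
    (Polynomial.degree_cyclotomic_pos k (AlgebraicClosure F) hk.odd.pos).ne'
  exact ⟨z, Polynomial.isRoot_cyclotomic_iff.1 hz⟩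

/-- For every root of unity of order dividing `k` there is an element with these eigenvalues. -/
theorem exists_diag (hF : Fintype.card F = 2 ^ (2 * m + 1)) {k : ℕ} (hk : IsTorusOrder m k)
    (hm : 1 ≤ m) {a : E} (ha : a ^ k = 1) (h1 : a ≠ 1) :
    ∃ (g : Sz F m) (Q : Matrix (Fin 4) (Fin 4) E), Diag m g.1 a Q := by
  haveI := charTwoExt hF E
  have h2 : (2 : E) = 0 := CharTwo.two_eq_zero
  set b := a ^ 2 ^ (2 * m + 1) with hb
  have hrel := inv_rel hk hm ha
  rw [← hb] at hrel
  obtain ⟨t, ht⟩ : ∃ t : F, algebraMap F E t = a + b + a⁻¹ + b⁻¹ := by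
    refine mem_range_of_pow_card ?_
    rw [hF, th_add_ext hF, th_add_ext hF, th_add_ext hF, inv_pow, inv_pow, ← hb]
    rw [show b ^ 2 ^ (2 * m + 1) = a⁻¹ from pow_q_q hk hm ha, inv_inv]
    ring
  obtain ⟨c, hc⟩ := Finite.injective_iff_surjective.1 (fun x y h => th_inj (m := m) hF h) t
  let g : Sz F m := ⟨T m (0 : F) c * W, Subgroup.mul_mem _ (T_mem hF _ _) (W_mem hF)⟩
  set cE := algebraMap F E c with hcE
  let vec : E → Fin 4 → E := fun x => ![x ^ 3 + x, cE * x ^ 2, cE * x, x ^ 2 + 1]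
  have hMv : ∀ x : E, x ^ 4 + algebraMap F E t * x ^ 3 + cE ^ 2 * x ^ 2 + algebraMap F E t * x + 1 = 0 →
      mE E g.1 *ᵥ vec x = x • vec x := by
    intro x hx
    have e : g.1.1 = !![th m c, c, 0, 1; c, 0, 1, 0; 0, 1, 0, 0; 1, 0, 0, 0] := by
      show (T m (0 : F) c * W).1 = _
      rw [val_mul]
      ext i j
      fin_cases i <;> fin_cases j <;>
        simp [T, tMat, W, wMat, Matrix.mul_apply, Fin.sum_univ_four, zf]
    funext i
    fin_cases i <;>
      simp [mE, e, vec, Matrix.mulVec, dotProduct, Fin.sum_univ_four, hc, ← hcE]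
    · linear_combination hx - x ^ 4 * h2
    · linear_combination (cE * x) * h2
    all_goals ring
  have hcc : cE ^ 2 = a ^ 2 ^ (m + 1) + b ^ 2 ^ (m + 1) + (a ^ 2 ^ (m + 1))⁻¹ + (b ^ 2 ^ (m + 1))⁻¹ := by
    rw [hcE, ← map_pow, ← th_th (m := m) hF c, hc, th, map_pow, ht, th_add_ext hF, th_add_ext hF,
      th_add_ext hF, inv_pow, inv_pow]
  have hroot : ∀ i, (rt m a i) ^ 4 + algebraMap F E t * (rt m a i) ^ 3 + cE ^ 2 * (rt m a i) ^ 2 +
      algebraMap F E t * rt m a i + 1 = 0 := by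
    have ha0 := ne_zero_of_root hk ha
    have hb0 : b ≠ 0 := pow_ne_zero _ ha0
    intro i
    rw [hcc, hrel, ht]
    fin_cases i <;> simp [rt, ← hb] <;> field_simp <;> grind
  let Q : Matrix (Fin 4) (Fin 4) E := Matrix.of fun i j => vec (rt m a j) i
  have hne : ∀ i, vec (rt m a i) ≠ 0 := by
    intro i h
    have h3 := congrFun h 3
    simp [vec] at h3
    have hx1 : rt m a i = 1 := by
      apply CharTwo.sq_injective
      simp only [one_pow]
      linear_combination h3 - h2
    have h5 := rt_mul_opp hk ha i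
    rw [hx1, one_mul] at h5
    have := rt_injective hk hm ha h1 (hx1.trans h5.symm)
    revert this
    fin_cases i <;> decide
  have hli : LinearIndependent E (fun j => vec (rt m a j)) := by
    refine Module.End.eigenvectors_linearIndependent' (Matrix.mulVecLin (mE E g.1)) (rt m a)
      (rt_injective hk hm ha h1) _ fun i => ?_
    refine ⟨?_, hne i⟩
    rw [Module.End.mem_eigenspace_iff]
    exact hMv _ (hroot i)
  refine ⟨g, Q, ?_, ?_, ?_⟩
  · ext i j
    rw [Matrix.mul_diagonal]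
    have := congrFun (hMv _ (hroot j)) i
    simp [Q, Matrix.mul_apply, Matrix.mulVec, dotProduct] at this ⊢
    rw [this, mul_comm]
  · rw [← Matrix.isUnit_iff_isUnit_det, ← Matrix.linearIndependent_cols_iff_isUnit]
    exact hli
  · intro i j
    have hr := rt_succ hk hm ha j
    have hc' : cE ^ 2 ^ (2 * m + 1) = cE := by
      rw [hcE, ← map_pow, ← hF, FiniteField.pow_card]
    have p3 : ∀ x : E, (x ^ 3) ^ 2 ^ (2 * m + 1) = (x ^ 2 ^ (2 * m + 1)) ^ 3 := fun x => by
      rw [← pow_mul, ← pow_mul, mul_comm]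
    have p2 : ∀ x : E, (x ^ 2) ^ 2 ^ (2 * m + 1) = (x ^ 2 ^ (2 * m + 1)) ^ 2 := fun x => by
      rw [← pow_mul, ← pow_mul, mul_comm]
    fin_cases i <;> simp [Q, vec, th_add_ext hF, mul_pow, hc', p2, p3, hr]

/-- The tori of order `q ± r + 1`. -/
theorem exists_torus (hm : 1 ≤ m) (hF : Fintype.card F = 2 ^ (2 * m + 1)) {k : ℕ}
    (hk : IsTorusOrder m k) :
    ∃ U : Subgroup (Sz F m), IsCyclic U ∧ Nat.card U = k ∧
      (∀ u ∈ U, u ≠ 1 → Subgroup.centralizer {u} = U) ∧
      Nat.card (Subgroup.normalizer (U : Set (Sz F m))) ≤ 4 * k := by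
  classical
  obtain ⟨ζ, hζ⟩ := exists_torus_root hF hk
  have hk5 := (hk.bound hm).2
  have hζk := hζ.pow_eq_one
  have hζ1 := hζ.ne_one (by omega)
  obtain ⟨g, Q, hd⟩ := exists_diag hF hk hm hζk hζ1
  set C := Subgroup.centralizer ({g} : Set (Sz F m)) with hC
  have hgC : g ∈ C := Subgroup.mem_centralizer_singleton_iff.2 rfl
  have hinj := etaHom_injective hF hk hm hd hζk hζ1
  haveI hcyc : IsCyclic C := isCyclic_of_injective_ringHom _ hinj
  have hog : orderOf g = k := by
    rw [show g = C.subtype ⟨g, hgC⟩ from rfl, orderOf_injective _ C.subtype_injective,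
      ← orderOf_injective _ hinj, etaHom_self hF hk hm hd hζk hζ1, hζ.eq_orderOf]
  have hcardC : Nat.card C = k := by
    obtain ⟨z, hz⟩ := IsCyclic.exists_ofOrder_eq_natCard (α := C)
    have hzc := congrArg Subtype.val (Subgroup.mem_centralizer_singleton_iff.1 z.2)
    obtain ⟨h1, h2⟩ := eta_bound hF hk hm hd hζk hζ1 (eigen_commute hk hm hd hζk hζ1 hzc)
    have hoz : orderOf (eta Q z.1.1 0) = Nat.card C := by
      rw [← hz, ← orderOf_injective _ hinj z]; rfl
    rw [hoz] at h2
    have hdvd : Nat.card C ∣ (2 ^ (2 * m + 1)) ^ 2 + 1 := hoz ▸ orderOf_dvd_of_pow_eq_one h1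
    obtain ⟨d, hd'⟩ : k ∣ Nat.card C := by
      rw [← hog, show g = C.subtype ⟨g, hgC⟩ from rfl,
        orderOf_injective C.subtype C.subtype_injective]
      exact orderOf_dvd_natCard _
    have h3 := (hk.bound hm).1
    have hodd : Odd ((2 ^ (2 * m + 1)) ^ 2 + 1) :=
      ((Nat.even_pow.2 ⟨Nat.even_pow.2 ⟨even_two, by omega⟩, two_ne_zero⟩)).add_one
    have hdodd : Odd d := Odd.of_dvd_nat hodd ((dvd_mul_left d k).trans (hd' ▸ hdvd))
    obtain ⟨j, rfl⟩ := hdodd
    rcases j with _ | j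
    · simpa using hd'
    · exfalso
      rw [hd'] at h2
      nlinarith
  have hCz : C = Subgroup.zpowers g := by
    symm
    refine Subgroup.eq_of_le_of_card_ge (Subgroup.zpowers_le.2 hgC) ?_
    rw [hcardC, Nat.card_zpowers, hog]
  refine ⟨C, hcyc, hcardC, ?_, ?_⟩
  · intro u hu hu1
    obtain ⟨j, rfl⟩ : ∃ j : ℕ, g ^ j = u := by
      rw [hCz] at hu
      exact Submonoid.mem_powers_iff _ _ |>.1 ((isOfFinOrder_of_finite g).mem_powers_iff_mem_zpowers.2 hu)
    have hj1 : ζ ^ j ≠ 1 := by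
      intro h
      apply hu1
      rw [← orderOf_dvd_iff_pow_eq_one, hog, hζ.eq_orderOf, orderOf_dvd_iff_pow_eq_one]
      exact h
    have hdj : Diag m (g ^ j : Sz F m).1 (ζ ^ j) Q := hd.pow j
    have hζjk : (ζ ^ j) ^ k = 1 := by rw [← pow_mul, mul_comm, pow_mul, hζk, one_pow]
    apply le_antisymm
    · intro h hh
      have e1 := eigen_commute hk hm hdj hζjk hj1
        (congrArg Subtype.val (Subgroup.mem_centralizer_singleton_iff.1 hh))
      rw [hC, Subgroup.mem_centralizer_singleton_iff]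
      apply Subtype.ext
      show h.1 * g.1 = g.1 * h.1
      apply mE_injective (E := AlgebraicClosure F)
      have e2 : mE _ (h.1 * g.1) * Q = mE _ (g.1 * h.1) * Q := by
        rw [mE_mul, mE_mul, mul_assoc, hd.1, ← mul_assoc, e1, mul_assoc, mul_assoc (mE _ g.1), e1,
          ← mul_assoc (mE _ g.1), hd.1, mul_assoc, Matrix.diagonal_mul_diagonal,
          Matrix.diagonal_mul_diagonal]
        simp only [mul_comm]
      have := congrArg (· * Q⁻¹) e2
      simpa [mul_assoc, Matrix.mul_nonsing_inv _ hd.2.1] using this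
    · intro h hh
      rw [Subgroup.mem_centralizer_singleton_iff] at hh ⊢
      exact (Commute.pow_right hh j : _)
  · set N := Subgroup.normalizer (C : Set (Sz F m)) with hN
    have hCN : C ≤ N := Subgroup.le_normalizer
    let S : Finset (AlgebraicClosure F) := Finset.univ.image (rt m ζ)
    have hval : ∀ n : N, ∃ h : (n : Sz F m) * g * (n : Sz F m)⁻¹ ∈ C,
        etaHom hF hk hm hd hζk hζ1 ⟨_, h⟩ ∈ S := by
      intro n
      have hmem : (n : Sz F m) * g * (n : Sz F m)⁻¹ ∈ C :=
        (Subgroup.mem_normalizer_iff.1 n.2 g).1 hgC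
      refine ⟨hmem, ?_⟩
      obtain ⟨j, hj⟩ : ∃ j : ℕ, g ^ j = (n : Sz F m) * g * (n : Sz F m)⁻¹ := by
        have := hmem
        rw [hCz] at this
        exact Submonoid.mem_powers_iff _ _ |>.1
          ((isOfFinOrder_of_finite g).mem_powers_iff_mem_zpowers.2 this)
      have hdj : Diag m (g ^ j : Sz F m).1 (ζ ^ j) Q := hd.pow j
      have hval' : etaHom hF hk hm hd hζk hζ1 ⟨_, hmem⟩ = ζ ^ j := by
        have : (⟨_, hmem⟩ : C) = (⟨g, hgC⟩ : C) ^ j := Subtype.ext hj.symm
        rw [this, map_pow, etaHom_self hF hk hm hd hζk hζ1]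
      rw [hval']
      -- `n v₀` is an eigenvector of `g ^ j` for the eigenvalue `ζ`
      set v : Fin 4 → AlgebraicClosure F := fun i => Q i 0
      have hgv : mE _ g.1 *ᵥ v = ζ • v := by
        funext i
        have := congrFun (congrFun hd.1 i) 0
        rw [Matrix.mul_diagonal, Matrix.mul_apply] at this
        rw [Pi.smul_apply, smul_eq_mul, mul_comm]
        exact this
      set w := Q⁻¹ *ᵥ (mE _ (n : Sz F m).1 *ᵥ v) with hw
      have hQw : Q *ᵥ w = mE _ (n : Sz F m).1 *ᵥ v := by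
        rw [hw, Matrix.mulVec_mulVec, Matrix.mul_nonsing_inv _ hd.2.1, Matrix.one_mulVec]
      have heig : ∀ i, rt m (ζ ^ j) i * w i = ζ * w i := by
        have h5 : Q *ᵥ (Matrix.diagonal (rt m (ζ ^ j)) *ᵥ w) = Q *ᵥ (ζ • w) := by
          rw [Matrix.mulVec_mulVec, ← hdj.1, ← Matrix.mulVec_mulVec, hQw, Matrix.mulVec_smul, hQw,
            Matrix.mulVec_mulVec, ← mE_mul]
          have e : (g ^ j : Sz F m).1 * (n : Sz F m).1 = (n : Sz F m).1 * g.1 := by
            rw [hj]; simp
          rw [e, mE_mul, ← Matrix.mulVec_mulVec, hgv, Matrix.mulVec_smul]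
        intro i
        have h6 := congrFun (congrArg (Q⁻¹ *ᵥ ·) h5) i
        simpa [Matrix.mulVec_mulVec, ← Matrix.mul_assoc, Matrix.nonsing_inv_mul _ hd.2.1,
          Matrix.mulVec_diagonal] using h6
      obtain ⟨i, hwi⟩ : ∃ i, w i ≠ 0 := by
        by_contra hall
        push Not at hall
        have hv0 : v = 0 := by
          have h7 : mE _ (n : Sz F m).1 *ᵥ v = 0 := by
            rw [← hQw, show w = 0 from funext hall, Matrix.mulVec_zero]
          have := congrArg (mE (AlgebraicClosure F) ((n : Sz F m).1)⁻¹ *ᵥ ·) h7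
          simpa [Matrix.mulVec_mulVec, ← mE_mul, mE_one] using this
        exact hd.2.1.ne_zero (Matrix.det_eq_zero_of_column_eq_zero 0 (congrFun hv0))
      have hri : rt m (ζ ^ j) i = ζ := mul_right_cancel₀ hwi (heig i)
      have hjk : (ζ ^ j) ^ k = 1 := by rw [← pow_mul, mul_comm, pow_mul, hζk, one_pow]
      have hback : ∀ l, rt m (rt m (ζ ^ j) i) l = rt m (ζ ^ j) (i + l) := by
        have r0 := rt_succ hk hm hjk i
        intro l
        fin_cases l
        · simp [rt]
        · simp [rt] at r0 ⊢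
          exact r0
        · show (rt m (ζ ^ j) i)⁻¹ = _
          exact inv_eq_of_mul_eq_one_right (rt_mul_opp hk hjk i)
        · show ((rt m (ζ ^ j) i) ^ 2 ^ (2 * m + 1))⁻¹ = _
          rw [r0, inv_eq_of_mul_eq_one_right (rt_mul_opp hk hjk (i + 1)), add_assoc]
          rfl
      refine Finset.mem_image.2 ⟨-i, Finset.mem_univ _, ?_⟩
      have hb := hback (-i)
      rw [add_neg_cancel, hri] at hb
      exact hb.trans (by simp [rt])
    haveI hst : Finite N := inferInstance
    have horb : (MulAction.orbit (ConjAct N) (⟨g, hCN hgC⟩ : N)).ncard ≤ 4 := by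
      refine le_trans (Set.ncard_le_ncard_of_injOn
        (fun x : N => if h : (x : Sz F m) ∈ C then etaHom hF hk hm hd hζk hζ1 ⟨_, h⟩ else 0)
        (t := (S : Set (AlgebraicClosure F))) ?_ ?_ (Finset.finite_toSet S)) ?_
      · rintro x ⟨c, rfl⟩
        obtain ⟨h, hS⟩ := hval (ConjAct.ofConjAct c)
        have hx : ((c • (⟨g, hCN hgC⟩ : N) : N) : Sz F m) ∈ C := h
        simp only [dif_pos hx]
        exact hS
      · rintro x ⟨c, rfl⟩ y ⟨c', rfl⟩ he
        have hx : ((c • (⟨g, hCN hgC⟩ : N) : N) : Sz F m) ∈ C := (hval (ConjAct.ofConjAct c)).1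
        have hy : ((c' • (⟨g, hCN hgC⟩ : N) : N) : Sz F m) ∈ C := (hval (ConjAct.ofConjAct c')).1
        simp only [dif_pos hx, dif_pos hy] at he
        exact Subtype.ext (congrArg (fun z : C => (z : Sz F m)) (hinj he))
      · rw [Set.ncard_coe_finset]
        exact Finset.card_image_le.trans (by simp)
    rw [← MulAction.index_stabilizer, ConjAct.stabilizer_eq_centralizer] at horb
    rw [← Nat.card_congr ConjAct.toConjAct.toEquiv.symm] at *
    calc Nat.card (ConjAct N) = Nat.card (Subgroup.centralizer {ConjAct.toConjAct (⟨g, hCN hgC⟩ : N)}) *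
          (Subgroup.centralizer {ConjAct.toConjAct (⟨g, hCN hgC⟩ : N)}).index :=
        (Subgroup.card_mul_index _).symm
      _ ≤ k * 4 := by
        refine Nat.mul_le_mul (le_of_le_of_eq ?_ hcardC) horb
        refine Nat.card_le_card_of_injective
          (fun z => (⟨((ConjAct.ofConjAct z.1 : N) : Sz F m), ?_⟩ : C)) ?_
        · have := Subgroup.mem_centralizer_singleton_iff.1 z.2
          exact Subgroup.mem_centralizer_singleton_iff.2 (congrArg (fun w : ConjAct N => ((ConjAct.ofConjAct w : N) : Sz F m)) this)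
        · intro z z' h
          exact Subtype.ext (ConjAct.ofConjAct.injective
            (Subtype.ext (congrArg (fun w : C => (w : Sz F m)) h)))
      _ = 4 * k := mul_comm _ _

end Cfsg.Agent.SZ
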