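/-
Suzuki groups, part 8: the partition into conjugates of `U`, the torus `H` and the two anisotropic tori.
-/
import Cfsg.Agent.Lib.Sz.Torus
import Cfsg.Agent.Lib.Sz.Sylow

set_option autoImplicit false

namespace Cfsg.Agent.SZ

open Cfsg Matrix
open scoped Pointwise

/-- A trivial intersection subgroup, in element form. -/
def IsTI {G : Type*} [Group G] (A : Subgroup G) : Prop :=
  ∀ x a : G, a ∈ A → a ≠ 1 → x * a * x⁻¹ ∈ A → x ∈ Subgroup.normalizer (A : Set G)

/-- The non-trivial elements of the conjugates of `A`. -/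
def conjSet {G : Type*} [Group G] (A : Subgroup G) : Set G :=
  {g | g ≠ 1 ∧ ∃ x : G, x⁻¹ * g * x ∈ A}

theorem ncard_conjSet {G : Type*} [Group G] [Finite G] {A : Subgroup G} (hA : IsTI A) :
    (conjSet A).ncard = (Subgroup.normalizer (A : Set G)).index * (Nat.card A - 1) := by
  set N := Subgroup.normalizer (A : Set G) with hN
  haveI : Fintype A := Fintype.ofFinite A
  let f : (G ⧸ N) × {a : A // a ≠ 1} → conjSet A := fun p =>
    ⟨p.1.out * p.2.1 * p.1.out⁻¹, by
      refine ⟨fun e => p.2.2 ?_, p.1.out, ?_⟩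
      · exact Subtype.ext (by simpa [mul_inv_eq_one] using e)
      · convert p.2.1.2 using 1; group⟩
  have hf : Function.Bijective f := by
    constructor
    · rintro ⟨c, a, ha⟩ ⟨d, b, hb⟩ h
      have h' : c.out * (a : G) * c.out⁻¹ = d.out * b * d.out⁻¹ := congrArg Subtype.val h
      have hmem : (d.out⁻¹ * c.out) * (a : G) * (d.out⁻¹ * c.out)⁻¹ ∈ A := by
        have : (d.out⁻¹ * c.out) * (a : G) * (d.out⁻¹ * c.out)⁻¹ = b := by
          calc _ = d.out⁻¹ * (c.out * (a : G) * c.out⁻¹) * d.out := by group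
            _ = b := by rw [h']; group
        rw [this]; exact b.2
      have hx := hA _ _ a.2 (fun e => ha (Subtype.ext e)) hmem
      obtain rfl : d = c := by
        rw [← QuotientGroup.out_eq' d, ← QuotientGroup.out_eq' c]
        exact QuotientGroup.eq.2 hx
      have : a = b := Subtype.ext (by simpa using h')
      subst this
      rfl
    · rintro ⟨g, hg1, x, hx⟩
      set c : G ⧸ N := QuotientGroup.mk x
      have hn : c.out⁻¹ * x ∈ N := QuotientGroup.eq.1 (QuotientGroup.out_eq' c)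
      have hmem : c.out⁻¹ * g * c.out ∈ A := by
        have := (Subgroup.mem_normalizer_iff.1 hn _).1 hx
        convert this using 1; group
      refine ⟨⟨c, ⟨⟨_, hmem⟩, fun e => hg1 ?_⟩⟩, Subtype.ext (by simp [f]; group)⟩
      have h2 : c.out⁻¹ * g * c.out = 1 := congrArg Subtype.val e
      calc g = c.out * (c.out⁻¹ * g * c.out) * c.out⁻¹ := by group
        _ = 1 := by rw [h2]; group
  classical
  rw [← Nat.card_coe_set_eq, ← Nat.card_eq_of_bijective f hf, Nat.card_prod, ← Subgroup.index_eq_card]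
  congr 1
  rw [Nat.card_eq_fintype_card, Nat.card_eq_fintype_card, Fintype.card_subtype_compl,
    Fintype.card_subtype_eq]

theorem disjoint_conjSet {G : Type*} [Group G] [Finite G] {A B : Subgroup G}
    (h : (Nat.card A).Coprime (Nat.card B)) : Disjoint (conjSet A) (conjSet B) := by
  rw [Set.disjoint_left]
  rintro g ⟨hg1, x, hx⟩ ⟨-, y, hy⟩
  have hord : ∀ (K : Subgroup G) (z : G), z⁻¹ * g * z ∈ K → orderOf g ∣ Nat.card K := by
    intro K z hz
    have e : z⁻¹ * g * z = MulAut.conj z⁻¹ g := by simp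
    rw [← orderOf_injective (MulAut.conj z⁻¹).toMonoidHom (MulEquiv.injective _) g]
    show orderOf (MulAut.conj z⁻¹ g) ∣ _
    rw [← e, show z⁻¹ * g * z = K.subtype ⟨_, hz⟩ from rfl, orderOf_injective _ K.subtype_injective]
    exact orderOf_dvd_natCard _
  exact hg1 (orderOf_eq_one_iff.1 (Nat.eq_one_of_dvd_coprimes h (hord A x hx) (hord B y hy)))

variable {F : Type*} [Field F] [Fintype F] {m : ℕ}

/-- The split torus. -/
def hGrp (hF : Fintype.card F = 2 ^ (2 * m + 1)) : Subgroup (Sz F m) :=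
  MonoidHom.range
    ({ toFun := hS hF
       map_one' := Subtype.ext H_one
       map_mul' := fun u v => Subtype.ext (H_mul u v) } : Fˣ →* Sz F m)

theorem mem_hGrp (hF : Fintype.card F = 2 ^ (2 * m + 1)) {g : Sz F m} :
    g ∈ hGrp hF ↔ ∃ u, hS hF u = g := Iff.rfl

theorem card_hGrp (hF : Fintype.card F = 2 ^ (2 * m + 1)) :
    Nat.card (hGrp hF) = Fintype.card F - 1 := by
  rw [hGrp, Nat.card_congr (MonoidHom.ofInjective (f := _) ?_).toEquiv.symm, Nat.card_units,
    Nat.card_eq_fintype_card]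
  intro u v h
  exact H_inj (congrArg Subtype.val h)

theorem isCyclic_hGrp (hF : Fintype.card F = 2 ^ (2 * m + 1)) : IsCyclic (hGrp hF) :=
  isCyclic_of_surjective _ (MonoidHom.rangeRestrict_surjective _)

theorem mem_hGrp_of_fix (hm : 1 ≤ m) (hF : Fintype.card F = 2 ^ (2 * m + 1)) {g : Sz F m}
    (h0 : g.1 • suzukiPointInfinity F = suzukiPointInfinity F)
    (h1 : g.1 • suzukiPointZero F = suzukiPointZero F) : g ∈ hGrp hF := by
  obtain ⟨u, hu⟩ := exists_H_of_fix hm hF g.2 h0 h1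
  exact (mem_hGrp hF).2 ⟨u, Subtype.ext hu.symm⟩

/-- A non-trivial element fixing two points has no further fixed point. -/
theorem fix_eq_or (hm : 1 ≤ m) (hF : Fintype.card F = 2 ^ (2 * m + 1)) {u : Fˣ} (hu : u ≠ 1)
    {p : Projectivization F (Fin 4 → F)} (hp : p ∈ suzukiOvoid F m) (h : H m u • p = p) :
    p = suzukiPointInfinity F ∨ p = suzukiPointZero F := by
  by_contra hne
  push Not at hne
  refine hu (H_inj (m := m) ?_)
  rw [H_one]
  exact three_points hm hF (H_mem hF u) inf_mem zero_mem hp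
    (by rw [zero_eq_aff (m := m)]; exact (aff_ne_inf 0 0).symm) hne.2.symm hne.1.symm
    (H_smul_inf u) (H_smul_zero u) h

theorem normalizer_hGrp (hm : 1 ≤ m) (hF : Fintype.card F = 2 ^ (2 * m + 1)) {x : Sz F m}
    (hx : ∃ a ∈ hGrp hF, a ≠ 1 ∧ x * a * x⁻¹ ∈ hGrp hF) :
    (x.1 • suzukiPointInfinity F = suzukiPointInfinity F ∨ x.1 • suzukiPointInfinity F = suzukiPointZero F) ∧
    (x.1 • suzukiPointZero F = suzukiPointInfinity F ∨ x.1 • suzukiPointZero F = suzukiPointZero F) := by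
  obtain ⟨a, ha, ha1, hxa⟩ := hx
  obtain ⟨u, rfl⟩ := (mem_hGrp hF).1 ha
  obtain ⟨v, hv⟩ := (mem_hGrp hF).1 hxa
  have hv1 : v ≠ 1 := by
    rintro rfl
    rw [show hS hF (1 : Fˣ) = 1 from Subtype.ext H_one, eq_comm, mul_inv_eq_one] at hv
    exact ha1 (mul_left_cancel (hv.trans (mul_one x).symm))
  have e : ∀ p : Projectivization F (Fin 4 → F), H m u • p = p → H m v • x.1 • p = x.1 • p := by
    intro p hp
    have := congrArg (fun g : Sz F m => g.1 • (x.1 • p)) hv
    simp only [Subgroup.coe_mul, InvMemClass.coe_inv, mul_smul, inv_smul_smul] at this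
    exact this.trans (congrArg (x.1 • ·) hp)
  exact ⟨fix_eq_or hm hF hv1 (smul_mem x.2 inf_mem) (e _ (H_smul_inf u)),
    fix_eq_or hm hF hv1 (smul_mem x.2 zero_mem) (e _ (H_smul_zero u))⟩

theorem isTI_hGrp (hm : 1 ≤ m) (hF : Fintype.card F = 2 ^ (2 * m + 1)) : IsTI (hGrp (m := m) hF) := by
  intro x a ha ha1 hxa
  obtain ⟨h1, h2⟩ := normalizer_hGrp hm hF ⟨a, ha, ha1, hxa⟩
  have hpair : ∀ g : Sz F m, g ∈ hGrp hF →
      g.1 • (x.1 • suzukiPointInfinity F) = x.1 • suzukiPointInfinity F ∧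
        g.1 • (x.1 • suzukiPointZero F) = x.1 • suzukiPointZero F := by
    intro g hg
    obtain ⟨u, rfl⟩ := (mem_hGrp hF).1 hg
    constructor
    · rcases h1 with e | e <;> rw [e]
      exacts [H_smul_inf u, H_smul_zero u]
    · rcases h2 with e | e <;> rw [e]
      exacts [H_smul_inf u, H_smul_zero u]
  have hin : ∀ g ∈ hGrp hF, x⁻¹ * g * x ∈ hGrp hF := by
    intro g hg
    obtain ⟨e1, e2⟩ := hpair g hg
    refine mem_hGrp_of_fix hm hF ?_ ?_ <;>
      simp only [Subgroup.coe_mul, InvMemClass.coe_inv, mul_smul]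
    · rw [e1, inv_smul_smul]
    · rw [e2, inv_smul_smul]
  have hxinv : x⁻¹ ∈ Subgroup.normalizer (hGrp hF : Set (Sz F m)) := by
    refine Subgroup.mem_normalizer_iff.2 fun g => ⟨fun hg => by simpa using hin g hg, fun hg => ?_⟩
    let φ : hGrp hF → hGrp hF := fun g => ⟨_, hin g.1 g.2⟩
    have hφ : Function.Injective φ := fun a b h => Subtype.ext (by
      simpa [φ] using congrArg Subtype.val h)
    obtain ⟨⟨g', hg'⟩, e⟩ := Finite.injective_iff_surjective.1 hφ ⟨_, hg⟩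
    have e' : x⁻¹ * g' * x = x⁻¹ * g * x⁻¹⁻¹ := congrArg Subtype.val e
    rw [inv_inv] at e'
    have hgg : g' = g := by
      calc g' = x * (x⁻¹ * g' * x) * x⁻¹ := by group
        _ = g := by rw [e']; group
    exact hgg ▸ hg'
  simpa using Subgroup.inv_mem _ hxinv

theorem card_normalizer_hGrp_le (hm : 1 ≤ m) (hF : Fintype.card F = 2 ^ (2 * m + 1)) :
    Nat.card (Subgroup.normalizer (hGrp hF : Set (Sz F m))) ≤ 2 * (Fintype.card F - 1) := by
  set N := Subgroup.normalizer (hGrp hF : Set (Sz F m)) with hN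
  obtain ⟨u, hu⟩ := exists_unit_ne_one hm hF
  have key : ∀ x ∈ N, (x.1 • suzukiPointInfinity F = suzukiPointInfinity F ∨
      x.1 • suzukiPointInfinity F = suzukiPointZero F) ∧
    (x.1 • suzukiPointZero F = suzukiPointInfinity F ∨ x.1 • suzukiPointZero F = suzukiPointZero F) :=
    fun x hx => normalizer_hGrp hm hF ⟨hS hF u, (mem_hGrp hF).2 ⟨u, rfl⟩, fun e => hu (H_inj
      ((congrArg Subtype.val e).trans H_one.symm)),
      (Subgroup.mem_normalizer_iff.1 hx _).1 ((mem_hGrp hF).2 ⟨u, rfl⟩)⟩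
  rw [← Subgroup.card_mul_index (MulAction.stabilizer N (suzukiPointInfinity F)), mul_comm,
    MulAction.index_stabilizer]
  refine Nat.mul_le_mul ?_ ?_
  · refine le_trans (Set.ncard_le_ncard (t := {suzukiPointInfinity F, suzukiPointZero F}) ?_
      (Set.toFinite _)) (le_trans (Set.ncard_insert_le _ _) (by rw [Set.ncard_singleton]))
    rintro _ ⟨x, rfl⟩
    exact (key x.1 x.2).1
  · rw [← card_hGrp (m := m) hF]
    refine Nat.card_le_card_of_injective (fun z => ⟨z.1.1, ?_⟩) fun a b h =>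
      Subtype.ext (Subtype.ext (congrArg (fun w : hGrp hF => w.1) h))
    have h0 : z.1.1.1 • suzukiPointInfinity F = suzukiPointInfinity F := z.2
    refine mem_hGrp_of_fix hm hF h0 ?_
    rcases (key _ z.1.2).2 with e | e
    · exact absurd (MulAction.injective z.1.1.1 (e.trans h0.symm))
        (by rw [zero_eq_aff (m := m)]; exact aff_ne_inf 0 0)
    · exact e

theorem tS_fix_unique (hF : Fintype.card F = 2 ^ (2 * m + 1)) {g : Sz F m} (hg : g ∈ uGrp hF)
    (hg1 : g ≠ 1) {p : Projectivization F (Fin 4 → F)} (hp : p ∈ suzukiOvoid F m)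
    (h : g.1 • p = p) : p = suzukiPointInfinity F := by
  by_contra hne
  obtain ⟨s, hs, huniq⟩ := uGrp_regular hF hp hp hne hne
  have h1 := huniq ⟨g, hg⟩ h
  have h2 := huniq 1 (by simp)
  exact hg1 (congrArg Subtype.val (h1.trans h2.symm))

theorem isTI_uGrp (hm : 1 ≤ m) (hF : Fintype.card F = 2 ^ (2 * m + 1)) : IsTI (uGrp (m := m) hF) := by
  intro x a ha ha1 hxa
  rw [normalizer_uGrp hm hF]
  have h : (x * a * x⁻¹).1 • (x.1 • suzukiPointInfinity F) = x.1 • suzukiPointInfinity F := by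
    simp only [Subgroup.coe_mul, InvMemClass.coe_inv, mul_smul, inv_smul_smul]
    rw [show a.1 • suzukiPointInfinity F = suzukiPointInfinity F from uGrp_le_stab hF ha]
  exact tS_fix_unique hF hxa (fun e => ha1 (by simpa [mul_inv_eq_one] using e))
    (smul_mem x.2 inf_mem) h

theorem isTI_of_centralizer {G : Type*} [Group G] {A : Subgroup G}
    (h : ∀ u ∈ A, u ≠ 1 → Subgroup.centralizer {u} = A) : IsTI A := by
  intro x a ha ha1 hxa
  have h1 := h a ha ha1
  have h2 := h _ hxa (fun e => ha1 (by simpa [mul_inv_eq_one] using e))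
  rw [Subgroup.mem_normalizer_iff]
  intro b
  conv_lhs => rw [← h1]
  conv_rhs => rw [← h2]
  rw [Subgroup.mem_centralizer_singleton_iff, Subgroup.mem_centralizer_singleton_iff]
  constructor
  · intro hb
    calc x * b * x⁻¹ * (x * a * x⁻¹) = x * (b * a) * x⁻¹ := by group
      _ = x * (a * b) * x⁻¹ := by rw [hb]
      _ = _ := by group
  · intro hb
    calc b * a = x⁻¹ * (x * b * x⁻¹ * (x * a * x⁻¹)) * x := by group
      _ = x⁻¹ * (x * a * x⁻¹ * (x * b * x⁻¹)) * x := by rw [hb]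
      _ = _ := by group

/-- The properties of the two anisotropic tori. -/
structure IsTorus (U : Subgroup (Sz F m)) (k : ℕ) : Prop where
  cyclic : IsCyclic U
  card : Nat.card U = k
  cent : ∀ u ∈ U, u ≠ 1 → Subgroup.centralizer {u} = U
  normalizer : Nat.card (Subgroup.normalizer (U : Set (Sz F m))) = 4 * k

theorem coprime_facts (hm : 1 ≤ m) :
    ((2 ^ (2 * m + 1)) ^ 2).Coprime (2 ^ (2 * m + 1) - 1) ∧
    ((2 ^ (2 * m + 1)) ^ 2).Coprime (2 ^ (2 * m + 1) + 2 ^ (m + 1) + 1) ∧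
    ((2 ^ (2 * m + 1)) ^ 2).Coprime (2 ^ (2 * m + 1) - 2 ^ (m + 1) + 1) ∧
    (2 ^ (2 * m + 1) - 1).Coprime (2 ^ (2 * m + 1) + 2 ^ (m + 1) + 1) ∧
    (2 ^ (2 * m + 1) - 1).Coprime (2 ^ (2 * m + 1) - 2 ^ (m + 1) + 1) ∧
    (2 ^ (2 * m + 1) + 2 ^ (m + 1) + 1).Coprime (2 ^ (2 * m + 1) - 2 ^ (m + 1) + 1) := by
  have hp : IsTorusOrder m (2 ^ (2 * m + 1) + 2 ^ (m + 1) + 1) := Or.inl rfl
  have hn : IsTorusOrder m (2 ^ (2 * m + 1) - 2 ^ (m + 1) + 1) := Or.inr rfl
  have hodd : Odd (2 ^ (2 * m + 1) - 1) :=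
    Nat.Even.sub_odd Nat.one_le_two_pow (Nat.even_pow.2 ⟨even_two, by omega⟩) odd_one
  have h2 : ∀ n k, Odd n → (2 ^ k).Coprime n := fun n k h => (Nat.coprime_two_left.2 h).pow_left k
  have hk : ∀ k, IsTorusOrder m k → (2 ^ (2 * m + 1) - 1).Coprime k := by
    intro k hk
    refine Nat.Coprime.coprime_dvd_right (hk.dvd hm) (Nat.coprime_of_dvd fun p pp h1 h3 => ?_)
    obtain ⟨r, hr⟩ := Nat.exists_eq_add_of_le (show 1 ≤ 2 ^ (2 * m + 1) from Nat.one_le_two_pow)
    rw [hr] at h1 h3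
    rw [Nat.add_sub_cancel_left] at h1
    have h4 : p ∣ 2 := by
      have : (1 + r) ^ 2 + 1 = r * (r + 2) + 2 := by ring
      rw [this] at h3
      exact (Nat.dvd_add_right (h1.mul_right _)).1 h3
    rw [(Nat.prime_dvd_prime_iff_eq pp Nat.prime_two).1 h4] at h1
    exact Nat.not_even_iff_odd.2 hodd (by
      rw [hr, Nat.add_sub_cancel_left]; exact even_iff_two_dvd.2 h1)
  refine ⟨by rw [← pow_mul]; exact h2 _ _ hodd, by rw [← pow_mul]; exact h2 _ _ hp.odd,
    by rw [← pow_mul]; exact h2 _ _ hn.odd, hk _ hp, hk _ hn, Nat.coprime_of_dvd fun p pp h1 h3 => ?_⟩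
  have h5 : p ∣ 2 ^ (m + 2) := by
    have h7 := two_sigma_le hm
    have := Nat.dvd_sub h1 h3
    rwa [show 2 ^ (2 * m + 1) + 2 ^ (m + 1) + 1 - (2 ^ (2 * m + 1) - 2 ^ (m + 1) + 1) = 2 ^ (m + 2) by
      rw [pow_succ 2 (m + 1)]; omega] at this
  rw [(Nat.prime_dvd_prime_iff_eq pp Nat.prime_two).1 (pp.dvd_of_dvd_pow h5)] at h1
  exact Nat.not_even_iff_odd.2 hp.odd (even_iff_two_dvd.2 h1)

/-- The partition of the Suzuki group. -/
theorem partition (hm : 1 ≤ m) (hF : Fintype.card F = 2 ^ (2 * m + 1)) :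
    ∃ Up Um : Subgroup (Sz F m), IsTorus Up (2 ^ (2 * m + 1) + 2 ^ (m + 1) + 1) ∧
      IsTorus Um (2 ^ (2 * m + 1) - 2 ^ (m + 1) + 1) ∧
      Nat.card (Subgroup.normalizer (hGrp hF : Set (Sz F m))) = 2 * (Fintype.card F - 1) ∧
      ∀ g : Sz F m, g ≠ 1 →
        g ∈ conjSet (uGrp hF) ∨ g ∈ conjSet (hGrp hF) ∨ g ∈ conjSet Up ∨ g ∈ conjSet Um := by
  obtain ⟨Up, cp, kp, zp, np⟩ := exists_torus hm hF (k := 2 ^ (2 * m + 1) + 2 ^ (m + 1) + 1) (Or.inl rfl)
  obtain ⟨Um, cm, km, zm, nm⟩ := exists_torus hm hF (k := 2 ^ (2 * m + 1) - 2 ^ (m + 1) + 1) (Or.inr rfl)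
  have eU := ncard_conjSet (isTI_uGrp hm hF)
  have eH := ncard_conjSet (isTI_hGrp hm hF)
  have eP := ncard_conjSet (isTI_of_centralizer zp)
  have eM := ncard_conjSet (isTI_of_centralizer zm)
  rw [index_normalizer_uGrp hm hF, card_uGrp] at eU
  rw [card_hGrp] at eH
  rw [kp] at eP
  rw [km] at eM
  obtain ⟨c1, c2, c3, c4, c5, c6⟩ := coprime_facts hm
  rw [← hF] at c1 c2 c3 c4 c5
  have d1 : Disjoint (conjSet (uGrp hF)) (conjSet (hGrp (m := m) hF)) :=
    disjoint_conjSet (by rw [card_uGrp, card_hGrp]; exact c1)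
  have d2 : Disjoint (conjSet (uGrp hF)) (conjSet Up) :=
    disjoint_conjSet (by rw [card_uGrp, kp, ← hF]; exact c2)
  have d3 : Disjoint (conjSet (uGrp hF)) (conjSet Um) :=
    disjoint_conjSet (by rw [card_uGrp, km, ← hF]; exact c3)
  have d4 : Disjoint (conjSet (hGrp (m := m) hF)) (conjSet Up) :=
    disjoint_conjSet (by rw [card_hGrp, kp, ← hF]; exact c4)
  have d5 : Disjoint (conjSet (hGrp (m := m) hF)) (conjSet Um) :=
    disjoint_conjSet (by rw [card_hGrp, km, ← hF]; exact c5)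
  have d6 : Disjoint (conjSet Up) (conjSet Um) := disjoint_conjSet (by rw [kp, km]; exact c6)
  set S := conjSet (uGrp hF) ∪ conjSet (hGrp (m := m) hF) ∪ conjSet Up ∪ conjSet Um with hS
  have eS : S.ncard = (conjSet (uGrp (m := m) hF)).ncard + (conjSet (hGrp (m := m) hF)).ncard +
      (conjSet Up).ncard + (conjSet Um).ncard := by
    rw [hS, Set.ncard_union_eq ((d3.union_left d5).union_left d6),
      Set.ncard_union_eq (d2.union_left d4), Set.ncard_union_eq d1]
  have hsub : S ⊆ {g : Sz F m | g ≠ 1} := by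
    rintro g (((h | h) | h) | h) <;> exact h.1
  have hle := Set.ncard_le_ncard hsub (Set.toFinite _)
  have huniv : ({g : Sz F m | g ≠ 1}).ncard + 1 = Nat.card (Sz F m) := by
    rw [show {g : Sz F m | g ≠ 1} = ({1} : Set (Sz F m))ᶜ from rfl, ← Set.ncard_singleton (1 : Sz F m),
      add_comm, Set.ncard_add_ncard_compl]
  have iH := Subgroup.card_mul_index (Subgroup.normalizer (hGrp hF : Set (Sz F m)))
  have iP := Subgroup.card_mul_index (Subgroup.normalizer (Up : Set (Sz F m)))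
  have iM := Subgroup.card_mul_index (Subgroup.normalizer (Um : Set (Sz F m)))
  have nH := card_normalizer_hGrp_le hm hF
  rw [card_Sz hm hF] at iH iP iM huniv
  rw [eU, eH, eP, eM] at eS
  have hpm : (2 ^ (2 * m + 1) + 2 ^ (m + 1) + 1) * (2 ^ (2 * m + 1) - 2 ^ (m + 1) + 1) =
      Fintype.card F ^ 2 + 1 := by rw [hF]; exact torus_prod hm
  have hsum : (2 ^ (2 * m + 1) + 2 ^ (m + 1) + 1) + (2 ^ (2 * m + 1) - 2 ^ (m + 1) + 1) =
      2 * Fintype.card F + 2 := by
    have := two_sigma_le hm; rw [hF]; omega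
  have hp0 : 5 ≤ 2 ^ (2 * m + 1) + 2 ^ (m + 1) + 1 := (IsTorusOrder.bound (Or.inl rfl) hm).2
  have hm0 : 5 ≤ 2 ^ (2 * m + 1) - 2 ^ (m + 1) + 1 := (IsTorusOrder.bound (Or.inr rfl) hm).2
  have hq8 : 8 ≤ Fintype.card F := by
    rw [hF]
    exact le_trans (by norm_num) (Nat.pow_le_pow_right (by norm_num) (show 3 ≤ 2 * m + 1 by omega))
  generalize 2 ^ (2 * m + 1) + 2 ^ (m + 1) + 1 = P at *
  generalize 2 ^ (2 * m + 1) - 2 ^ (m + 1) + 1 = M at *
  generalize Nat.card (Subgroup.normalizer (hGrp hF : Set (Sz F m))) = NH at *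
  generalize hNP : Nat.card (Subgroup.normalizer (Up : Set (Sz F m))) = NP at *
  generalize hNM : Nat.card (Subgroup.normalizer (Um : Set (Sz F m))) = NM at *
  generalize (Subgroup.normalizer (hGrp hF : Set (Sz F m))).index = IH at *
  generalize (Subgroup.normalizer (Up : Set (Sz F m))).index = IP at *
  generalize (Subgroup.normalizer (Um : Set (Sz F m))).index = IM at *
  generalize hsz : ({g : Sz F m | g ≠ 1}).ncard = Z at *
  generalize hsc : S.ncard = SC at *
  obtain ⟨r, hr⟩ : ∃ r, Fintype.card F = r + 2 := ⟨Fintype.card F - 2, by omega⟩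
  rw [hr] at eS iH iP iM huniv hpm hsum nH
  simp only [show r + 2 - 1 = r + 1 from rfl] at eS iH iP iM huniv nH
  have hX : (r + 2) ^ 2 - 1 = r ^ 2 + 4 * r + 3 := by
    have : (r + 2) ^ 2 = r ^ 2 + 4 * r + 4 := by ring
    omega
  rw [hX, show r + 1 - 1 = r from rfl] at eS
  obtain ⟨P', rfl⟩ : ∃ P', P = P' + 1 := ⟨P - 1, by omega⟩
  obtain ⟨M', rfl⟩ : ∃ M', M = M' + 1 := ⟨M - 1, by omega⟩
  simp only [Nat.add_sub_cancel] at eS
  have bH : (r + 2) ^ 2 * ((r + 2) ^ 2 + 1) ≤ 2 * IH := by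
    refine Nat.le_of_mul_le_mul_right ?_ (show 0 < r + 1 by omega)
    calc (r + 2) ^ 2 * ((r + 2) ^ 2 + 1) * (r + 1) = NH * IH := iH.symm
      _ ≤ 2 * (r + 1) * IH := Nat.mul_le_mul_right _ nH
      _ = _ := by ring
  have bP : (r + 2) ^ 2 * (r + 1) * (M' + 1) ≤ 4 * IP := by
    refine Nat.le_of_mul_le_mul_right ?_ (show 0 < P' + 1 by omega)
    calc (r + 2) ^ 2 * (r + 1) * (M' + 1) * (P' + 1) = (r + 2) ^ 2 * ((r + 2) ^ 2 + 1) * (r + 1) := by
          rw [← hpm]; ring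
      _ = NP * IP := iP.symm
      _ ≤ 4 * (P' + 1) * IP := Nat.mul_le_mul_right _ np
      _ = _ := by ring
  have bM : (r + 2) ^ 2 * (r + 1) * (P' + 1) ≤ 4 * IM := by
    refine Nat.le_of_mul_le_mul_right ?_ (show 0 < M' + 1 by omega)
    calc (r + 2) ^ 2 * (r + 1) * (P' + 1) * (M' + 1) = (r + 2) ^ 2 * ((r + 2) ^ 2 + 1) * (r + 1) := by
          rw [← hpm]; ring
      _ = NM * IM := iM.symm
      _ ≤ 4 * (M' + 1) * IM := Nat.mul_le_mul_right _ nm
      _ = _ := by ring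
  obtain ⟨xH, hxH⟩ := Nat.exists_eq_add_of_le bH
  obtain ⟨xP, hxP⟩ := Nat.exists_eq_add_of_le bP
  obtain ⟨xM, hxM⟩ := Nat.exists_eq_add_of_le bM
  have main : 4 * SC = 4 * Z + (2 * xH * r + xP * P' + xM * M') := by
    rw [eS]
    have e1 : 2 * IH * r = ((r + 2) ^ 2 * ((r + 2) ^ 2 + 1) + xH) * r := by rw [hxH]
    have e2 : 4 * IP * P' = ((r + 2) ^ 2 * (r + 1) * (M' + 1) + xP) * P' := by rw [hxP]
    have e3 : 4 * IM * M' = ((r + 2) ^ 2 * (r + 1) * (P' + 1) + xM) * M' := by rw [hxM]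
    have e4 : P' + M' = 2 * r + 4 := by omega
    have e5 : (P' + 1) * (M' + 1) = (r + 2) ^ 2 + 1 := hpm
    zify at *
    linear_combination 2 * e1 + e2 + e3 + (2 * ((r : ℤ) + 2) ^ 2 * (r + 1)) * e5 -
      (((r : ℤ) + 2) ^ 2 * (r + 1)) * e4 - 4 * huniv
  have hz : 2 * xH * r + xP * P' + xM * M' = 0 := by omega
  obtain ⟨z1, z3⟩ := Nat.add_eq_zero_iff.1 hz
  obtain ⟨z1, z2⟩ := Nat.add_eq_zero_iff.1 z1
  have hxH0 : xH = 0 := by
    have := (Nat.mul_eq_zero.1 z1).resolve_right (by omega)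
    omega
  have hxP0 : xP = 0 := (Nat.mul_eq_zero.1 z2).resolve_right (by omega)
  have hxM0 : xM = 0 := (Nat.mul_eq_zero.1 z3).resolve_right (by omega)
  subst hxH0 hxP0 hxM0
  simp only [add_zero] at hxH hxP hxM
  have hNH : NH = 2 * (r + 1) := by
    refine Nat.eq_of_mul_eq_mul_right (show 0 < IH by
      rcases Nat.eq_zero_or_pos IH with h | h
      · rw [h, mul_zero] at iH; exact absurd iH.symm (by positivity)
      · exact h) ?_
    rw [iH, ← hxH]; ring
  have hNP' : NP = 4 * (P' + 1) := by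
    refine Nat.eq_of_mul_eq_mul_right (show 0 < IP by
      rcases Nat.eq_zero_or_pos IP with h | h
      · rw [h, mul_zero] at iP; exact absurd iP.symm (by positivity)
      · exact h) ?_
    rw [iP, show 4 * (P' + 1) * IP = (P' + 1) * (4 * IP) by ring, hxP, ← hpm]; ring
  have hNM' : NM = 4 * (M' + 1) := by
    refine Nat.eq_of_mul_eq_mul_right (show 0 < IM by
      rcases Nat.eq_zero_or_pos IM with h | h
      · rw [h, mul_zero] at iM; exact absurd iM.symm (by positivity)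
      · exact h) ?_
    rw [iM, show 4 * (M' + 1) * IM = (M' + 1) * (4 * IM) by ring, hxM, ← hpm]; ring
  refine ⟨Up, Um, ⟨cp, kp, zp, hNP.trans hNP'⟩, ⟨cm, km, zm, hNM.trans hNM'⟩, by rw [hr]; exact hNH, fun g hg => ?_⟩
  have hfull : S = {g : Sz F m | g ≠ 1} :=
    Set.eq_of_subset_of_ncard_le hsub (by omega) (Set.toFinite _)
  have : g ∈ S := by rw [hfull]; exact hg
  rcases this with ((h | h) | h) | h
  exacts [Or.inl h, Or.inr (Or.inl h), Or.inr (Or.inr (Or.inl h)), Or.inr (Or.inr (Or.inr h))]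

end Cfsg.Agent.SZ
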