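/-
Suzuki groups, part 9: centralisers and the uniqueness part of the partition.
-/
import Cfsg.Agent.Lib.Sz.Partition

set_option autoImplicit false

namespace Cfsg.Agent.SZ

open Cfsg Matrix
open scoped Pointwise

theorem mem_conjSet_iff {G : Type*} [Group G] {A : Subgroup G} {g : G} :
    g ∈ conjSet A ↔ g ≠ 1 ∧ ∃ x : G, g ∈ A.map (MulAut.conj x).toMonoidHom := by
  refine and_congr_right fun _ => exists_congr fun x => ?_
  rw [Subgroup.mem_map_equiv]
  simp

/-- Two conjugates of a TI subgroup with a common non-trivial element are equal. -/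
theorem eq_of_mem_conj {G : Type*} [Group G] {A : Subgroup G} (hA : IsTI A) {g x y : G}
    (hg : g ≠ 1) (hx : g ∈ A.map (MulAut.conj x).toMonoidHom)
    (hy : g ∈ A.map (MulAut.conj y).toMonoidHom) :
    A.map (MulAut.conj x).toMonoidHom = A.map (MulAut.conj y).toMonoidHom := by
  obtain ⟨a, ha, rfl⟩ := hx
  obtain ⟨b, hb, hab⟩ := hy
  have ha1 : a ≠ 1 := fun e => hg (by rw [e, map_one])
  change y * b * y⁻¹ = x * a * x⁻¹ at hab
  have hn := hA (y⁻¹ * x) a ha ha1 (by
    have : (y⁻¹ * x) * a * (y⁻¹ * x)⁻¹ = b := by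
      calc _ = y⁻¹ * (x * a * x⁻¹) * y := by group
        _ = b := by rw [← hab]; group
    rw [this]; exact hb)
  ext z
  simp only [Subgroup.mem_map_equiv]
  rw [Subgroup.mem_normalizer_iff.1 hn]
  simp [mul_assoc]

theorem orderOf_dvd_of_mem_conj {G : Type*} [Group G] [Finite G] {A : Subgroup G} {g x : G}
    (hx : g ∈ A.map (MulAut.conj x).toMonoidHom) : orderOf g ∣ Nat.card A := by
  obtain ⟨a, ha, rfl⟩ := hx
  rw [orderOf_injective (MulAut.conj x).toMonoidHom (MulEquiv.injective _),
    show a = A.subtype ⟨a, ha⟩ from rfl, orderOf_injective _ A.subtype_injective]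
  exact orderOf_dvd_natCard _

variable {F : Type*} [Field F] [Fintype F] {m : ℕ}

theorem centralizer_hS (hm : 1 ≤ m) (hF : Fintype.card F = 2 ^ (2 * m + 1)) {a : Sz F m}
    (ha : a ∈ hGrp hF) (ha1 : a ≠ 1) : Subgroup.centralizer ({a} : Set (Sz F m)) = hGrp hF := by
  obtain ⟨u, rfl⟩ := (mem_hGrp hF).1 ha
  apply le_antisymm
  · intro x hx
    rw [Subgroup.mem_centralizer_singleton_iff] at hx
    have e : x * hS hF u * x⁻¹ = hS hF u := by rw [hx, mul_inv_cancel_right]
    obtain ⟨h1, h2⟩ := normalizer_hGrp hm hF ⟨hS hF u, ha, ha1, by rw [e]; exact ha⟩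
    rcases h1 with h1 | h1
    · rcases h2 with h2 | h2
      · exact absurd (MulAction.injective x.1 (h2.trans h1.symm))
          (by rw [zero_eq_aff (m := m)]; exact aff_ne_inf 0 0)
      · exact mem_hGrp_of_fix hm hF h1 h2
    · -- `x` interchanges the two points, so inverts the torus
      exfalso
      have h2' : x.1 • suzukiPointZero F = suzukiPointInfinity F := by
        rcases h2 with h2 | h2
        · exact h2
        · exact absurd (MulAction.injective x.1 (h2.trans h1.symm))
            (by rw [zero_eq_aff (m := m)]; exact aff_ne_inf 0 0)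
      obtain ⟨v, hv⟩ := (mem_hGrp hF).1 (mem_hGrp_of_fix hm hF (g := wS hF * x)
        (by show (W * x.1) • _ = _; rw [mul_smul, h1, W_smul_zero])
        (by show (W * x.1) • _ = _; rw [mul_smul, h2', W_smul_inf]))
      have hx' : x = wS hF * hS hF v := by
        rw [hv, ← mul_assoc, show wS hF * wS hF = 1 from Subtype.ext W_mul_W, one_mul]
      have hc : W * H m u = H m u * W := by
        have h3 : (W * H m v) * H m u = H m u * (W * H m v) := by
          have := congrArg Subtype.val hx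
          rw [hx'] at this
          exact this
        rw [mul_assoc, ← H_mul, mul_comm, H_mul, ← mul_assoc, ← mul_assoc] at h3
        exact mul_right_cancel h3
      rw [W_conj_H] at hc
      have hu : u⁻¹ = u := H_inj (mul_right_cancel hc)
      refine ha1 (Subtype.ext ?_)
      have : u = 1 := Units.ext (sq_inj hF (by
        rw [Units.val_one, one_pow, sq, ← Units.val_mul]
        nth_rw 2 [← hu]
        simp))
      rw [this]
      exact H_one
  · intro x hx
    obtain ⟨v, rfl⟩ := (mem_hGrp hF).1 hx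
    rw [Subgroup.mem_centralizer_singleton_iff]
    apply Subtype.ext
    show H m v * H m u = H m u * H m v
    rw [← H_mul, ← H_mul, mul_comm]

theorem centralizer_uGrp_le (hm : 1 ≤ m) (hF : Fintype.card F = 2 ^ (2 * m + 1)) {g : Sz F m}
    (hg : g ∈ uGrp hF) (hg1 : g ≠ 1) : Subgroup.centralizer ({g} : Set (Sz F m)) ≤ uGrp hF := by
  intro x hx
  rw [Subgroup.mem_centralizer_singleton_iff] at hx
  have hxinf : x.1 • suzukiPointInfinity F = suzukiPointInfinity F := by
    refine tS_fix_unique hF hg hg1 (smul_mem x.2 inf_mem) ?_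
    have := congrArg (fun z : Sz F m => z.1 • suzukiPointInfinity F) hx
    simp only [Subgroup.coe_mul, mul_smul] at this
    rw [show g.1 • suzukiPointInfinity F = suzukiPointInfinity F from uGrp_le_stab hF hg] at this
    exact this.symm
  obtain ⟨c, d, u, rfl⟩ := stab_eq hm hF (g := x) hxinf
  obtain ⟨a, b, rfl⟩ := (mem_uGrp hF).1 hg
  have hu : u = 1 := by
    have e : tS hF c d * tS hF ((u : F) ^ 2 / th m (u : F) * a) (th m (u : F) * b) =
        tS hF a b * tS hF c d := by
      rw [← hS_conj_tS]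
      calc tS hF c d * (hS hF u * tS hF a b * (hS hF u)⁻¹)
          = tS hF c d * hS hF u * tS hF a b * (hS hF u)⁻¹ := by group
        _ = tS hF a b * (tS hF c d * hS hF u) * (hS hF u)⁻¹ := by rw [hx]
        _ = tS hF a b * tS hF c d := by group
    obtain ⟨e1, e2⟩ := T_inj (((T_mul hF _ _ _ _).symm.trans (congrArg Subtype.val e)).trans
      (T_mul hF _ _ _ _))
    by_cases ha : a = 0
    · subst ha
      have hb : b ≠ 0 := fun e => hg1 (by rw [e]; exact Subtype.ext T_zero)
      simp at e2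
      exact Units.ext ((th_eq_one hF).1 (mul_right_cancel₀ hb (by
        rw [one_mul]; linear_combination e2)))
    · have hk : (u : F) ^ 2 / th m (u : F) = 1 := by
        refine mul_right_cancel₀ ha (?_ : _ * a = 1 * a)
        linear_combination e1
      rw [div_eq_one_iff_eq (fun e => u.ne_zero (th_eq_zero.1 e))] at hk
      exact Units.ext (th_eq_sq hF hk.symm u.ne_zero)
  subst hu
  rw [show hS hF (1 : Fˣ) = 1 from Subtype.ext H_one, mul_one]
  exact (mem_uGrp hF).2 ⟨c, d, rfl⟩

/-- The four kinds of partition subgroups: the order determines the kind. -/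
theorem exists_conj_of_cyclic (hm : 1 ≤ m) (hF : Fintype.card F = 2 ^ (2 * m + 1))
    {Up Um : Subgroup (Sz F m)} (hp : IsTorus Up (2 ^ (2 * m + 1) + 2 ^ (m + 1) + 1))
    (hn : IsTorus Um (2 ^ (2 * m + 1) - 2 ^ (m + 1) + 1))
    (hcov : ∀ g : Sz F m, g ≠ 1 →
      g ∈ conjSet (uGrp hF) ∨ g ∈ conjSet (hGrp hF) ∨ g ∈ conjSet Up ∨ g ∈ conjSet Um)
    {V : Subgroup (Sz F m)} (hV : IsCyclic V)
    (hcard : Nat.card V ∈ ({2 ^ (2 * m + 1) - 1, 2 ^ (2 * m + 1) + 2 ^ (m + 1) + 1,
      2 ^ (2 * m + 1) - 2 ^ (m + 1) + 1} : Set ℕ)) :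
    ∃ A ∈ ({hGrp hF, Up, Um} : Set (Subgroup (Sz F m))), ∃ x,
      V = A.map (MulAut.conj x).toMonoidHom := by
  obtain ⟨z, hz⟩ := IsCyclic.exists_ofOrder_eq_natCard (α := V)
  have hzo : orderOf z.1 = Nat.card V := by
    rw [show z.1 = V.subtype z from rfl, orderOf_injective _ V.subtype_injective, hz]
  obtain ⟨c1, c2, c3, c4, c5, c6⟩ := coprime_facts hm
  have hb := (IsTorusOrder.bound (Or.inr rfl : IsTorusOrder m (2 ^ (2 * m + 1) - 2 ^ (m + 1) + 1)) hm).2
  have hb' := (IsTorusOrder.bound (Or.inl rfl : IsTorusOrder m (2 ^ (2 * m + 1) + 2 ^ (m + 1) + 1)) hm).2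
  have hq8 : 8 ≤ 2 ^ (2 * m + 1) :=
    le_trans (by norm_num) (Nat.pow_le_pow_right (by norm_num) (show 3 ≤ 2 * m + 1 by omega))
  have hz1 : z.1 ≠ 1 := fun e => by
    rw [e, orderOf_one] at hzo
    rcases hcard with h | h | h <;> rw [h] at hzo <;> omega
  have key : ∀ A : Subgroup (Sz F m), z.1 ∈ conjSet A → Nat.card A = Nat.card V →
      ∃ x, V = A.map (MulAut.conj x).toMonoidHom := by
    intro A hA hAV
    obtain ⟨-, x, hx⟩ := mem_conjSet_iff.1 hA
    refine ⟨x, ?_⟩
    have hle : Subgroup.zpowers z.1 ≤ A.map (MulAut.conj x).toMonoidHom := Subgroup.zpowers_le.2 hx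
    have hV' : Subgroup.zpowers z.1 = V :=
      Subgroup.eq_of_le_of_card_ge (Subgroup.zpowers_le.2 z.2) (by rw [Nat.card_zpowers, hzo])
    rw [← hV']
    refine Subgroup.eq_of_le_of_card_ge hle ?_
    rw [Subgroup.card_map_of_injective (MulEquiv.injective _), Nat.card_zpowers, hzo, hAV]
  have hcop : ∀ A : Subgroup (Sz F m), z.1 ∈ conjSet A → ¬ (Nat.card V).Coprime (Nat.card A) := by
    intro A hA hc
    obtain ⟨-, x, hx⟩ := mem_conjSet_iff.1 hA
    have h1 := orderOf_dvd_of_mem_conj hx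
    rw [hzo] at h1
    have h2 := Nat.Coprime.eq_one_of_dvd hc h1
    exact hz1 (orderOf_eq_one_iff.1 (hzo.trans h2))
  have h8 := hcop (uGrp hF)
  have hH := hcop (hGrp hF)
  have hP := hcop Up
  have hM := hcop Um
  rw [card_uGrp, hF] at h8
  rw [card_hGrp, hF] at hH
  rw [hp.card] at hP
  rw [hn.card] at hM
  rcases hcard with h | h | h
  · rw [h] at h8 hH hP hM
    rcases hcov _ hz1 with g | g | g | g
    · exact absurd c1.symm (h8 g)
    · obtain ⟨x, hx⟩ := key _ g (by rw [card_hGrp, hF, h])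
      exact ⟨_, Or.inl rfl, x, hx⟩
    · exact absurd c4 (hP g)
    · exact absurd c5 (hM g)
  · rw [h] at h8 hH hP hM
    rcases hcov _ hz1 with g | g | g | g
    · exact absurd c2.symm (h8 g)
    · exact absurd c4.symm (hH g)
    · obtain ⟨x, hx⟩ := key _ g (by rw [hp.card, h])
      exact ⟨_, Or.inr (Or.inl rfl), x, hx⟩
    · exact absurd c6 (hM g)
  · rw [h] at h8 hH hP hM
    rcases hcov _ hz1 with g | g | g | g
    · exact absurd c3.symm (h8 g)
    · exact absurd c5.symm (hH g)
    · exact absurd c6.symm (hP g)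
    · obtain ⟨x, hx⟩ := key _ g (by rw [hn.card, h])
      exact ⟨_, Or.inr (Or.inr rfl), x, hx⟩

end Cfsg.Agent.SZ
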