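import Mathlib

/-!
The commutant of a 4 × 4 matrix of prime order `p`, `q` of order 4 modulo `p`, is commutative.
-/

set_option autoImplicit false

open Matrix Polynomial

namespace Cfsg.Agent.SZ

variable {F : Type*} [Field F] [Fintype F]

theorem natDegree_ge_of_factor {p : ℕ} (hp : p.Prime)
    (hd : ∀ d, 1 ≤ d → d ≤ 3 → ¬ p ∣ Fintype.card F ^ d - 1) {f : F[X]} (hf : Irreducible f)
    (hdvd : f ∣ X ^ p - 1) (h1 : f.eval 1 ≠ 0) : 4 ≤ f.natDegree := by
  by_contra hlt
  push Not at hlt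
  haveI := Fact.mk hf
  haveI : Fact p.Prime := ⟨hp⟩
  let b := AdjoinRoot.powerBasis hf.ne_zero
  haveI : Module.Finite F (AdjoinRoot f) := b.finite
  haveI : Finite (AdjoinRoot f) := Module.finite_of_finite F
  haveI : Fintype (AdjoinRoot f) := Fintype.ofFinite _
  have hcard : Fintype.card (AdjoinRoot f) = Fintype.card F ^ f.natDegree := by
    rw [Module.card_eq_pow_finrank (K := F), b.finrank]; rfl
  have hζ : AdjoinRoot.root f ^ p = 1 := by
    obtain ⟨g, hg⟩ := hdvd
    have := congrArg (AdjoinRoot.mk f) hg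
    simpa [sub_eq_zero] using this
  have hne1 : AdjoinRoot.root f ≠ 1 := by
    intro h
    apply h1
    have h2 : Polynomial.aeval (AdjoinRoot.root f) f = 0 := AdjoinRoot.eval₂_root f
    rw [h, ← map_one (algebraMap F (AdjoinRoot f)), aeval_algebraMap_apply,
      map_eq_zero] at h2
    simpa using h2
  have hne0 : AdjoinRoot.root f ≠ 0 := fun h => by
    rw [h, zero_pow hp.ne_zero] at hζ
    exact zero_ne_one hζ
  have hord : orderOf (AdjoinRoot.root f) = p := orderOf_eq_prime hζ hne1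
  have h3 := orderOf_dvd_of_pow_eq_one (FiniteField.pow_card_sub_one_eq_one _ hne0)
  rw [hord, hcard] at h3
  exact hd _ hf.natDegree_pos (by omega) h3

/-- The minimal polynomial of such a matrix is irreducible of degree 4. -/
theorem minpoly_irreducible {p : ℕ} (hp : p.Prime) (hpF : (p : F) ≠ 0)
    (hd : ∀ d, 1 ≤ d → d ≤ 3 → ¬ p ∣ Fintype.card F ^ d - 1) {A : Matrix (Fin 4) (Fin 4) F}
    (hA : A ^ p = 1) (hA1 : A ≠ 1) :
    Irreducible (minpoly F A) ∧ (minpoly F A).natDegree = 4 := by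
  have hint : IsIntegral F A := Matrix.isIntegral A
  have hμ0 : minpoly F A ≠ 0 := minpoly.ne_zero hint
  have hdvd : minpoly F A ∣ X ^ p - 1 := minpoly.dvd F A (by simp [hA])
  have hdeg : (minpoly F A).natDegree ≤ 4 := by
    have h1 := Polynomial.natDegree_le_of_dvd (Matrix.minpoly_dvd_charpoly A)
      (Matrix.charpoly_monic A).ne_zero
    rwa [Matrix.charpoly_natDegree_eq_dim, Fintype.card_fin] at h1
  have hsep : (X ^ p - 1 : F[X]).Separable := by
    have h := Polynomial.separable_X_pow_sub_C (1 : F) hpF one_ne_zero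
    simpa using h
  have hsq : Squarefree (minpoly F A) := hsep.squarefree.squarefree_of_dvd hdvd
  have hge : ∀ f : F[X], Irreducible f → f ∣ minpoly F A → f.eval 1 ≠ 0 → 4 ≤ f.natDegree :=
    fun f hf hf' h1 => natDegree_ge_of_factor hp hd hf (hf'.trans hdvd) h1
  by_cases h1 : (minpoly F A).eval 1 = 0
  · exfalso
    obtain ⟨ν, hν⟩ := (dvd_iff_isRoot (p := minpoly F A) (a := 1)).2 h1
    have hν0 : ν ≠ 0 := fun h => hμ0 (by rw [hν, h, mul_zero])
    have hdν : ν.natDegree ≤ 3 := by
      have := congrArg natDegree hν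
      rw [natDegree_mul (X_sub_C_ne_zero 1) hν0, natDegree_X_sub_C] at this
      omega
    by_cases hu : IsUnit ν
    · apply hA1
      obtain ⟨c, hc, hc'⟩ := Polynomial.isUnit_iff.1 hu
      have h0 := minpoly.aeval F A
      rw [hν, ← hc', map_mul, map_sub, aeval_X, aeval_C, aeval_C, map_one] at h0
      have h2 : (A - 1) * algebraMap F (Matrix (Fin 4) (Fin 4) F) c *
          algebraMap F (Matrix (Fin 4) (Fin 4) F) c⁻¹ = 0 := by rw [h0, zero_mul]
      rwa [mul_assoc, ← map_mul, mul_inv_cancel₀ hc.ne_zero, map_one, mul_one, sub_eq_zero] at h2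
    · obtain ⟨f, hf, hfν⟩ := WfDvdMonoid.exists_irreducible_factor hu hν0
      by_cases hf1 : f.eval 1 = 0
      · have hdf : X - C 1 ∣ f := dvd_iff_isRoot.2 hf1
        have : (X - C (1 : F)) * (X - C 1) ∣ minpoly F A := by
          rw [hν]; exact mul_dvd_mul_left _ (hdf.trans hfν)
        exact not_isUnit_X_sub_C 1 (hsq _ this)
      · have h4 := hge f hf (hfν.trans (Dvd.intro_left _ hν.symm)) hf1
        have := natDegree_le_of_dvd hfν hν0
        omega
  · obtain ⟨f, hf, hfμ⟩ := WfDvdMonoid.exists_irreducible_factor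
      (minpoly.not_isUnit F A) hμ0
    have hf1 : f.eval 1 ≠ 0 := fun h => h1 (by
      obtain ⟨g, hg⟩ := hfμ
      rw [hg, eval_mul, h, zero_mul])
    have h4 := hge f hf hfμ hf1
    obtain ⟨g, hg⟩ := hfμ
    have hg0 : g ≠ 0 := fun h => hμ0 (by rw [hg, h, mul_zero])
    have h5 := congrArg natDegree hg
    rw [natDegree_mul hf.ne_zero hg0] at h5
    have hgu : IsUnit g := by
      rw [Polynomial.isUnit_iff_degree_eq_zero, degree_eq_natDegree hg0]
      exact_mod_cast (by omega : g.natDegree = 0)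
    refine ⟨?_, by omega⟩
    rw [hg]
    exact (irreducible_mul_isUnit hgu).2 hf

/-- Commuting matrices are polynomials in `A`. -/
theorem mem_range_of_commute_order {p : ℕ} (hp : p.Prime) (hpF : (p : F) ≠ 0)
    (hd : ∀ d, 1 ≤ d → d ≤ 3 → ¬ p ∣ Fintype.card F ^ d - 1)
    {A : Matrix (Fin 4) (Fin 4) F} (hA : A ^ p = 1) (hA1 : A ≠ 1)
    {G : Matrix (Fin 4) (Fin 4) F} (hG : G * A = A * G) :
    ∃ r : F[X], G = Polynomial.aeval A r := by
  obtain ⟨hirr, hdeg⟩ := minpoly_irreducible hp hpF hd hA hA1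
  let v₀ : Fin 4 → F := Pi.single 0 1
  let Φ : F[X] →ₗ[F] (Fin 4 → F) :=
    { toFun := fun r => Polynomial.aeval A r *ᵥ v₀
      map_add' := fun r s => by rw [map_add, Matrix.add_mulVec]
      map_smul' := fun c r => by rw [map_smul, Matrix.smul_mulVec]; rfl }
  have hinj : ∀ r : F[X], r.natDegree < 4 → Φ r = 0 → r = 0 := by
    intro r hr h0
    by_contra hr0
    have hnd : ¬ minpoly F A ∣ r := fun h => by
      have := natDegree_le_of_dvd h hr0
      omega
    obtain ⟨a, b, hab⟩ := (hirr.coprime_iff_not_dvd).2 hnd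
    have := congrArg (fun s => Polynomial.aeval A s *ᵥ v₀) hab
    simp only [map_add, map_mul, minpoly.aeval, mul_zero, zero_add, map_one, Matrix.one_mulVec,
      ← Matrix.mulVec_mulVec] at this
    have h0' : Polynomial.aeval A r *ᵥ v₀ = 0 := h0
    rw [h0', Matrix.mulVec_zero] at this
    exact one_ne_zero (α := F) (by simpa [v₀] using (congrFun this 0).symm)
  let Ψ : Polynomial.degreeLT F 4 →ₗ[F] (Fin 4 → F) := Φ.comp (Submodule.subtype _)
  have hΨ : Function.Injective Ψ := by
    rw [injective_iff_map_eq_zero]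
    rintro ⟨r, hr⟩ h
    apply Subtype.ext
    by_cases hr0 : r = 0
    · exact hr0
    refine hinj r ?_ h
    rw [Polynomial.mem_degreeLT, degree_eq_natDegree hr0] at hr
    exact_mod_cast hr
  have hsurj : Function.Surjective Ψ := by
    haveI : Module.Finite F (Polynomial.degreeLT F 4) :=
      Module.Finite.equiv (Polynomial.degreeLTEquiv F 4).symm
    refine (LinearMap.injective_iff_surjective_of_finrank_eq_finrank ?_).1 hΨ
    exact (Polynomial.degreeLTEquiv F 4).finrank_eq
  have key : ∀ G : Matrix (Fin 4) (Fin 4) F, G * A = A * G →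
      ∃ r : F[X], G = Polynomial.aeval A r := by
    intro G hG
    obtain ⟨⟨r, _hrd⟩, hr⟩ := hsurj (G *ᵥ v₀)
    have hr' : Polynomial.aeval A r *ᵥ v₀ = G *ᵥ v₀ := hr
    refine ⟨r, Matrix.toLin'.injective (LinearMap.ext fun w => ?_)⟩
    obtain ⟨⟨s, _hsd⟩, hs⟩ := hsurj w
    have hs' : Polynomial.aeval A s *ᵥ v₀ = w := hs
    have hcomm : G * Polynomial.aeval A s = Polynomial.aeval A s * G := by
      clear hs hs' _hsd
      induction s using Polynomial.induction_on' with
      | add a b ha hb => rw [map_add, mul_add, add_mul, ha, hb]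
      | monomial k c =>
        rw [aeval_monomial, ← mul_assoc, ← Algebra.commutes c G, mul_assoc,
          (Commute.pow_right (show Commute G A from hG) k).eq, mul_assoc]
    rw [Matrix.toLin'_apply, Matrix.toLin'_apply, ← hs', Matrix.mulVec_mulVec, hcomm,
      ← Matrix.mulVec_mulVec, ← hr', Matrix.mulVec_mulVec, Matrix.mulVec_mulVec, ← map_mul,
      ← map_mul, mul_comm]
  exact key G hG

/-- A group of matrices commuting with such a matrix is cyclic. -/
theorem isCyclic_of_commute_order {p : ℕ} (hp : p.Prime) (hpF : (p : F) ≠ 0)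
    (hd : ∀ d, 1 ≤ d → d ≤ 3 → ¬ p ∣ Fintype.card F ^ d - 1)
    {A : Matrix (Fin 4) (Fin 4) F} (hA : A ^ p = 1) (hA1 : A ≠ 1)
    {Q : Type*} [Group Q] [Finite Q] (φ : Q →* Matrix (Fin 4) (Fin 4) F)
    (hφ : Function.Injective φ) (hcomm : ∀ g, φ g * A = A * φ g) : IsCyclic Q := by
  obtain ⟨hirr, -⟩ := minpoly_irreducible hp hpF hd hA hA1
  haveI := Fact.mk hirr
  let ι : AdjoinRoot (minpoly F A) →ₐ[F] Matrix (Fin 4) (Fin 4) F :=
    Ideal.Quotient.liftₐ _ (Polynomial.aeval A) (fun a ha => by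
      obtain ⟨b, rfl⟩ := Ideal.mem_span_singleton'.1 ha
      rw [map_mul, minpoly.aeval, mul_zero])
  have hι : Function.Injective ι := ι.toRingHom.injective
  have hmem : ∀ g, ∃ x, ι x = φ g := fun g => by
    obtain ⟨r, hr⟩ := mem_range_of_commute_order hp hpF hd hA hA1 (hcomm g)
    exact ⟨AdjoinRoot.mk _ r, hr.symm⟩
  choose f hf using hmem
  let fh : Q →* AdjoinRoot (minpoly F A) :=
    { toFun := f
      map_one' := hι (by rw [hf, map_one, map_one])
      map_mul' := fun x y => hι (by rw [hf, map_mul, map_mul, hf, hf]) }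
  refine isCyclic_of_subgroup_isDomain fh fun x y h => hφ ?_
  rw [← hf, ← hf]
  exact congrArg ι h

end Cfsg.Agent.SZ
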