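/-
Binary actions on cosets: criteria in terms of intersections of conjugates of the point stabiliser.
-/
import Mathlib

set_option autoImplicit false

namespace Cfsg.Agent.SZ

open scoped Pointwise

variable {G : Type*} [Group G]

/-- The action on the cosets of `H` is binary. -/
def BinaryCoset (H : Subgroup G) : Prop :=
  ∀ (n : ℕ) (I J : Fin n → G ⧸ H), 2 ≤ n →
    (∀ i j : Fin n, i ≠ j → ∃ g : G, g • I i = J i ∧ g • I j = J j) → ∃ g : G, ∀ i, g • I i = J i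

theorem BinaryCoset.index {H : Subgroup G} (hb : BinaryCoset H) {ι : Type*} [Finite ι]
    (I J : ι → G ⧸ H) (h : ∀ i j, ∃ g : G, g • I i = J i ∧ g • I j = J j) :
    ∃ g : G, ∀ i, g • I i = J i := by
  have := Fintype.ofFinite ι
  let e := Fintype.equivFin ι
  rcases lt_or_ge (Fintype.card ι) 2 with hlt | hge
  · rcases isEmpty_or_nonempty ι with hι | ⟨⟨i₀⟩⟩
    · exact ⟨1, fun i => isEmptyElim i⟩
    · obtain ⟨g, hg, -⟩ := h i₀ i₀
      refine ⟨g, fun i => ?_⟩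
      obtain rfl : i = i₀ := (Fintype.card_le_one_iff.1 (by omega)) i i₀
      exact hg
  · obtain ⟨g, hg⟩ := hb _ (I ∘ e.symm) (J ∘ e.symm) hge (fun i j _ => h _ _)
    exact ⟨g, fun i => by simpa using hg (e i)⟩

theorem smul_coset_eq_iff {H : Subgroup G} (g a b : G) :
    g • (a : G ⧸ H) = (b : G ⧸ H) ↔ b⁻¹ * g * a ∈ H := by
  rw [MulAction.Quotient.smul_coe, smul_eq_mul, eq_comm, QuotientGroup.eq, mul_assoc]

theorem smul_coset_self_iff {H : Subgroup G} (g a : G) :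
    g • (a : G ⧸ H) = a ↔ a⁻¹ * g * a ∈ H := smul_coset_eq_iff g a a

/-- The stabiliser of all the cosets `sH`, `s ∈ S`. -/
def coreOn (H : Subgroup G) (S : Finset G) : Subgroup G where
  carrier := {x | ∀ s ∈ S, s⁻¹ * x * s ∈ H}
  one_mem' s _ := by simp
  mul_mem' {x y} hx hy s hs := by
    rw [show s⁻¹ * (x * y) * s = (s⁻¹ * x * s) * (s⁻¹ * y * s) by group]
    exact mul_mem (hx s hs) (hy s hs)
  inv_mem' {x} hx s hs := by
    rw [show s⁻¹ * x⁻¹ * s = (s⁻¹ * x * s)⁻¹ by group]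
    exact inv_mem (hx s hs)

theorem mem_coreOn {H : Subgroup G} {S : Finset G} {x : G} :
    x ∈ coreOn H S ↔ ∀ s ∈ S, s⁻¹ * x * s ∈ H := Iff.rfl

theorem mem_coreOn_singleton {H : Subgroup G} {t x : G} :
    x ∈ coreOn H {t} ↔ t⁻¹ * x * t ∈ H := by
  simp [mem_coreOn]

theorem mem_coreOn_image [DecidableEq G] {H : Subgroup G} {S : Finset G} {g x : G} :
    x ∈ coreOn H (S.image (g * ·)) ↔ g⁻¹ * x * g ∈ coreOn H S := by
  simp only [mem_coreOn, Finset.mem_image, forall_exists_index, and_imp, forall_apply_eq_imp_iff₂,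
    _root_.mul_inv_rev, mul_assoc]

theorem mem_coreOn_union [DecidableEq G] {H : Subgroup G} {S T : Finset G} {x : G} :
    x ∈ coreOn H (S ∪ T) ↔ x ∈ coreOn H S ∧ x ∈ coreOn H T := by
  simp only [mem_coreOn, Finset.mem_union, or_imp, forall_and]

/-- The basic obstruction: `a b = c` with `a`, `b`, `c` in three intersections of conjugates. -/
theorem not_binary_of_witness {H : Subgroup G} (S T R : Finset G) {a b : G}
    (ha : a ∈ coreOn H S) (hb : b ∈ coreOn H T) (hc : a * b ∈ coreOn H R)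
    (hST : ∀ x, x ∈ coreOn H S → x ∈ coreOn H T → x ∈ coreOn H R) (hbR : b ∉ coreOn H R) :
    ¬ BinaryCoset H := by
  classical
  intro hbin
  let I : S ⊕ (T ⊕ R) → G ⧸ H :=
    Sum.elim (fun s => (s.1 : G ⧸ H)) (Sum.elim (fun t => (t.1 : G ⧸ H)) fun r => (r.1 : G ⧸ H))
  let J : S ⊕ (T ⊕ R) → G ⧸ H :=
    Sum.elim (fun s => (s.1 : G ⧸ H))
      (Sum.elim (fun t => (t.1 : G ⧸ H)) fun r => b • (r.1 : G ⧸ H))
  have fixS : ∀ s ∈ S, a • (s : G ⧸ H) = s := fun s hs => (smul_coset_self_iff _ _).2 (ha s hs)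
  have fixT : ∀ t ∈ T, b • (t : G ⧸ H) = t := fun t ht => (smul_coset_self_iff _ _).2 (hb t ht)
  have hR : ∀ r ∈ R, a⁻¹ • (r : G ⧸ H) = b • (r : G ⧸ H) := fun r hr => by
    rw [inv_smul_eq_iff, ← mul_smul, eq_comm]
    exact (smul_coset_self_iff _ _).2 (hc r hr)
  have hpair : ∀ i j, ∃ g : G, g • I i = J i ∧ g • I j = J j := by
    rintro (s | t | r) (s' | t' | r') <;> simp only [I, J, Sum.elim_inl, Sum.elim_inr]
    · exact ⟨1, one_smul _ _, one_smul _ _⟩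
    · exact ⟨1, one_smul _ _, one_smul _ _⟩
    · exact ⟨a⁻¹, inv_smul_eq_iff.2 (fixS _ s.2).symm, hR _ r'.2⟩
    · exact ⟨1, one_smul _ _, one_smul _ _⟩
    · exact ⟨1, one_smul _ _, one_smul _ _⟩
    · exact ⟨b, fixT _ t.2, rfl⟩
    · exact ⟨a⁻¹, hR _ r.2, inv_smul_eq_iff.2 (fixS _ s'.2).symm⟩
    · exact ⟨b, rfl, fixT _ t'.2⟩
    · exact ⟨b, rfl, rfl⟩
  obtain ⟨g, hg⟩ := hbin.index I J hpair
  have gS : g ∈ coreOn H S := fun s hs => (smul_coset_self_iff _ _).1 (hg (Sum.inl ⟨s, hs⟩))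
  have gT : g ∈ coreOn H T :=
    fun t ht => (smul_coset_self_iff _ _).1 (hg (Sum.inr (Sum.inl ⟨t, ht⟩)))
  refine hbR fun r hr => (smul_coset_self_iff _ _).1 ?_
  exact (hg (Sum.inr (Sum.inr ⟨r, hr⟩))).symm.trans ((smul_coset_self_iff _ _).2 (hST g gS gT r hr))

/-- A minimal non-trivial intersection of conjugates: distinct conjugates meet trivially. -/
theorem exists_minimal_coreOn [Finite G] {H : Subgroup G} (hH : H ≠ ⊥) :
    ∃ S : Finset G, S.Nonempty ∧ coreOn H S ≠ ⊥ ∧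
      ∀ g z : G, z ≠ 1 → z ∈ coreOn H S → g⁻¹ * z * g ∈ coreOn H S →
        ∀ y, y ∈ coreOn H S ↔ g⁻¹ * y * g ∈ coreOn H S := by
  classical
  let p : ℕ → Prop := fun n => ∃ S : Finset G, S.Nonempty ∧ coreOn H S ≠ ⊥ ∧ Nat.card (coreOn H S) = n
  have hex : ∃ n, p n := by
    refine ⟨_, {1}, Finset.singleton_nonempty _, ?_, rfl⟩
    have : coreOn H {1} = H := by ext x; simp [mem_coreOn_singleton]
    rwa [this]
  obtain ⟨S, hS, hne, hcard⟩ := Nat.find_spec hex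
  refine ⟨S, hS, hne, fun g z hz hzS hzg => ?_⟩
  have hU : ∀ y, y ∈ coreOn H (S ∪ S.image (g * ·)) ↔
      y ∈ coreOn H S ∧ g⁻¹ * y * g ∈ coreOn H S := fun y => by
    rw [mem_coreOn_union, mem_coreOn_image]
  have hle : coreOn H (S ∪ S.image (g * ·)) ≤ coreOn H S := fun y hy => ((hU y).1 hy).1
  have hneU : coreOn H (S ∪ S.image (g * ·)) ≠ ⊥ := fun e =>
    hz (Subgroup.mem_bot.1 (e ▸ (hU z).2 ⟨hzS, hzg⟩))
  have hmin : Nat.card (coreOn H S) ≤ Nat.card (coreOn H (S ∪ S.image (g * ·))) := by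
    rw [hcard]
    exact Nat.find_min' hex ⟨_, hS.mono Finset.subset_union_left, hneU, rfl⟩
  have heq := Subgroup.eq_of_le_of_card_ge hle hmin
  have hfor : ∀ y, y ∈ coreOn H S → g⁻¹ * y * g ∈ coreOn H S := fun y hy =>
    ((hU y).1 (heq ▸ hy)).2
  refine fun y => ⟨hfor y, fun hy => ?_⟩
  let f : coreOn H S → coreOn H S := fun w => ⟨g⁻¹ * w.1 * g, hfor _ w.2⟩
  have hinj : Function.Injective f := fun v w e => by
    have e' : g⁻¹ * v.1 * g = g⁻¹ * w.1 * g := congrArg Subtype.val e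
    exact Subtype.ext (mul_left_cancel (mul_right_cancel e'))
  obtain ⟨w, hw⟩ := (Finite.injective_iff_surjective.1 hinj) ⟨_, hy⟩
  have hw' : g⁻¹ * w.1 * g = g⁻¹ * y * g := congrArg Subtype.val hw
  rw [← mul_left_cancel (mul_right_cancel hw')]
  exact w.2

/-- The obstruction for a trivial intersection set. -/
theorem not_binary_of_TI [DecidableEq G] {H : Subgroup G} {S : Finset G}
    (hTI : ∀ g z : G, z ≠ 1 → z ∈ coreOn H S → g⁻¹ * z * g ∈ coreOn H S →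
      ∀ y, y ∈ coreOn H S ↔ g⁻¹ * y * g ∈ coreOn H S)
    {a b g k : G} (ha : a ∈ coreOn H S) (ha1 : a ≠ 1) (hb : g⁻¹ * b * g ∈ coreOn H S)
    (hc : k⁻¹ * (a * b) * k ∈ coreOn H S) (hbS : b ∉ coreOn H S) : ¬ BinaryCoset H := by
  refine not_binary_of_witness S (S.image (g * ·)) (S.image (k * ·)) ha (mem_coreOn_image.2 hb)
    (mem_coreOn_image.2 hc) (fun x hxS hxT => ?_) fun hbR => hbS ?_
  · rcases eq_or_ne x 1 with rfl | hx
    · exact one_mem _
    · exact absurd ((hTI g x hx hxS (mem_coreOn_image.1 hxT) b).2 hb) hbS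
  · have haR : k⁻¹ * a * k ∈ coreOn H S := by
      have := mul_mem hc (inv_mem (mem_coreOn_image.1 hbR))
      rwa [show k⁻¹ * (a * b) * k * (k⁻¹ * b * k)⁻¹ = k⁻¹ * a * k by group] at this
    exact (hTI k a ha1 ha haR b).2 (mem_coreOn_image.1 hbR)

/-- Three cyclically related points, in a group without elements of order three. -/
theorem not_binary_of_triangle [Finite G] {H : Subgroup G} (h3 : ¬ 3 ∣ Nat.card G) {x h : G}
    (hx5 : x ^ 5 = 1) (hxH : x ∉ H) (hh : h ∈ H) (hconj : h * x * h⁻¹ = x ^ 3) : ¬ BinaryCoset H := by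
  intro hbin
  let P : Fin 3 → G ⧸ H := fun i => ((x ^ (i : ℕ) : G) : G ⧸ H)
  let Q : Fin 3 → G ⧸ H := fun i => P (i + 1)
  have e1 : x ^ 2 * h * x = h := by
    calc x ^ 2 * h * x = x ^ 2 * (h * x * h⁻¹) * h := by group
      _ = h := by rw [hconj, ← pow_add, hx5, one_mul]
  have e2 : h⁻¹ * x * h = x ^ 2 := by
    have : h * x ^ 2 * h⁻¹ = x := by
      rw [← conj_pow, hconj, ← pow_mul, pow_succ, hx5, one_mul]
    calc h⁻¹ * x * h = h⁻¹ * (h * x ^ 2 * h⁻¹) * h := by rw [this]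
      _ = x ^ 2 := by group
  have g01 : x • P 0 = P 1 ∧ x • P 1 = P 2 := by
    constructor <;> simp only [P, smul_coset_eq_iff] <;> simp [pow_succ]
  have g12 : (x ^ 2 * h * x⁻¹) • P 1 = P 2 ∧ (x ^ 2 * h * x⁻¹) • P 2 = P 0 := by
    constructor <;> simp only [P, smul_coset_eq_iff]
    · simpa [mul_assoc] using hh
    · have : (x ^ ((0 : Fin 3) : ℕ))⁻¹ * (x ^ 2 * h * x⁻¹) * x ^ ((2 : Fin 3) : ℕ) = h := by
        simp only [Fin.val_zero, pow_zero, inv_one, one_mul, Fin.val_two]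
        calc x ^ 2 * h * x⁻¹ * x ^ 2 = x ^ 2 * h * x := by rw [pow_two]; group
          _ = h := e1
      rw [this]; exact hh
  have g02 : (x * h⁻¹) • P 0 = P 1 ∧ (x * h⁻¹) • P 2 = P 0 := by
    constructor <;> simp only [P, smul_coset_eq_iff]
    · simpa using inv_mem hh
    · have : (x ^ ((0 : Fin 3) : ℕ))⁻¹ * (x * h⁻¹) * x ^ ((2 : Fin 3) : ℕ) = h⁻¹ := by
        simp only [Fin.val_zero, pow_zero, inv_one, one_mul, Fin.val_two]
        have e3 : h⁻¹ * x ^ 2 * h = x ^ 4 := by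
          calc h⁻¹ * x ^ 2 * h = (h⁻¹ * x * h) * (h⁻¹ * x * h) := by rw [pow_two]; group
            _ = x ^ 4 := by rw [e2, ← pow_add]
        calc x * h⁻¹ * x ^ 2 = x * (h⁻¹ * x ^ 2 * h) * h⁻¹ := by group
          _ = h⁻¹ := by rw [e3, ← pow_succ', hx5, one_mul]
      rw [this]; exact inv_mem hh
  obtain ⟨g, hg⟩ := hbin 3 P Q (by norm_num) (by
    intro i j hij
    fin_cases i <;> fin_cases j <;> simp [Q] at hij ⊢
    · exact ⟨x, g01⟩
    · exact ⟨_, g02⟩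
    · exact ⟨x, g01.2, g01.1⟩
    · exact ⟨_, g12⟩
    · exact ⟨_, g02.2, g02.1⟩
    · exact ⟨_, g12.2, g12.1⟩)
  have hcyc : g ^ 3 • P 0 = P 0 := by
    rw [show g ^ 3 = g * g * g by rw [pow_succ, pow_two], mul_smul, mul_smul, hg 0, show Q 0 = P 1 from rfl, hg 1,
      show Q 1 = P 2 from rfl, hg 2, show Q 2 = P 0 from rfl]
  have h3' : (orderOf g).Coprime 3 := ((Nat.prime_three.coprime_iff_not_dvd).2
    fun h => h3 (h.trans (orderOf_dvd_natCard g))).symm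
  obtain ⟨j, hj⟩ := exists_pow_eq_self_of_coprime (x := g) h3'.symm
  have hmem : g ^ 3 ∈ MulAction.stabilizer G (P 0) := hcyc
  have hgS : g ∈ MulAction.stabilizer G (P 0) := hj ▸ pow_mem hmem j
  refine hxH ?_
  have h01 : P 0 = P 1 := (MulAction.mem_stabilizer_iff.1 hgS).symm.trans ((hg 0).trans rfl)
  simpa [P, QuotientGroup.eq] using h01

/-- The positive criterion: a trivial intersection subgroup without triangles. -/
theorem binaryCoset_of_TI {H : Subgroup G}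
    (hTI : ∀ g z : G, z ≠ 1 → z ∈ H → g⁻¹ * z * g ∈ H → ∀ y, y ∈ H ↔ g⁻¹ * y * g ∈ H)
    (htri : ∀ a b g k : G, a ∈ H → g⁻¹ * b * g ∈ H → k⁻¹ * (a * b) * k ∈ H →
      b ∈ H ∨ a = 1 ∨ b = 1) :
    BinaryCoset H := by
  intro n I J hn hpair
  classical
  have : NeZero n := ⟨by omega⟩
  -- equal stabilisers of two cosets
  have key : ∀ (u v w : G), w ≠ 1 → w • (u : G ⧸ H) = u → w • (v : G ⧸ H) = v →
      ∀ y : G, y • (u : G ⧸ H) = u ↔ y • (v : G ⧸ H) = v := by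
    intro u v w hw hu hv y
    rw [smul_coset_self_iff] at hu hv
    have e : ∀ y : G, (u⁻¹ * v)⁻¹ * (u⁻¹ * y * u) * (u⁻¹ * v) = v⁻¹ * y * v := fun y => by group
    have := hTI (u⁻¹ * v) (u⁻¹ * w * u) (fun e' => hw (by
      calc w = u * (u⁻¹ * w * u) * u⁻¹ := by group
        _ = 1 := by rw [e']; group)) hu (by rwa [e]) (u⁻¹ * y * u)
    rw [e] at this
    rw [smul_coset_self_iff, smul_coset_self_iff, this]
  obtain ⟨g0, hg0⟩ : ∃ g0, g0 • I 0 = J 0 := by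
    have : Nontrivial (Fin n) := Fin.nontrivial_iff_two_le.2 hn
    obtain ⟨j, hj⟩ := exists_ne (0 : Fin n)
    obtain ⟨g, hg, -⟩ := hpair 0 j hj.symm
    exact ⟨g, hg⟩
  have h0 : ∀ k, ∃ a : G, a • I 0 = I 0 ∧ a • I k = g0⁻¹ • J k := by
    intro k
    rcases eq_or_ne 0 k with rfl | hk
    · exact ⟨1, one_smul _ _, by rw [one_smul, ← hg0, inv_smul_smul]⟩
    · obtain ⟨g, hg, hgk⟩ := hpair 0 k hk
      exact ⟨g0⁻¹ * g, by rw [mul_smul, hg, ← hg0, inv_smul_smul], by rw [mul_smul, hgk]⟩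
  choose a ha0 hak using h0
  by_cases hall : ∀ k, a k • I k = I k
  · exact ⟨g0, fun k => by rw [← smul_inv_smul g0 (J k), ← hak k, hall k]⟩
  push Not at hall
  obtain ⟨i, hi⟩ := hall
  refine ⟨g0 * a i, fun k => ?_⟩
  rw [← smul_inv_smul g0 (J k), mul_smul]
  congr 1
  rcases eq_or_ne k i with rfl | hki
  · exact hak k
  obtain ⟨g, hgi, hgk⟩ := hpair i k hki.symm
  -- `g0 * a i` and `g0 * a k` agree on `I 0`, and `g` agrees with them on `I i`, `I k`
  obtain ⟨p, hp⟩ : ∃ p, p = (a i)⁻¹ * a k := ⟨_, rfl⟩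
  obtain ⟨r, hr⟩ : ∃ r, r = (a i)⁻¹ * (g0⁻¹ * g) := ⟨_, rfl⟩
  have hp0 : p • I 0 = I 0 := by rw [hp, mul_smul, ha0 k, inv_smul_eq_iff, ha0 i]
  have hri : r • I i = I i := by
    rw [hr, mul_smul, mul_smul, hgi, ← hak i, inv_smul_smul]
  have hc : (p⁻¹ * r) • I k = I k := by
    rw [hp, hr, _root_.mul_inv_rev, inv_inv,
      show (a k)⁻¹ * a i * ((a i)⁻¹ * (g0⁻¹ * g)) = (a k)⁻¹ * (g0⁻¹ * g) by group, mul_smul,
      mul_smul, hgk, ← hak k, inv_smul_smul]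
  suffices hfix : p • I k = I k by
    rw [← hak k]
    conv_lhs => rw [← hfix, hp, mul_smul, smul_inv_smul]
  obtain ⟨u, hu⟩ := QuotientGroup.mk_surjective (I 0)
  obtain ⟨v, hv⟩ := QuotientGroup.mk_surjective (I i)
  obtain ⟨w, hw⟩ := QuotientGroup.mk_surjective (I k)
  rw [← hu, smul_coset_self_iff] at hp0
  rw [← hv, smul_coset_self_iff] at hri
  rw [← hw, smul_coset_self_iff] at hc
  rcases htri (u⁻¹ * p⁻¹ * u) (u⁻¹ * r * u) (u⁻¹ * v) (u⁻¹ * w)
    (by rw [show u⁻¹ * p⁻¹ * u = (u⁻¹ * p * u)⁻¹ by group]; exact inv_mem hp0)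
    (by rw [show (u⁻¹ * v)⁻¹ * (u⁻¹ * r * u) * (u⁻¹ * v) = v⁻¹ * r * v by group]; exact hri)
    (by rw [show (u⁻¹ * w)⁻¹ * (u⁻¹ * p⁻¹ * u * (u⁻¹ * r * u)) * (u⁻¹ * w) =
      w⁻¹ * (p⁻¹ * r) * w by group]; exact hc) with hrH | h1 | h1
  · -- `r` fixes `I 0` and `I i`
    by_cases hr1 : r = 1
    · subst hr1
      have : p⁻¹ • I k = I k := by
        rw [← hw, smul_coset_self_iff]
        simpa using hc
      rw [inv_smul_eq_iff] at this
      exact this.symm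
    · refine absurd ?_ hi
      have hru : u⁻¹ * r * u ∈ H := hrH
      rw [← hv]
      exact (key u v r hr1 ((smul_coset_self_iff _ _).2 hru) ((smul_coset_self_iff _ _).2 hri)
        (a i)).1 (hu.symm ▸ ha0 i)
  · have : p = 1 := by
      calc p = (u * (u⁻¹ * p⁻¹ * u) * u⁻¹)⁻¹ := by group
        _ = 1 := by rw [h1]; group
    rw [this, one_smul]
  · have : r = 1 := by
      calc r = u * (u⁻¹ * r * u) * u⁻¹ := by group
        _ = 1 := by rw [h1]; group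
    have h2 : p⁻¹ • I k = I k := by
      rw [← hw, smul_coset_self_iff]
      simpa [this] using hc
    rw [inv_smul_eq_iff] at h2
    exact h2.symm

end Cfsg.Agent.SZ
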