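/-
Suzuki groups, part 11: transitive actions in which every non-trivial element fixes at most
two points.
-/
import Cfsg.Agent.Lib.Sz.Centralizers

set_option autoImplicit false

namespace Cfsg.Agent.SZ

open Cfsg Matrix
open scoped Pointwise

section Generic

variable {G : Type*} [Group G] {Ω : Type*} [MulAction G Ω] [Finite Ω]

/-- A subgroup moving `β` only inside the fixed points of `a` has a point stabiliser of index at
most two. -/
theorem index_le_two_of_fixity (hfix : ∀ g : G, g ≠ 1 → Nat.card (MulAction.fixedBy Ω g) ≤ 2)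
    {a : G} (ha : a ≠ 1) {β : Ω} (K : Subgroup G) (hK : ∀ k ∈ K, a • k • β = k • β) :
    ((MulAction.stabilizer G β).subgroupOf K).index ≤ 2 ∧
      ((MulAction.stabilizer G β).subgroupOf K).index ≠ 0 := by
  have e : (MulAction.stabilizer G β).subgroupOf K = MulAction.stabilizer K β := by
    ext k
    rfl
  rw [e, MulAction.index_stabilizer]
  refine ⟨le_trans ?_ (hfix a ha), ?_⟩
  · rw [← Nat.card_coe_set_eq]
    exact Nat.card_mono (Set.toFinite _) (fun x ⟨k, hk⟩ => by subst hk; exact hK k.1 k.2)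
  · exact Set.ncard_ne_zero_of_mem (MulAction.mem_orbit_self β) (Set.toFinite _)

theorem centralizer_fixes {a : G} {β : Ω} (ha : a • β = β) {k : G}
    (hk : k ∈ Subgroup.centralizer ({a} : Set G)) : a • k • β = k • β := by
  rw [← mul_smul, ← Subgroup.mem_centralizer_singleton_iff.1 hk, mul_smul, ha]

omit [Finite Ω] in
/-- An odd-order subgroup inside a subgroup of index at most two lies in it. -/
theorem le_of_index_le_two [Finite G] {K S : Subgroup G} (hodd : Odd (Nat.card K))
    (h : (S.subgroupOf K).index ≤ 2) : K ≤ S := by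
  have h0 : (S.subgroupOf K).index ≠ 0 := Subgroup.index_ne_zero_of_finite
  have hd : (S.subgroupOf K).index ∣ Nat.card K := (S.subgroupOf K).index_dvd_card
  rcases (show (S.subgroupOf K).index = 1 ∨ (S.subgroupOf K).index = 2 by omega) with h1 | h1
  · exact Subgroup.subgroupOf_eq_top.1 (Subgroup.index_eq_one.1 h1)
  · rw [h1] at hd
    exact absurd (even_iff_two_dvd.2 hd) (Nat.not_even_iff_odd.2 hodd)

omit [Finite Ω] in
theorem mul_self_mem_of_index_le_two [Finite G] {K S : Subgroup G}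
    (h : (S.subgroupOf K).index ≤ 2) {k : G} (hk : k ∈ K) : k * k ∈ S := by
  have h0 : (S.subgroupOf K).index ≠ 0 := Subgroup.index_ne_zero_of_finite
  rcases (show (S.subgroupOf K).index = 1 ∨ (S.subgroupOf K).index = 2 by omega) with h1 | h1
  · exact S.mul_mem (Subgroup.subgroupOf_eq_top.1 (Subgroup.index_eq_one.1 h1) hk)
      (Subgroup.subgroupOf_eq_top.1 (Subgroup.index_eq_one.1 h1) hk)
  · exact Subgroup.mul_self_mem_of_index_two h1 ⟨k, hk⟩

omit [Finite Ω] in
theorem centralizer_conj {G : Type*} [Group G] (x a : G) :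
    Subgroup.centralizer ({x * a * x⁻¹} : Set G) =
      (Subgroup.centralizer ({a} : Set G)).map (MulAut.conj x).toMonoidHom := by
  ext z
  rw [Subgroup.mem_map_equiv]
  simp only [MulAut.conj_symm_apply, Subgroup.mem_centralizer_singleton_iff]
  constructor
  · intro h
    calc x⁻¹ * z * x * a = x⁻¹ * (z * (x * a * x⁻¹)) * x := by group
      _ = x⁻¹ * ((x * a * x⁻¹) * z) * x := by rw [h]
      _ = a * (x⁻¹ * z * x) := by group
  · intro h
    calc z * (x * a * x⁻¹) = x * (x⁻¹ * z * x * a) * x⁻¹ := by group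
      _ = x * (a * (x⁻¹ * z * x)) * x⁻¹ := by rw [h]
      _ = x * a * x⁻¹ * z := by group

end Generic

variable {F : Type*} [Field F] [Fintype F] {m : ℕ}

theorem tS_zero_mem_iff_sq (hF : Fintype.card F = 2 ^ (2 * m + 1)) (c : F) :
    ∃ a : F, tS hF a 0 * tS hF a 0 = tS hF 0 c := by
  rcases eq_or_ne c 0 with rfl | hc
  · exact ⟨0, by rw [tS_sq, mul_zero]⟩
  · refine ⟨th m c / c, ?_⟩
    rw [tS_sq, th_div, th_th hF]
    congr 1
    have : th m c ≠ 0 := fun e => hc (th_eq_zero.1 e)
    field_simp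

theorem tS_zero_conj (hm : 1 ≤ m) (hF : Fintype.card F = 2 ^ (2 * m + 1)) {x : Sz F m}
    (hx : x ∈ MulAction.stabilizer (Sz F m) (suzukiPointInfinity F)) (c : F) :
    ∃ c', x * tS hF 0 c * x⁻¹ = tS hF 0 c' := by
  obtain ⟨a, b, u, rfl⟩ := stab_eq hm hF hx
  refine ⟨th m (u : F) * c, ?_⟩
  have e1 : tS hF a b * tS hF 0 (th m (u : F) * c) = tS hF 0 (th m (u : F) * c) * tS hF a b :=
    (tS_comm_iff hF _ _ _ _).2 (by simp)
  calc _ = tS hF a b * (hS hF u * tS hF 0 c * (hS hF u)⁻¹) * (tS hF a b)⁻¹ := by group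
    _ = _ := by rw [hS_conj_tS, mul_zero, e1, mul_inv_cancel_right]

/-- An element of even order has an involution among its powers. -/
theorem exists_involution_of_even {G : Type*} [Group G] [Finite G] (S : Subgroup G)
    (h : Even (Nat.card S)) : ∃ t ∈ S, t ≠ 1 ∧ t * t = 1 := by
  haveI : Fact (Nat.Prime 2) := ⟨Nat.prime_two⟩
  obtain ⟨t, ht⟩ := exists_prime_orderOf_dvd_card' 2 (even_iff_two_dvd.1 h)
  have ht1 : t ≠ 1 := fun e => by rw [e, orderOf_one] at ht; norm_num at ht
  refine ⟨t.1, t.2, fun e => ht1 (Subtype.ext e), ?_⟩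
  have := pow_orderOf_eq_one t
  rw [ht, sq] at this
  exact congrArg Subtype.val this

section Action

variable {Ω : Type*} [Finite Ω] [MulAction (Sz F m) Ω]

/-- If a point stabiliser has even order, it is a Borel subgroup. -/
theorem exists_stab_eq_borel (hm : 1 ≤ m) (hF : Fintype.card F = 2 ^ (2 * m + 1))
    (hfix : ∀ g : Sz F m, g ≠ 1 → Nat.card (MulAction.fixedBy Ω g) ≤ 2)
    (hnt : ∀ β : Ω, MulAction.stabilizer (Sz F m) β ≠ ⊤) {α : Ω}
    (heven : Even (Nat.card (MulAction.stabilizer (Sz F m) α))) :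
    ∃ β : Ω, MulAction.stabilizer (Sz F m) β =
      MulAction.stabilizer (Sz F m) (suzukiPointInfinity F) := by
  classical
  haveI : Fact (Nat.Prime 2) := ⟨Nat.prime_two⟩
  obtain ⟨t, htS, ht1, ht2⟩ := exists_involution_of_even _ heven
  have hto : orderOf t = 2 := orderOf_eq_prime (by rw [sq, ht2]) ht1
  -- move the involution into the standard Sylow subgroup
  obtain ⟨P, hP⟩ := (IsPGroup.of_card (n := 1) (G := Subgroup.zpowers t)
    (by rw [Nat.card_zpowers, hto, pow_one])).exists_le_sylow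
  obtain ⟨g, hg⟩ := exists_conj_eq_uGrp hm hF P
  obtain ⟨s, hs, hst⟩ : t ∈ (uGrp hF).map (MulAut.conj g).toMonoidHom :=
    hg ▸ hP (Subgroup.mem_zpowers t)
  change g * s * g⁻¹ = t at hst
  have hs1 : s ≠ 1 := fun e => ht1 (by rw [← hst, e, mul_one, mul_inv_cancel])
  obtain ⟨a, b, rfl⟩ := (mem_uGrp hF).1 hs
  have hs2 : tS hF a b * tS hF a b = 1 := by
    calc _ = g⁻¹ * ((g * tS hF a b * g⁻¹) * (g * tS hF a b * g⁻¹)) * g := by group
      _ = 1 := by rw [hst, ht2]; group
  rw [tS_sq] at hs2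
  obtain ⟨-, h0⟩ := T_inj ((congrArg Subtype.val hs2).trans (T_zero (m := m)).symm)
  obtain rfl : a = 0 := (mul_eq_zero.1 h0).elim (fun h => th_eq_zero.1 h) id
  refine ⟨g⁻¹ • α, ?_⟩
  set β := g⁻¹ • α with hβ
  set S := MulAction.stabilizer (Sz F m) β with hSdef
  set B := MulAction.stabilizer (Sz F m) (suzukiPointInfinity F) with hB
  have hsS : tS hF 0 b ∈ S := by
    rw [hSdef, MulAction.mem_stabilizer_iff, hβ]
    calc tS hF 0 b • g⁻¹ • α = g⁻¹ • (g * tS hF 0 b * g⁻¹) • α := by
          simp only [← mul_smul]; congr 1; group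
      _ = g⁻¹ • α := by rw [hst, MulAction.mem_stabilizer_iff.1 htS]
  have hindU : (S.subgroupOf (uGrp hF)).index ≤ 2 := by
    refine (index_le_two_of_fixity hfix hs1 _ fun k hk => centralizer_fixes hsS ?_).1
    obtain ⟨c, d, rfl⟩ := (mem_uGrp hF).1 hk
    rw [Subgroup.mem_centralizer_singleton_iff]
    exact (tS_comm_iff hF c d 0 b).2 (by simp)
  have hZ : ∀ c : F, tS hF 0 c ∈ S := fun c => by
    obtain ⟨a, ha⟩ := tS_zero_mem_iff_sq hF c
    rw [← ha]
    exact mul_self_mem_of_index_le_two hindU ((mem_uGrp hF).2 ⟨a, 0, rfl⟩)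
  -- first step: `S ≤ B`
  have hSB : S ≤ B := by
    intro x hx
    by_contra hxB
    set q := Fintype.card F with hq
    have hDcard : q ^ 2 ≤ 2 * Nat.card ↥(S ⊓ uGrp hF) := by
      have h1 := (S.subgroupOf (uGrp hF)).card_mul_index
      rw [card_uGrp, ← hq, ← Subgroup.inf_subgroupOf_right,
        Nat.card_congr (Subgroup.subgroupOfEquivOfLe (inf_le_right : S ⊓ uGrp hF ≤ _)).toEquiv,
        Subgroup.inf_subgroupOf_right] at h1
      calc q ^ 2 = Nat.card ↥(S ⊓ uGrp hF) * (S.subgroupOf (uGrp hF)).index := h1.symm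
        _ ≤ Nat.card ↥(S ⊓ uGrp hF) * 2 := Nat.mul_le_mul_left _ hindU
        _ = _ := mul_comm _ _
    set O : Set (Projectivization F (Fin 4 → F)) :=
      Set.range fun y : S => y.1.1 • suzukiPointInfinity F with hO
    have hOorb : O = MulAction.orbit S (suzukiPointInfinity F) := by
      ext z
      simp only [hO, MulAction.orbit, Set.mem_range, Subgroup.smul_def]
    have hOsub : O ⊆ suzukiOvoid F m := by
      rintro _ ⟨y, rfl⟩
      exact smul_mem y.1.2 inf_mem
    have hOinf : suzukiPointInfinity F ∈ O := ⟨1, one_smul _ _⟩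
    have hOsmul : ∀ d ∈ S, ∀ r ∈ O, d.1 • r ∈ O := by
      rintro d hd _ ⟨y, rfl⟩
      exact ⟨⟨d, hd⟩ * y, by simp only [Subgroup.coe_mul, mul_smul]⟩
    -- the images of a point under `S ⊓ U`
    have himg : ∀ r ∈ suzukiOvoid F m, r ≠ suzukiPointInfinity F →
        (Set.range fun d : ↥(S ⊓ uGrp hF) => d.1.1 • r).ncard = Nat.card ↥(S ⊓ uGrp hF) := by
      intro r hr hr'
      rw [← Nat.card_coe_set_eq]
      refine Nat.card_range_of_injective fun d d' h => ?_
      have hd : (d.1.1 • r) ≠ suzukiPointInfinity F := fun e => hr' (MulAction.injective d.1.1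
        (e.trans (uGrp_le_stab hF d.2.2).symm))
      exact Subtype.ext (congrArg (fun z : uGrp hF => (z : Sz F m)) ((uGrp_regular hF hr (smul_mem d.1.2 hr) hr' hd).unique
        (y₁ := ⟨d.1, d.2.2⟩) (y₂ := ⟨d'.1, d'.2.2⟩) rfl h.symm))
    set r := x.1 • suzukiPointInfinity F with hr
    have hrO : r ∈ O := ⟨⟨x, hx⟩, rfl⟩
    have hrinf : r ≠ suzukiPointInfinity F := hxB
    have hlow : Nat.card ↥(S ⊓ uGrp hF) + 1 ≤ O.ncard := by
      rw [← himg r (hOsub hrO) hrinf]
      have hsub : (Set.range fun d : ↥(S ⊓ uGrp hF) => d.1.1 • r) ⊆ O \ {suzukiPointInfinity F} := by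
        rintro _ ⟨d, rfl⟩
        refine ⟨hOsmul _ d.2.1 _ hrO, fun e => hrinf (MulAction.injective d.1.1 ?_)⟩
        exact (Set.mem_singleton_iff.1 e).trans (uGrp_le_stab hF d.2.2).symm
      have h1 := Set.ncard_le_ncard hsub (Set.toFinite _)
      have h2 := Set.ncard_sdiff_singleton_add_one hOinf (Set.toFinite _)
      omega
    by_cases hall : suzukiOvoid F m ⊆ O
    · -- every conjugate of the involution lies in `S`
      haveI := isSimple hm hF
      refine hnt β (eq_top_iff.2 ?_)
      have hN : Subgroup.normalClosure ({tS hF 0 b} : Set (Sz F m)) = ⊤ := by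
        refine (IsSimpleGroup.eq_bot_or_eq_top_of_normal _ inferInstance).resolve_left fun h => hs1 ?_
        exact Subgroup.mem_bot.1 (h ▸ Subgroup.subset_normalClosure rfl)
      rw [← hN]
      refine Subgroup.closure_le _ |>.2 ?_
      intro z hz
      obtain ⟨_, rfl, hz⟩ := Group.mem_conjugatesOfSet_iff.1 hz
      obtain ⟨y, rfl⟩ := isConj_iff.1 hz
      obtain ⟨⟨w, hw⟩, hwy⟩ := hall (smul_mem y.2 (inf_mem (F := F) (m := m)))
      have hyB : w⁻¹ * y ∈ B := by
        show (w.1⁻¹ * y.1) • suzukiPointInfinity F = suzukiPointInfinity F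
        rw [mul_smul, inv_smul_eq_iff]
        exact hwy.symm
      obtain ⟨c', hc'⟩ := tS_zero_conj hm hF hyB b
      have : y * tS hF 0 b * y⁻¹ = w * tS hF 0 c' * w⁻¹ := by rw [← hc']; group
      show y * tS hF 0 b * y⁻¹ ∈ S
      rw [this]
      exact S.mul_mem (S.mul_mem hw (hZ c')) (S.inv_mem hw)
    · obtain ⟨r', hr', hr'O⟩ := Set.not_subset.1 hall
      have hr'inf : r' ≠ suzukiPointInfinity F := fun e => hr'O (e ▸ hOinf)
      have hdis : Disjoint O (Set.range fun d : ↥(S ⊓ uGrp hF) => d.1.1 • r') := by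
        rw [Set.disjoint_left]
        rintro _ h1 ⟨d, rfl⟩
        exact hr'O (by simpa using hOsmul _ (S.inv_mem d.2.1) _ h1)
      have hup := Set.ncard_le_ncard (Set.union_subset hOsub
        (Set.range_subset_iff.2 fun d : ↥(S ⊓ uGrp hF) => smul_mem d.1.2 hr')) (Set.toFinite _)
      rw [Set.ncard_union_eq hdis (Set.toFinite _) (Set.toFinite _), himg r' hr' hr'inf,
        ← Nat.card_coe_set_eq (suzukiOvoid F m), card_ovoid, ← hq] at hup
      have hdvd : O.ncard ∣ Nat.card (Sz F m) := by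
        rw [hOorb, ← MulAction.index_stabilizer]
        exact (Subgroup.index_dvd_card _).trans S.card_subgroup_dvd_card
      rw [card_Sz hm hF, ← hq] at hdvd
      have hO1 : 2 * O.ncard = q ^ 2 + 2 := by omega
      have hq8 : 8 ≤ q := by
        rw [hF]
        exact le_trans (by norm_num) (Nat.pow_le_pow_right (by norm_num) (show 3 ≤ 2 * m + 1 by omega))
      have hc1 : O.ncard.Coprime (q ^ 2 + 1) := by
        refine Nat.coprime_of_dvd' fun k _ hk1 hk2 => ?_
        have h3 : k ∣ 2 * O.ncard := Dvd.dvd.mul_left hk1 2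
        rw [hO1] at h3
        exact (Nat.dvd_add_right hk2).1 (show k ∣ q ^ 2 + 1 + 1 from h3)
      have hc2 : O.ncard.Coprime (q ^ 2) := by
        have h4 : 4 ∣ q ^ 2 := by
          rw [hF, ← pow_mul]
          exact pow_dvd_pow 2 (show 2 ≤ (2 * m + 1) * 2 by omega)
        rw [hF, ← pow_mul]
        refine Nat.Coprime.pow_right _ (Nat.coprime_two_right.2 ?_)
        rw [Nat.odd_iff]
        omega
      have h5 := Nat.le_of_dvd (by omega) ((hc2.mul_right hc1).dvd_of_dvd_mul_left hdvd)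
      have h6 : 8 * q ≤ q ^ 2 := by rw [sq]; exact Nat.mul_le_mul_right q hq8
      omega
  -- second step: `[B : S] ≤ 2`
  have hindB : (S.subgroupOf B).index ≤ 2 := by
    refine (index_le_two_of_fixity hfix hs1 _ fun k hk => ?_).1
    obtain ⟨c', hc'⟩ := tS_zero_conj hm hF (B.inv_mem hk) b
    rw [inv_inv] at hc'
    calc tS hF 0 b • k • β = k • (k⁻¹ * tS hF 0 b * k) • β := by
          simp only [← mul_smul]; congr 1; group
      _ = k • β := by rw [hc', MulAction.mem_stabilizer_iff.1 (hZ c')]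
  have hH : ∀ u, hS hF u ∈ S := fun u => by
    obtain ⟨v, rfl⟩ := exists_sqrt hF u
    rw [show hS hF (v * v) = hS hF v * hS hF v from Subtype.ext (H_mul v v)]
    exact mul_self_mem_of_index_le_two hindB (H_smul_inf v)
  refine le_antisymm hSB fun x hx => ?_
  obtain ⟨a, c, u, rfl⟩ := stab_eq hm hF hx
  refine S.mul_mem ?_ (hH u)
  obtain ⟨w, hw⟩ := exists_unit_ne_one hm hF
  set k := (w : F) ^ 2 / th m (w : F) with hk
  have hk1 : k + 1 ≠ 0 := by
    intro e
    have e' : k = 1 := by linear_combination e - two_zero hF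
    rw [hk, div_eq_one_iff_eq (fun e => w.ne_zero (th_eq_zero.1 e))] at e'
    exact hw (Units.ext (th_eq_sq hF e'.symm w.ne_zero))
  set a' := a / (k + 1)
  -- the commutator with a torus element
  have hcom : hS hF w * tS hF a' 0 * (hS hF w)⁻¹ * (tS hF a' 0)⁻¹ ∈ S := by
    have hwB : hS hF w ∈ B := H_smul_inf w
    have haB : tS hF a' 0 ∈ B := T_smul_inf _ _
    rcases (show (S.subgroupOf B).index = 1 ∨ (S.subgroupOf B).index = 2 by
      have := (S.subgroupOf B).index_ne_zero_of_finite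
      omega) with h1 | h1
    · have hle : B ≤ S := Subgroup.subgroupOf_eq_top.1 (Subgroup.index_eq_one.1 h1)
      exact hle (B.mul_mem (B.mul_mem (B.mul_mem hwB haB) (B.inv_mem hwB)) (B.inv_mem haB))
    · have hwS : (⟨_, hwB⟩ : B) ∈ S.subgroupOf B := hH w
      have : (⟨_, hwB⟩ * ⟨_, haB⟩ * (⟨_, hwB⟩ : B)⁻¹ * (⟨_, haB⟩ : B)⁻¹) ∈ S.subgroupOf B := by
        simp only [Subgroup.mul_mem_iff_of_index_two h1, inv_mem_iff]
        tauto
      exact this
  rw [hS_conj_tS, mul_zero, ← hk] at hcom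
  obtain ⟨d, hd⟩ : ∃ d, tS hF (k * a') 0 * (tS hF a' 0)⁻¹ = tS hF a d := by
    refine ⟨0 + (0 + th m a' * a') + th m (k * a') * a', ?_⟩
    apply Subtype.ext
    show T m (k * a') 0 * (T m a' 0)⁻¹ = T m a _
    rw [T_inv hF, T_mul hF]
    congr 1
    simp only [a']
    field_simp
  rw [hd] at hcom
  have e : tS hF a c = tS hF a d * tS hF 0 (d + c) := by
    apply Subtype.ext
    show T m a c = T m a d * T m 0 (d + c)
    rw [T_mul hF, add_zero, mul_zero, add_zero]
    congr 1
    linear_combination -d * two_zero hF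
  rw [e]
  exact S.mul_mem hcom (hZ _)

/-- If all point stabilisers have odd order, a non-trivial stabilised element is centralised by a
split torus, which is contained in the stabiliser. -/
theorem centralizer_le_stab (hm : 1 ≤ m) (hF : Fintype.card F = 2 ^ (2 * m + 1))
    (hfix : ∀ g : Sz F m, g ≠ 1 → Nat.card (MulAction.fixedBy Ω g) ≤ 2)
    (hodd : ∀ β : Ω, Odd (Nat.card (MulAction.stabilizer (Sz F m) β))) {α : Ω} {g : Sz F m}
    (hg : g ∈ MulAction.stabilizer (Sz F m) α) (hg1 : g ≠ 1) :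
    Subgroup.centralizer ({g} : Set (Sz F m)) ≤ MulAction.stabilizer (Sz F m) α ∧
      Nat.card (Subgroup.centralizer ({g} : Set (Sz F m))) = Fintype.card F - 1 ∧
      (∀ a ∈ Subgroup.centralizer ({g} : Set (Sz F m)), a ≠ 1 →
        Subgroup.centralizer ({a} : Set (Sz F m)) = Subgroup.centralizer ({g} : Set (Sz F m))) ∧
      Nat.card (Subgroup.normalizer (Subgroup.centralizer ({g} : Set (Sz F m)) : Set (Sz F m))) =
        2 * (Fintype.card F - 1) := by
  obtain ⟨Up, Um, hp, hn, hN, hcov⟩ := partition hm hF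
  have hqev : Even (Fintype.card F) := by rw [hF]; exact Nat.even_pow.2 ⟨even_two, by omega⟩
  have hq2 : 2 ≤ Fintype.card F := Fintype.one_lt_card
  have htor : ∀ (A : Subgroup (Sz F m)) (k : ℕ), Odd k → IsTorus A k → g ∉ conjSet A := by
    rintro A k hk hA ⟨-, x, hx⟩
    set a := x⁻¹ * g * x with ha
    set β := x⁻¹ • α with hβ
    have ha1 : a ≠ 1 := fun e => hg1 (by
      calc g = x * a * x⁻¹ := by rw [ha]; group
        _ = 1 := by rw [e]; group)
    have haβ : a • β = β := by
      rw [ha, hβ, ← mul_smul, mul_inv_cancel_right, mul_smul, MulAction.mem_stabilizer_iff.1 hg]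
    have hAc := hA.cent a hx ha1
    have hle : A ≤ MulAction.stabilizer (Sz F m) β :=
      le_of_index_le_two (by rw [hA.card]; exact hk)
        (index_le_two_of_fixity hfix ha1 A fun c hc => centralizer_fixes haβ (hAc.symm ▸ hc)).1
    obtain ⟨hind, hind0⟩ := index_le_two_of_fixity hfix ha1 (β := β) (Subgroup.normalizer (A : Set (Sz F m)))
      fun n hn' => by
        have : n⁻¹ * a * n ∈ A := by
          simpa using (Subgroup.mem_normalizer_iff.1 (Subgroup.inv_mem _ hn') a).1 hx
        calc a • n • β = n • (n⁻¹ * a * n) • β := by simp only [← mul_smul]; congr 1; group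
          _ = n • β := by rw [MulAction.mem_stabilizer_iff.1 (hle this)]
    set K := (MulAction.stabilizer (Sz F m) β).subgroupOf (Subgroup.normalizer (A : Set (Sz F m)))
    have hKodd : Odd (Nat.card K) := by
      refine Odd.of_dvd_nat (hodd β) ?_
      simp only [K]
      rw [← Subgroup.inf_subgroupOf_right,
        Nat.card_congr (Subgroup.subgroupOfEquivOfLe inf_le_right).toEquiv]
      exact Subgroup.card_dvd_of_le inf_le_left
    have hcard := K.card_mul_index
    rw [hA.normalizer] at hcard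
    obtain ⟨j, hj⟩ := hKodd
    rcases (show K.index = 1 ∨ K.index = 2 by omega) with h | h <;> rw [h] at hcard <;> omega
  rcases hcov g hg1 with h | h | h | h
  · exfalso
    obtain ⟨-, x, hx⟩ := h
    have h1 : orderOf g ∣ 4 := by
      refine orderOf_dvd_of_pow_eq_one ?_
      have h4 := Monoid.pow_exponent_eq_one (⟨_, hx⟩ : uGrp hF)
      rw [exponent_uGrp hF] at h4
      have h4' : (x⁻¹ * g * x) ^ 4 = 1 := congrArg Subtype.val h4
      rw [show x⁻¹ * g * x = x⁻¹ * g * x⁻¹⁻¹ by rw [inv_inv], conj_pow] at h4'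
      exact conj_eq_one_iff.1 h4'
    have h2 : Odd (orderOf g) := Odd.of_dvd_nat (hodd α) (by
      rw [← Subgroup.orderOf_mk g hg]; exact orderOf_dvd_natCard _)
    have h3 : (orderOf g).Coprime (2 ^ 2) := Nat.Coprime.pow_right _ (Nat.coprime_two_right.2 h2)
    exact hg1 (orderOf_eq_one_iff.1 (h3.eq_one_of_dvd h1))
  · obtain ⟨-, x, hx⟩ := h
    have ha1 : x⁻¹ * g * x ≠ 1 := fun e => hg1 (by
      calc g = x * (x⁻¹ * g * x) * x⁻¹ := by group
        _ = 1 := by rw [e]; group)
    have hC : Subgroup.centralizer ({g} : Set (Sz F m)) =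
        (hGrp hF).map (MulAut.conj x).toMonoidHom := by
      rw [← centralizer_hS hm hF hx ha1, ← centralizer_conj]
      congr 2
      group
    have hcard : Nat.card (Subgroup.centralizer ({g} : Set (Sz F m))) = Fintype.card F - 1 := by
      rw [hC, Subgroup.card_map_of_injective (MulEquiv.injective _), card_hGrp]
    refine ⟨le_of_index_le_two ?_ (index_le_two_of_fixity hfix hg1 _ fun k hk =>
      centralizer_fixes (MulAction.mem_stabilizer_iff.1 hg) hk).1, hcard, ?_, ?_⟩
    · rw [hcard]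
      obtain ⟨j, hj⟩ := hqev
      exact ⟨j - 1, by omega⟩
    · intro a ha ha'
      rw [hC] at ha ⊢
      obtain ⟨c, hc, rfl⟩ := ha
      show Subgroup.centralizer {x * c * x⁻¹} = _
      rw [centralizer_conj, centralizer_hS hm hF hc (fun e => ha' (by rw [e, map_one]))]
    · rw [hC, ← hN, ← Subgroup.map_equiv_normalizer_eq,
        Subgroup.card_map_of_injective (MulEquiv.injective _)]
  · refine absurd h (htor _ _ ?_ hp)
    exact ((Nat.even_pow.2 ⟨even_two, by omega⟩).add (Nat.even_pow.2 ⟨even_two, by omega⟩)).add_one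
  · refine absurd h (htor _ _ ?_ hn)
    refine Even.add_one ?_
    rw [Nat.even_sub (Nat.pow_le_pow_right (by norm_num) (by omega)), Nat.even_pow, Nat.even_pow]
    exact iff_of_true ⟨even_two, by omega⟩ ⟨even_two, by omega⟩

/-- If all point stabilisers have odd order, they are split tori. -/
theorem card_stab_of_odd (hm : 1 ≤ m) (hF : Fintype.card F = 2 ^ (2 * m + 1))
    (hfix : ∀ g : Sz F m, g ≠ 1 → Nat.card (MulAction.fixedBy Ω g) ≤ 2)
    (hodd : ∀ β : Ω, Odd (Nat.card (MulAction.stabilizer (Sz F m) β))) {α : Ω}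
    (hne : MulAction.stabilizer (Sz F m) α ≠ ⊥) :
    Nat.card (MulAction.stabilizer (Sz F m) α) = Fintype.card F - 1 := by
  set S := MulAction.stabilizer (Sz F m) α with hSdef
  set q := Fintype.card F with hq
  have hq8 : 8 ≤ q := by
    rw [hF]
    exact le_trans (by norm_num) (Nat.pow_le_pow_right (by norm_num) (show 3 ≤ 2 * m + 1 by omega))
  -- the conjugates in `S` of the torus of one element
  let A : S → Subgroup S := fun z => (Subgroup.centralizer ({z.1} : Set (Sz F m))).subgroupOf S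
  have hA : ∀ z : S, z ≠ 1 → (∀ u ∈ A z, u ≠ 1 → Subgroup.centralizer {u} = A z) ∧
      (conjSet (A z)).ncard * (q - 1) = Nat.card S * (q - 2) := by
    intro z hz
    have hz1 : z.1 ≠ 1 := fun e => hz (Subtype.ext e)
    obtain ⟨hle, hcard, hcent, hnor⟩ := centralizer_le_stab hm hF hfix hodd z.2 hz1
    have hc : ∀ u ∈ A z, u ≠ 1 → Subgroup.centralizer {u} = A z := by
      intro u hu hu1
      ext w
      rw [Subgroup.mem_centralizer_singleton_iff]
      show w * u = u * w ↔ w.1 ∈ Subgroup.centralizer {z.1}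
      rw [← hcent u.1 hu (fun e => hu1 (Subtype.ext e)), Subgroup.mem_centralizer_singleton_iff]
      exact Subtype.ext_iff
    refine ⟨hc, ?_⟩
    have hAcard : Nat.card (A z) = q - 1 := by
      rw [← hcard]
      exact Nat.card_congr (Subgroup.subgroupOfEquivOfLe hle).toEquiv
    set N := Subgroup.normalizer (A z : Set S) with hN
    have hNcard : Nat.card N = q - 1 := by
      have h1 : Nat.card (A z) ∣ Nat.card N := Subgroup.card_dvd_of_le Subgroup.le_normalizer
      have hcardN : Nat.card N = Nat.card (N.map S.subtype) :=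
        (Subgroup.card_map_of_injective S.subtype_injective).symm
      have h2 : Nat.card N ∣ 2 * (q - 1) := by
        rw [← hnor, hcardN]
        refine Subgroup.card_dvd_of_le ?_
        rintro _ ⟨w, hw, rfl⟩
        rw [Subgroup.mem_normalizer_iff]
        intro c
        constructor
        · intro hc'
          exact (Subgroup.mem_normalizer_iff.1 hw ⟨c, hle hc'⟩).1 hc'
        · intro hc'
          have hcS : c ∈ S := by
            have := S.mul_mem (S.mul_mem (S.inv_mem w.2) (hle hc')) w.2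
            simpa [mul_assoc] using this
          exact (Subgroup.mem_normalizer_iff.1 hw ⟨c, hcS⟩).2 hc'
      have h3 : Odd (Nat.card N) := Odd.of_dvd_nat (hodd α) N.card_subgroup_dvd_card
      have h4 := ((Nat.coprime_two_right.2 h3).dvd_of_dvd_mul_left h2)
      rw [hAcard] at h1
      exact Nat.dvd_antisymm h4 h1
    rw [ncard_conjSet (isTI_of_centralizer hc), ← hN, hAcard,
      ← Subgroup.card_mul_index N, hNcard, show q - 1 - 1 = q - 2 by omega]
    ring
  have hcompl : ({1}ᶜ : Set S).ncard = Nat.card S - 1 := by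
    rw [Set.ncard_compl, Set.ncard_singleton]
  obtain ⟨z, hzS, hz⟩ := (Subgroup.bot_or_exists_ne_one S).resolve_left hne
  have hz' : (⟨z, hzS⟩ : S) ≠ 1 := fun e => hz (congrArg Subtype.val e)
  obtain ⟨hc, hn⟩ := hA _ hz'
  have hdvd : q - 1 ∣ Nat.card S := by
    obtain ⟨hle, hcard, -, -⟩ := centralizer_le_stab hm hF hfix hodd hzS hz
    rw [← hcard]
    exact Subgroup.card_dvd_of_le hle
  obtain ⟨r, hr⟩ := hdvd
  have hr0 : 1 ≤ r := Nat.one_le_iff_ne_zero.2 fun e => by
    rw [e, mul_zero] at hr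
    exact (Nat.card_pos (α := S)).ne' hr
  have hn' : (conjSet (A ⟨z, hzS⟩)).ncard = r * (q - 2) :=
    Nat.eq_of_mul_eq_mul_right (by omega : 0 < q - 1) (by rw [hn, hr]; ring)
  by_cases hall : ({1}ᶜ : Set S) ⊆ conjSet (A ⟨z, hzS⟩)
  · have heq : conjSet (A ⟨z, hzS⟩) = ({1}ᶜ : Set S) :=
      Set.Subset.antisymm (fun w hw => hw.1) hall
    rw [heq, hcompl, hr, show r * (q - 2) = r * (q - 1) - r by
      rw [← Nat.mul_sub_one]; congr 1] at hn'
    have : (q - 1) * r = r * (q - 1) := mul_comm _ _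
    have : r ≤ r * (q - 1) := Nat.le_mul_of_pos_right r (by omega)
    rw [hr, show r = 1 by omega, mul_one]
  · exfalso
    obtain ⟨w, hw, hwn⟩ := Set.not_subset.1 hall
    obtain ⟨hc', hm'⟩ := hA w hw
    have hm'' : (conjSet (A w)).ncard = r * (q - 2) :=
      Nat.eq_of_mul_eq_mul_right (by omega : 0 < q - 1) (by rw [hm', hr]; ring)
    have hwA : w ∈ A w := Subgroup.mem_centralizer_singleton_iff.2 rfl
    have hdis : Disjoint (conjSet (A ⟨z, hzS⟩)) (conjSet (A w)) := by
      rw [Set.disjoint_left]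
      rintro c ⟨hc1, x, hx⟩ ⟨-, y, hy⟩
      have hne : ∀ t : S, t⁻¹ * c * t ≠ 1 := fun t e => hc1 (by
        calc c = t * (t⁻¹ * c * t) * t⁻¹ := by group
          _ = 1 := by rw [e]; group)
      have e1 := centralizer_conj x (x⁻¹ * c * x)
      rw [hc _ hx (hne x), show x * (x⁻¹ * c * x) * x⁻¹ = c by group] at e1
      have e2 := centralizer_conj y (y⁻¹ * c * y)
      rw [hc' _ hy (hne y), show y * (y⁻¹ * c * y) * y⁻¹ = c by group, e1] at e2
      have hmem : y * w * y⁻¹ ∈ (A w).map (MulAut.conj y).toMonoidHom := ⟨w, hwA, rfl⟩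
      rw [← e2] at hmem
      refine hwn (mem_conjSet_iff.2 ⟨hw, y⁻¹ * x, ?_⟩)
      obtain ⟨v, hv, hve⟩ := hmem
      refine ⟨v, hv, ?_⟩
      change x * v * x⁻¹ = y * w * y⁻¹ at hve
      show (y⁻¹ * x) * v * (y⁻¹ * x)⁻¹ = w
      calc _ = y⁻¹ * (x * v * x⁻¹) * y := by group
        _ = w := by rw [hve]; group
    have hle : (conjSet (A ⟨z, hzS⟩) ∪ conjSet (A w)).ncard ≤ Nat.card S - 1 := by
      rw [← hcompl]
      exact Set.ncard_le_ncard (fun c hc => hc.elim (·.1) (·.1)) (Set.toFinite _)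
    rw [Set.ncard_union_eq hdis (Set.toFinite _) (Set.toFinite _), hn', hm'', hr] at hle
    have h5 : r * (q - 1) ≤ r * ((q - 2) + (q - 2)) := Nat.mul_le_mul_left r (by omega)
    rw [mul_add] at h5
    have : 0 < r * (q - 1) := Nat.mul_pos hr0 (by omega)
    have : (q - 1) * r = r * (q - 1) := mul_comm _ _
    omega

end Action

end Cfsg.Agent.SZ
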