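/-
Suzuki groups, part 10: subfields of the field of definition and the twisting map.
-/
import Cfsg.Agent.Lib.Sz.Centralizers

set_option autoImplicit false

namespace Cfsg.Agent.SZ

/-- A field with `2 ^ n` elements embeds into a field with `2 ^ N` elements when `n ∣ N`. -/
theorem exists_ringHom {K F : Type*} [Field K] [Fintype K] [Field F] [Fintype F] {n N : ℕ}
    (hn : n ≠ 0) (hK : Fintype.card K = 2 ^ n) (hF : Fintype.card F = 2 ^ N) (h : n ∣ N) :
    Nonempty (K →+* F) := by
  haveI : Fact (Nat.Prime 2) := ⟨Nat.prime_two⟩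
  rcases Nat.eq_zero_or_pos N with rfl | hN
  · exact absurd (Fintype.one_lt_card (α := F)) (by simp [hF])
  haveI : CharP K 2 := charP_of_card_eq_prime_pow hK
  haveI : CharP F 2 := charP_of_card_eq_prime_pow hF
  letI : Algebra (ZMod 2) K := ZMod.algebra K 2
  letI : Algebra (ZMod 2) F := ZMod.algebra F 2
  have hk : Module.finrank (ZMod 2) K = n :=
    Nat.pow_right_injective le_rfl ((FiniteField.pow_finrank_eq_card 2 K).trans hK)
  have hf : Module.finrank (ZMod 2) F = N :=
    Nat.pow_right_injective le_rfl ((FiniteField.pow_finrank_eq_card 2 F).trans hF)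
  obtain ⟨f⟩ := FiniteField.nonempty_algHom_of_finrank_dvd (F := ZMod 2) (K := K) (L := F)
    (by rw [hk, hf]; exact h)
  exact ⟨f.toRingHom⟩

variable {F : Type*} [Field F] [Fintype F] {m : ℕ}

theorem exists_th_eq (hF : Fintype.card F = 2 ^ (2 * m + 1)) (x : F) : ∃ y, th m y = x :=
  Finite.surjective_of_injective (f := th (F := F) m) (fun _ _ h => th_inj hF h) x

end Cfsg.Agent.SZ
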