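/-
Suzuki groups, part 12: subfield subgroups and their conjugacy.
-/
import Cfsg.Agent.Lib.Sz.Subfield
import Cfsg.Agent.Lib.Sz.Fixity

set_option autoImplicit false

namespace Cfsg.Agent.SZ

open Cfsg Matrix
open scoped Pointwise

section Generation

variable {F : Type*} [Field F] [Fintype F] {m : ℕ}

theorem kappa_injective (hF : Fintype.card F = 2 ^ (2 * m + 1)) :
    Function.Injective fun u : Fˣ => (u : F) ^ 2 / th m (u : F) := by
  intro u v h
  have hu : th m (u : F) ≠ 0 := fun e => u.ne_zero (th_eq_zero.1 e)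
  have hv : th m (v : F) ≠ 0 := fun e => v.ne_zero (th_eq_zero.1 e)
  simp only at h
  rw [div_eq_div_iff hu hv] at h
  refine Units.ext (div_eq_one_iff_eq v.ne_zero |>.1 (th_eq_sq hF ?_ (div_ne_zero u.ne_zero v.ne_zero)))
  rw [th_div, div_pow, div_eq_div_iff hv (pow_ne_zero 2 v.ne_zero)]
  linear_combination -h

theorem exists_kappa (hF : Fintype.card F = 2 ^ (2 * m + 1)) {a : F} (ha : a ≠ 0) :
    ∃ u : Fˣ, (u : F) ^ 2 / th m (u : F) = a := by
  have h0 : ∀ u : Fˣ, (u : F) ^ 2 / th m (u : F) ≠ 0 := fun u =>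
    div_ne_zero (pow_ne_zero 2 u.ne_zero) (fun e => u.ne_zero (th_eq_zero.1 e))
  obtain ⟨u, hu⟩ := Finite.surjective_of_injective
    (f := fun u : Fˣ => Units.mk0 _ (h0 u))
    (fun u v h => kappa_injective hF (congrArg Units.val h)) (Units.mk0 a ha)
  exact ⟨u, congrArg Units.val hu⟩

theorem wTw_smul_inf (hF : Fintype.card F = 2 ^ (2 * m + 1)) {c : F} (hc : c ≠ 0) :
    (wS hF * tS hF 0 c * wS hF).1 • suzukiPointInfinity F = aff m (c / th m c) 0 := by
  show (W * T m 0 c * W) • suzukiPointInfinity F = _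
  have hz : zf m (0 : F) c = th m c := by simp [zf]
  rw [mul_smul, mul_smul, W_smul_inf, zero_eq_aff (m := m), T_smul_aff hF,
    show (0 : F) + 0 = 0 from add_zero 0, show (0 : F) + c + th m (0 : F) * 0 = c by simp,
    W_smul_aff hF 0 c (by rw [hz]; exact fun e => hc (th_eq_zero.1 e)), hz, zero_div]

/-- The group is generated by the central root group, the torus and the Weyl element. -/
theorem closure_gens (hm : 1 ≤ m) (hF : Fintype.card F = 2 ^ (2 * m + 1)) :
    Subgroup.closure ((Set.range fun b : F => tS hF 0 b) ∪ (Set.range fun u : Fˣ => hS hF u) ∪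
      {wS hF}) = ⊤ := by
  set M := Subgroup.closure ((Set.range fun b : F => tS hF 0 b) ∪ (Set.range fun u : Fˣ => hS hF u) ∪
      {wS hF}) with hM
  have hZ : ∀ b : F, tS hF 0 b ∈ M := fun b => Subgroup.subset_closure (Or.inl (Or.inl ⟨b, rfl⟩))
  have hH : ∀ u : Fˣ, hS hF u ∈ M := fun u => Subgroup.subset_closure (Or.inl (Or.inr ⟨u, rfl⟩))
  have hW : wS hF ∈ M := Subgroup.subset_closure (Or.inr rfl)
  have htrans : ∀ p ∈ suzukiOvoid F m, ∃ x ∈ M, x.1 • suzukiPointInfinity F = p := by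
    intro p hp
    rcases mem_ovoid_iff.1 hp with rfl | ⟨a, b, rfl⟩
    · exact ⟨1, one_mem _, one_smul _ _⟩
    · rcases eq_or_ne a 0 with rfl | ha
      · refine ⟨tS hF 0 b * wS hF, mul_mem (hZ b) hW, ?_⟩
        show (T m 0 b * W) • _ = _
        rw [mul_smul, W_smul_inf, zero_eq_aff (m := m), T_smul_aff hF]
        simp
      · obtain ⟨u, hu⟩ := exists_kappa hF ha
        refine ⟨tS hF 0 b * hS hF u * (wS hF * tS hF 0 1 * wS hF),
          mul_mem (mul_mem (hZ b) (hH u)) (mul_mem (mul_mem hW (hZ 1)) hW), ?_⟩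
        show (T m 0 b * H m u * (wS hF * tS hF 0 1 * wS hF).1) • _ = _
        rw [mul_smul, wTw_smul_inf hF one_ne_zero, mul_smul, H_smul_aff hF, T_smul_aff hF, hu]
        simp
  haveI := isSimple hm hF
  have hN : Subgroup.normalClosure ({tS hF 0 1} : Set (Sz F m)) = ⊤ := by
    refine (IsSimpleGroup.eq_bot_or_eq_top_of_normal _ inferInstance).resolve_left fun h => ?_
    have h1 : tS hF 0 (1 : F) = 1 := Subgroup.mem_bot.1 (h ▸ Subgroup.subset_normalClosure rfl)
    exact one_ne_zero (T_inj ((congrArg Subtype.val h1).trans (T_zero (m := m)).symm)).2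
  rw [eq_top_iff, ← hN]
  refine (Subgroup.closure_le _).2 ?_
  intro z hz
  obtain ⟨_, rfl, hz⟩ := Group.mem_conjugatesOfSet_iff.1 hz
  obtain ⟨y, rfl⟩ := isConj_iff.1 hz
  obtain ⟨w, hw, hwy⟩ := htrans _ (smul_mem y.2 (inf_mem (F := F) (m := m)))
  have hyB : w⁻¹ * y ∈ MulAction.stabilizer (Sz F m) (suzukiPointInfinity F) := by
    show (w.1⁻¹ * y.1) • suzukiPointInfinity F = suzukiPointInfinity F
    rw [mul_smul, inv_smul_eq_iff]
    exact hwy.symm
  obtain ⟨c', hc'⟩ := tS_zero_conj hm hF hyB 1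
  have : y * tS hF 0 1 * y⁻¹ = w * tS hF 0 c' * w⁻¹ := by rw [← hc']; group
  show y * tS hF 0 1 * y⁻¹ ∈ M
  rw [this]
  exact mul_mem (mul_mem hw (hZ c')) (inv_mem hw)

end Generation

section Embedding

variable {F : Type*} [Field F] [Fintype F] {m : ℕ}
variable {K : Type*} [Field K] [Fintype K] {k : ℕ}

theorem th_map (hK : Fintype.card K = 2 ^ (2 * k + 1)) (hdiv : 2 * k + 1 ∣ 2 * m + 1) (ι : K →+* F)
    (x : K) : th m (ι x) = ι (th k x) := by
  obtain ⟨d, hd⟩ := hdiv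
  obtain ⟨j, rfl⟩ : Odd d := by
    have : Odd ((2 * k + 1) * d) := hd ▸ ⟨m, rfl⟩
    exact (Nat.odd_mul.1 this).2
  have e : m + 1 = (2 * k + 1) * j + (k + 1) := by
    have : (2 * k + 1) * (2 * j + 1) = 2 * ((2 * k + 1) * j) + (2 * k + 1) := by ring
    omega
  rw [th, th, ← map_pow, e, pow_add 2, pow_mul x, pow_mul 2, ← hK, FiniteField.pow_card_pow]

theorem map_T (hK : Fintype.card K = 2 ^ (2 * k + 1)) (hdiv : 2 * k + 1 ∣ 2 * m + 1) (ι : K →+* F)
    (a b : K) : SpecialLinearGroup.map ι (T k a b) = T m (ι a) (ι b) := by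
  apply sl_ext
  show (T k a b).1.map ι = (T m (ι a) (ι b)).1
  ext i j
  fin_cases i <;> fin_cases j <;> simp [T, tMat, zf, th_map hK hdiv ι]

theorem map_H (hK : Fintype.card K = 2 ^ (2 * k + 1)) (hdiv : 2 * k + 1 ∣ 2 * m + 1) (ι : K →+* F)
    (u : Kˣ) : SpecialLinearGroup.map ι (H k u) = H m (Units.map ι.toMonoidHom u) := by
  apply sl_ext
  show (H k u).1.map ι = (H m (Units.map ι.toMonoidHom u)).1
  ext i j
  fin_cases i <;> fin_cases j <;> simp [H, hVec, th_map hK hdiv ι]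

theorem map_W (ι : K →+* F) :
    SpecialLinearGroup.map ι (W : SpecialLinearGroup (Fin 4) K) = W := by
  apply sl_ext
  show (W : SpecialLinearGroup (Fin 4) K).1.map ι = (W : SpecialLinearGroup (Fin 4) F).1
  ext i j
  fin_cases i <;> fin_cases j <;> simp [W, wMat]

/-- The standard subfield subgroup. -/
theorem exists_subfieldHom (hm : 1 ≤ m) (hF : Fintype.card F = 2 ^ (2 * m + 1)) (hk : 1 ≤ k)
    (hK : Fintype.card K = 2 ^ (2 * k + 1)) (hdiv : 2 * k + 1 ∣ 2 * m + 1) (ι : K →+* F) :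
    ∃ φ : Sz K k →* Sz F m, Function.Injective φ ∧
      (∀ a b, φ (tS hK a b) = tS hF (ι a) (ι b)) ∧
      (∀ u, φ (hS hK u) = hS hF (Units.map ι.toMonoidHom u)) ∧ φ (wS hK) = wS hF := by
  have hmem : ∀ g : Sz K k, SpecialLinearGroup.map ι g.1 ∈ Sz F m := by
    intro g
    rcases bruhat hk hK g.2 with ⟨a, b, u, h⟩ | ⟨a, b, c, d, u, h⟩
    · rw [h, map_mul, map_T hK hdiv, map_H hK hdiv]
      exact mul_mem (T_mem hF _ _) (H_mem hF _)
    · rw [h, map_mul, map_mul, map_mul, map_T hK hdiv, map_T hK hdiv, map_H hK hdiv, map_W]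
      exact mul_mem (mul_mem (T_mem hF _ _) (W_mem hF)) (mul_mem (T_mem hF _ _) (H_mem hF _))
  refine ⟨((SpecialLinearGroup.map ι).comp (Sz K k).subtype).codRestrict _ hmem, ?_,
    fun a b => Subtype.ext (map_T hK hdiv ι a b), fun u => Subtype.ext (map_H hK hdiv ι u),
    Subtype.ext (map_W ι)⟩
  intro g h e
  have e' : SpecialLinearGroup.map ι g.1 = SpecialLinearGroup.map ι h.1 := congrArg Subtype.val e
  refine Subtype.ext (sl_ext ?_)
  ext i j
  exact ι.injective (congrFun (congrFun (congrArg (fun A => A.1) e') i) j)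

theorem map_stab_le (hm : 1 ≤ m) (hF : Fintype.card F = 2 ^ (2 * m + 1)) (hk : 1 ≤ k)
    (hK : Fintype.card K = 2 ^ (2 * k + 1)) {ψ : Sz K k →* Sz F m} (hψ : Function.Injective ψ)
    (hU : ∀ a b, ψ (tS hK a b) ∈ uGrp hF) {x : Sz K k}
    (hx : x ∈ MulAction.stabilizer (Sz K k) (suzukiPointInfinity K)) :
    ψ x ∈ MulAction.stabilizer (Sz F m) (suzukiPointInfinity F) := by
  rw [← normalizer_uGrp hm hF]
  have h1 : tS hK (0 : K) 1 ≠ 1 := fun e =>
    one_ne_zero (T_inj ((congrArg Subtype.val e).trans (T_zero (m := k)).symm)).2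
  refine isTI_uGrp hm hF _ _ (hU 0 1) (fun e => h1 (hψ (e.trans ψ.map_one.symm))) ?_
  obtain ⟨c, hc⟩ := tS_zero_conj hk hK hx 1
  rw [← map_inv, ← map_mul, ← map_mul, hc]
  exact hU 0 c

/-- Every copy of the smaller group can be conjugated into standard position. -/
theorem exists_normalised (hm : 1 ≤ m) (hF : Fintype.card F = 2 ^ (2 * m + 1)) (hk : 1 ≤ k)
    (hK : Fintype.card K = 2 ^ (2 * k + 1)) {ψ : Sz K k →* Sz F m} (hψ : Function.Injective ψ) :
    ∃ g : Sz F m, (∀ a b, g * ψ (tS hK a b) * g⁻¹ ∈ uGrp hF) ∧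
      (∀ u, g * ψ (hS hK u) * g⁻¹ ∈ hGrp hF) ∧ g * ψ (wS hK) * g⁻¹ = wS hF := by
  haveI : Fact (Nat.Prime 2) := ⟨Nat.prime_two⟩
  -- step 1: the Sylow subgroup
  obtain ⟨g₁, hg₁⟩ : ∃ g, ∀ a b, g * ψ (tS hK a b) * g⁻¹ ∈ uGrp hF := by
    obtain ⟨P, hP⟩ := (((uSylow hk hK).isPGroup').map ψ).exists_le_sylow
    obtain ⟨x, hx⟩ := exists_conj_eq_uGrp hm hF P
    refine ⟨x⁻¹, fun a b => ?_⟩
    have hmem : ψ (tS hK a b) ∈ (uGrp hF).map (MulAut.conj x).toMonoidHom :=
      hx ▸ hP ⟨tS hK a b, (mem_uGrp hK).2 ⟨a, b, rfl⟩, rfl⟩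
    obtain ⟨y, hy, hye⟩ := hmem
    change x * y * x⁻¹ = ψ (tS hK a b) at hye
    rw [← hye, inv_inv]
    simpa [mul_assoc] using hy
  set ψ₁ := (MulAut.conj g₁).toMonoidHom.comp ψ with hψ₁
  have hψ₁inj : Function.Injective ψ₁ := (MulAut.conj g₁).injective.comp hψ
  -- step 2: the torus
  obtain ⟨u₀, hu₀⟩ := IsCyclic.exists_generator (α := Kˣ)
  have hu₁ : u₀ ≠ 1 := by
    obtain ⟨u, hu⟩ := exists_unit_ne_one hk hK
    rintro rfl
    exact hu (by simpa using hu₀ u)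
  obtain ⟨a, b, u, hxu⟩ := stab_eq hm hF
    (map_stab_le hm hF hk hK hψ₁inj hg₁ (x := hS hK u₀) (H_smul_inf u₀))
  have hu : u ≠ 1 := by
    rintro rfl
    rw [show hS hF (1 : Fˣ) = 1 from Subtype.ext H_one, mul_one] at hxu
    have hh : orderOf (hS hK u₀) ∣ 4 := by
      rw [← orderOf_injective ψ₁ hψ₁inj, hxu]
      refine orderOf_dvd_of_pow_eq_one ?_
      have h4 := Monoid.pow_exponent_eq_one (⟨tS hF a b, (mem_uGrp hF).2 ⟨a, b, rfl⟩⟩ : uGrp hF)
      rw [exponent_uGrp hF] at h4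
      exact congrArg Subtype.val h4
    have hd : orderOf (hS hK u₀) ∣ Nat.card (hGrp hK) := by
      rw [← Subgroup.orderOf_mk (hS hK u₀) ((mem_hGrp hK).2 ⟨u₀, rfl⟩)]
      exact orderOf_dvd_natCard _
    rw [card_hGrp] at hd
    have hodd : Odd (Fintype.card K - 1) := by
      rw [hK]
      exact Nat.Even.sub_odd Nat.one_le_two_pow (Nat.even_pow.2 ⟨even_two, by omega⟩) odd_one
    have h1 := ((Nat.coprime_two_right.2 (hodd.of_dvd_nat hd)).pow_right 2).eq_one_of_dvd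
      (show orderOf (hS hK u₀) ∣ 2 ^ 2 from hh)
    exact hu₁ (H_inj (congrArg Subtype.val ((orderOf_eq_one_iff.1 h1).trans
      (show (1 : Sz K k) = hS hK 1 from (Subtype.ext H_one).symm))))
  set κ := (u : F) ^ 2 / th m (u : F) with hκ
  have hκ1 : κ + 1 ≠ 0 := fun e => hu (kappa_injective hF (by
    show κ = ((1 : Fˣ) : F) ^ 2 / th m ((1 : Fˣ) : F)
    rw [Units.val_one, one_pow, th_one, div_one]
    linear_combination e - two_zero hF))
  have hth1 : th m (u : F) + 1 ≠ 0 := fun e => hu (Units.ext ((th_eq_one hF).1 (by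
    linear_combination e - two_zero hF)))
  set x₀ := a / (κ + 1)
  set y₀ := (b + th m a * (κ * x₀)) / (th m (u : F) + 1)
  have hfix : (tS hF a b * hS hF u).1 • aff m x₀ y₀ = aff m x₀ y₀ := by
    show (T m a b * H m u) • _ = _
    rw [mul_smul, H_smul_aff hF, T_smul_aff hF, ← hκ]
    have e1 : x₀ * (κ + 1) = a := div_mul_cancel₀ _ hκ1
    have e2 : y₀ * (th m (u : F) + 1) = b + th m a * (κ * x₀) := div_mul_cancel₀ _ hth1
    congr 1
    · linear_combination κ * x₀ * two_zero hF - e1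
    · linear_combination th m (u : F) * y₀ * two_zero hF - e2
  obtain ⟨s, hs, -⟩ := uGrp_regular hF (aff_mem x₀ y₀) zero_mem (aff_ne_inf _ _)
    (by rw [zero_eq_aff (m := m)]; exact aff_ne_inf 0 0)
  have hsB : (s : Sz F m).1 • suzukiPointInfinity F = suzukiPointInfinity F := uGrp_le_stab hF s.2
  have hh0 : (s : Sz F m) * ψ₁ (hS hK u₀) * (s : Sz F m)⁻¹ ∈ hGrp hF := by
    apply mem_hGrp_of_fix hm hF
    · show ((s : Sz F m).1 * (ψ₁ (hS hK u₀)).1 * (s : Sz F m).1⁻¹) • _ = _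
      rw [mul_smul, mul_smul, inv_smul_eq_iff.2 hsB.symm]
      rw [show (ψ₁ (hS hK u₀)).1 • suzukiPointInfinity F = suzukiPointInfinity F from
        map_stab_le hm hF hk hK hψ₁inj hg₁ (x := hS hK u₀) (H_smul_inf u₀), hsB]
    · show ((s : Sz F m).1 * (ψ₁ (hS hK u₀)).1 * (s : Sz F m).1⁻¹) • _ = _
      rw [mul_smul, mul_smul, inv_smul_eq_iff.2 hs.symm, hxu, hfix, hs]
  set g₂ := (s : Sz F m) * g₁ with hg₂
  set ψ₂ := (MulAut.conj g₂).toMonoidHom.comp ψ with hψ₂
  have hψ₂inj : Function.Injective ψ₂ := (MulAut.conj g₂).injective.comp hψ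
  have hψ₂e : ∀ x, ψ₂ x = (s : Sz F m) * ψ₁ x * (s : Sz F m)⁻¹ := fun x => by
    show g₂ * ψ x * g₂⁻¹ = (s : Sz F m) * (g₁ * ψ x * g₁⁻¹) * (s : Sz F m)⁻¹
    rw [hg₂]; group
  have hU₂ : ∀ a b, ψ₂ (tS hK a b) ∈ uGrp hF := fun a b => by
    rw [hψ₂e]
    exact mul_mem (mul_mem s.2 (hg₁ a b)) (inv_mem s.2)
  have hH₂ : ∀ u, ψ₂ (hS hK u) ∈ hGrp hF := by
    intro u
    obtain ⟨n, rfl⟩ := Subgroup.mem_zpowers_iff.1 (hu₀ u)
    have : hS hK (u₀ ^ n) = hS hK u₀ ^ n := map_zpow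
      ({ toFun := hS hK, map_one' := Subtype.ext H_one, map_mul' := fun u v => Subtype.ext (H_mul u v) } :
        Kˣ →* Sz K k) u₀ n
    rw [this, map_zpow, hψ₂e]
    exact Subgroup.zpow_mem _ hh0 n
  -- step 3: the Weyl element
  set w := ψ₂ (wS hK) with hw
  obtain ⟨v₀, hv₀⟩ := (mem_hGrp hF).1 (hH₂ u₀)
  have hv₁ : hS hF v₀ ≠ 1 := by
    rw [hv₀]
    intro e
    have e' := hψ₂inj (e.trans ψ₂.map_one.symm)
    exact hu₁ (H_inj ((congrArg Subtype.val e').trans H_one.symm))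
  have hinvK : wS hK * hS hK u₀ * (wS hK)⁻¹ = hS hK u₀⁻¹ := by
    apply Subtype.ext
    show W * H k u₀ * W⁻¹ = H k u₀⁻¹
    rw [W_conj_H, mul_inv_cancel_right]
  have hconj : w * hS hF v₀ * w⁻¹ = ψ₂ (hS hK u₀⁻¹) := by
    rw [hv₀, hw, ← map_inv, ← map_mul, ← map_mul, hinvK]
  obtain ⟨n1, n2⟩ := normalizer_hGrp hm hF
    ⟨hS hF v₀, ⟨v₀, rfl⟩, hv₁, by rw [hconj]; exact hH₂ _⟩
  have hne : (suzukiPointZero F) ≠ suzukiPointInfinity F := by
    rw [zero_eq_aff (m := m)]; exact aff_ne_inf 0 0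
  have hswap : w.1 • suzukiPointInfinity F = suzukiPointZero F ∧
      w.1 • suzukiPointZero F = suzukiPointInfinity F := by
    rcases n1 with n1 | n1
    · exfalso
      rcases n2 with n2 | n2
      · exact hne (MulAction.injective w.1 (n2.trans n1.symm))
      · obtain ⟨v, hv⟩ := (mem_hGrp hF).1 (mem_hGrp_of_fix hm hF n1 n2)
        have hcomm : w * hS hF v₀ * w⁻¹ = hS hF v₀ := by
          have : hS hF v * hS hF v₀ = hS hF v₀ * hS hF v := by
            apply Subtype.ext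
            show H m v * H m v₀ = H m v₀ * H m v
            rw [← H_mul, ← H_mul, mul_comm]
          rw [← hv, this, mul_inv_cancel_right]
        rw [hconj, hv₀] at hcomm
        have e := H_inj (congrArg Subtype.val (hψ₂inj hcomm))
        exact hu₁ (Units.ext (sq_inj hK (by
          rw [Units.val_one, one_pow, sq, ← Units.val_mul]
          nth_rw 1 [← e]
          simp)))
    · rcases n2 with n2 | n2
      · exact ⟨n1, n2⟩
      · exact absurd (MulAction.injective w.1 (n2.trans n1.symm)) hne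
  obtain ⟨v, hv⟩ := (mem_hGrp hF).1 (mem_hGrp_of_fix hm hF (g := wS hF * w)
    (by show (W * w.1) • _ = _; rw [mul_smul, hswap.1, W_smul_zero])
    (by show (W * w.1) • _ = _; rw [mul_smul, hswap.2, W_smul_inf]))
  obtain ⟨r, hr⟩ := exists_sqrt hF v
  refine ⟨hS hF r * g₂, fun a b => ?_, fun u => ?_, ?_⟩
  · have e : hS hF r * g₂ * ψ (tS hK a b) * (hS hF r * g₂)⁻¹ =
        hS hF r * ψ₂ (tS hK a b) * (hS hF r)⁻¹ := by
      show _ = hS hF r * (g₂ * ψ (tS hK a b) * g₂⁻¹) * (hS hF r)⁻¹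
      group
    rw [e]
    obtain ⟨c, d, hcd⟩ := (mem_uGrp hF).1 (hU₂ a b)
    rw [← hcd, hS_conj_tS]
    exact (mem_uGrp hF).2 ⟨_, _, rfl⟩
  · have e : hS hF r * g₂ * ψ (hS hK u) * (hS hF r * g₂)⁻¹ =
        hS hF r * ψ₂ (hS hK u) * (hS hF r)⁻¹ := by
      show _ = hS hF r * (g₂ * ψ (hS hK u) * g₂⁻¹) * (hS hF r)⁻¹
      group
    rw [e]
    exact mul_mem (mul_mem ⟨r, rfl⟩ (hH₂ u)) (inv_mem ⟨r, rfl⟩)
  · have e : hS hF r * g₂ * ψ (wS hK) * (hS hF r * g₂)⁻¹ = hS hF r * w * (hS hF r)⁻¹ := by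
      show _ = hS hF r * (g₂ * ψ (wS hK) * g₂⁻¹) * (hS hF r)⁻¹
      group
    have hw' : w = wS hF * hS hF v := by
      rw [hv, ← mul_assoc, show wS hF * wS hF = 1 from Subtype.ext W_mul_W, one_mul]
    rw [e, hw']
    apply Subtype.ext
    show H m r * (W * H m v) * (H m r)⁻¹ = W
    rw [H_inv, ← mul_assoc, show H m r * W = W * H m r⁻¹ by rw [W_conj_H, inv_inv],
      mul_assoc, mul_assoc, ← H_mul, ← H_mul, ← hr, show r⁻¹ * (r * r * r⁻¹) = 1 by group,
      H_one, mul_one]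

/-- A normalised copy is the standard one. -/
theorem range_eq_of_normalised (hm : 1 ≤ m) (hF : Fintype.card F = 2 ^ (2 * m + 1)) (hk : 1 ≤ k)
    (hK : Fintype.card K = 2 ^ (2 * k + 1)) (hdiv : 2 * k + 1 ∣ 2 * m + 1) (ι : K →+* F)
    {φ : Sz K k →* Sz F m} (hφT : ∀ a b, φ (tS hK a b) = tS hF (ι a) (ι b))
    (hφH : ∀ u, φ (hS hK u) = hS hF (Units.map ι.toMonoidHom u)) (hφW : φ (wS hK) = wS hF)
    {ψ : Sz K k →* Sz F m} (hψ : Function.Injective ψ)
    (hU : ∀ a b, ψ (tS hK a b) ∈ uGrp hF) (hH : ∀ u, ψ (hS hK u) ∈ hGrp hF)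
    (hW : ψ (wS hK) = wS hF) : ψ.range = φ.range := by
  -- the torus parameters lie in the subfield
  have hη : ∀ u : Kˣ, ∃ u' : Kˣ, ψ (hS hK u) = hS hF (Units.map ι.toMonoidHom u') := by
    classical
    intro u
    obtain ⟨v, hv⟩ := (mem_hGrp hF).1 (hH u)
    suffices hmem : v ∈ (Units.map ι.toMonoidHom).range by
      obtain ⟨u', rfl⟩ := hmem
      exact ⟨u', hv.symm⟩
    have hinj : Function.Injective (Units.map ι.toMonoidHom) := Units.map_injective ι.injective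
    let Hm : Fˣ →* Sz F m :=
      { toFun := hS hF, map_one' := Subtype.ext H_one, map_mul' := fun u v => Subtype.ext (H_mul u v) }
    let Hk : Kˣ →* Sz K k :=
      { toFun := hS hK, map_one' := Subtype.ext H_one, map_mul' := fun u v => Subtype.ext (H_mul u v) }
    have hv1 : v ^ Nat.card Kˣ = 1 := by
      have e : Hm v = ψ (Hk u) := hv
      have e' : Hm (v ^ Nat.card Kˣ) = Hm 1 := by
        rw [map_pow, e, ← map_pow, ← map_pow, pow_card_eq_one', map_one, map_one, map_one]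
      exact H_inj (congrArg Subtype.val e')
    have hsub : ((Units.map ι.toMonoidHom).range : Set Fˣ) ⊆ {x : Fˣ | x ^ Nat.card Kˣ = 1} := by
      rintro _ ⟨y, rfl⟩
      show (Units.map ι.toMonoidHom y) ^ _ = 1
      rw [← map_pow, pow_card_eq_one', map_one]
    have hle : ({x : Fˣ | x ^ Nat.card Kˣ = 1} : Set Fˣ).ncard ≤ Nat.card Kˣ := by
      rw [Set.ncard_eq_toFinset_card']
      refine le_trans (le_of_eq ?_) (IsCyclic.card_pow_eq_one_le (α := Fˣ) Nat.card_pos)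
      congr 1
      ext x
      simp
    have heq := Set.eq_of_subset_of_ncard_le hsub (by
      rw [← Nat.card_coe_set_eq ((Units.map ι.toMonoidHom).range : Set Fˣ),
        show Nat.card ↥((Units.map ι.toMonoidHom).range : Set Fˣ) = Nat.card Kˣ from
          Nat.card_congr (MonoidHom.ofInjective hinj).toEquiv.symm]
      exact hle) (Set.toFinite _)
    have hmem : v ∈ ({x : Fˣ | x ^ Nat.card Kˣ = 1} : Set Fˣ) := hv1
    rw [← heq] at hmem
    exact hmem
  -- images of the central root group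
  have hβ : ∀ b, ∃ b', ψ (tS hK 0 b) = tS hF 0 b' := by
    intro b
    obtain ⟨a, c, h⟩ := (mem_uGrp hF).1 (hU 0 b)
    have h2 : tS hF a c * tS hF a c = 1 := by
      rw [h, ← map_mul, tS_sq, mul_zero, show tS hK (0 : K) 0 = 1 from Subtype.ext T_zero, map_one]
    rw [tS_sq] at h2
    obtain ⟨-, h0⟩ := T_inj ((congrArg Subtype.val h2).trans (T_zero (m := m)).symm)
    obtain rfl : a = 0 := (mul_eq_zero.1 h0).elim (fun h => th_eq_zero.1 h) id
    exact ⟨c, h.symm⟩
  choose β hβ using hβ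
  obtain ⟨e, γ, he⟩ := (mem_uGrp hF).1 (hU 1 0)
  set c := β 1 with hc
  have hc0 : c ≠ 0 := fun e' => by
    have h := hβ 1
    rw [← hc, e', show tS hF (0 : F) 0 = 1 from Subtype.ext T_zero] at h
    exact one_ne_zero (T_inj ((congrArg Subtype.val (hψ (h.trans ψ.map_one.symm))).trans
      (T_zero (m := k)).symm)).2
  have hsq : th m e * e = c := by
    have h := congrArg ψ (tS_sq hK (1 : K) 0)
    rw [map_mul, ← he, tS_sq, th_one, mul_one, hβ] at h
    exact (T_inj (congrArg Subtype.val h)).2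
  have hgK : (tS hK 1 0 * wS hK)⁻¹ * (wS hK * tS hK 0 1 * wS hK) ∈
      MulAction.stabilizer (Sz K k) (suzukiPointInfinity K) := by
    show ((tS hK 1 0 * wS hK).1⁻¹ * (wS hK * tS hK 0 1 * wS hK).1) • suzukiPointInfinity K =
      suzukiPointInfinity K
    rw [mul_smul, wTw_smul_inf hK one_ne_zero, inv_smul_eq_iff]
    show _ = (T k 1 0 * W) • suzukiPointInfinity K
    rw [mul_smul, W_smul_inf, zero_eq_aff (m := k), T_smul_aff hK]
    simp
  have hgF := map_stab_le hm hF hk hK hψ hU hgK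
  rw [map_mul, map_inv, map_mul, map_mul, map_mul, hW, ← he, hβ, ← hc] at hgF
  have he' : c / th m c = e := by
    have h1 : (wS hF * tS hF 0 c * wS hF).1 • suzukiPointInfinity F =
        (tS hF e γ * wS hF).1 • suzukiPointInfinity F := by
      have h2 : ((tS hF e γ * wS hF).1⁻¹ * (wS hF * tS hF 0 c * wS hF).1) • suzukiPointInfinity F =
          suzukiPointInfinity F := hgF
      rw [mul_smul, inv_smul_eq_iff] at h2
      exact h2
    rw [wTw_smul_inf hF hc0] at h1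
    have h3 : (tS hF e γ * wS hF).1 • suzukiPointInfinity F = aff m e γ := by
      show (T m e γ * W) • _ = _
      rw [mul_smul, W_smul_inf, zero_eq_aff (m := m), T_smul_aff hF]
      simp
    exact (aff_inj (h1.trans h3)).1
  have hc1 : c = 1 := by
    apply sq_inj hF
    have hth : th m c ≠ 0 := fun e' => hc0 (th_eq_zero.1 e')
    rw [← he', th_div, th_th hF] at hsq
    field_simp at hsq
    rw [one_pow]
    linear_combination -hsq
  -- the two generating sets have the same images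
  have hβι : ∀ b, ∃ b' : K, β b = ι b' := by
    intro b
    rcases eq_or_ne b 0 with rfl | hb
    · refine ⟨0, ?_⟩
      have h := hβ 0
      rw [show tS hK (0 : K) 0 = 1 from Subtype.ext T_zero, map_one] at h
      rw [map_zero]
      exact (T_inj ((congrArg Subtype.val h.symm).trans (T_zero (m := m)).symm)).2
    · obtain ⟨y, hy⟩ := exists_th_eq hK b
      have hy0 : y ≠ 0 := fun e' => hb (by rw [← hy, e', th_zero])
      set u := Units.mk0 y hy0
      obtain ⟨u', hu'⟩ := hη u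
      refine ⟨th k (u' : K), ?_⟩
      have h := congrArg ψ (hS_conj_tS hK u 0 1)
      rw [map_mul, map_mul, map_inv, hu', hβ, ← hc, hc1, hS_conj_tS, mul_zero, mul_zero, mul_one,
        mul_one, show th k (u : K) = b from hy, hβ] at h
      rw [← (T_inj (congrArg Subtype.val h)).2]
      exact th_map hK hdiv ι (u' : K)
  have key : ∀ S : Subgroup (Sz F m), φ.range = S → ψ.range ≤ S := by
    rintro S rfl
    rw [MonoidHom.range_eq_map, ← closure_gens hk hK, MonoidHom.map_closure, Subgroup.closure_le]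
    rintro _ ⟨z, (⟨b, rfl⟩ | ⟨u, rfl⟩) | hz, rfl⟩
    · obtain ⟨b', hb'⟩ := hβι b
      exact ⟨tS hK 0 b', by rw [hφT, map_zero, ← hb', ← hβ]⟩
    · obtain ⟨u', hu'⟩ := hη u
      exact ⟨hS hK u', by rw [hφH, ← hu']⟩
    · rw [Set.mem_singleton_iff] at hz
      exact ⟨wS hK, by rw [hz, hφW, hW]⟩
  refine Subgroup.eq_of_le_of_card_ge (key _ rfl) ?_
  rw [Nat.card_congr (MonoidHom.ofInjective hψ).toEquiv.symm]
  exact Nat.card_le_card_of_surjective φ.rangeRestrict φ.rangeRestrict_surjective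

end Embedding

end Cfsg.Agent.SZ
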