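/-
Suzuki groups, part 13: the partition induced on a subgroup.
-/
import Cfsg.Agent.Lib.Sz.Fixity
import Cfsg.Agent.S0331

set_option autoImplicit false

namespace Cfsg.Agent.SZ

open Cfsg Matrix
open scoped Pointwise

variable {F : Type*} [Field F] [Fintype F] {m : ℕ}

theorem not_three_dvd_card (hm : 1 ≤ m) (hF : Fintype.card F = 2 ^ (2 * m + 1)) :
    ¬ 3 ∣ Nat.card (Sz F m) := by
  have h : 2 ^ (2 * m + 1) % 3 = 2 := by
    rw [pow_succ, pow_mul, Nat.mul_mod, Nat.pow_mod]
    norm_num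
  rw [card_Sz hm hF, hF]
  set q := 2 ^ (2 * m + 1) with hq
  have h1 : (q - 1) % 3 = 1 := by omega
  have h2 : q ^ 2 % 3 = 1 := by rw [sq, Nat.mul_mod, h]
  have h3 : (q ^ 2 + 1) % 3 = 2 := by omega
  intro hd
  have h4 : q ^ 2 * (q ^ 2 + 1) * (q - 1) % 3 = 2 := by
    rw [Nat.mul_mod, Nat.mul_mod (q ^ 2), h1, h2, h3]
  omega

/-- The three kinds of maximal tori. -/
structure IsTorusLike (X : Subgroup (Sz F m)) : Prop where
  cyclic : IsCyclic X
  card_mem : Nat.card X ∈ ({2 ^ (2 * m + 1) - 1, 2 ^ (2 * m + 1) + 2 ^ (m + 1) + 1,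
    2 ^ (2 * m + 1) - 2 ^ (m + 1) + 1} : Set ℕ)
  odd : Odd (Nat.card X)
  cent : ∀ u ∈ X, u ≠ 1 → Subgroup.centralizer {u} = X
  normalizer : ∃ ν, (ν = 2 ∨ ν = 4) ∧
    Nat.card (Subgroup.normalizer (X : Set (Sz F m))) = ν * Nat.card X

theorem IsTorusLike.map {X : Subgroup (Sz F m)} (hX : IsTorusLike X) (x : Sz F m) :
    IsTorusLike (X.map (MulAut.conj x).toMonoidHom) := by
  have hc : Nat.card (X.map (MulAut.conj x).toMonoidHom) = Nat.card X :=
    Subgroup.card_map_of_injective (MulEquiv.injective _)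
  refine ⟨?_, hc ▸ hX.card_mem, hc ▸ hX.odd, ?_, ?_⟩
  · haveI := hX.cyclic
    exact isCyclic_of_surjective (X.equivMapOfInjective (MulAut.conj x).toMonoidHom
      (MulEquiv.injective _)).toMonoidHom (MulEquiv.surjective _)
  · rintro _ ⟨a, ha, rfl⟩ ha1
    show Subgroup.centralizer {x * a * x⁻¹} = _
    rw [centralizer_conj, hX.cent a ha (fun e => ha1 (by rw [e, map_one]))]
  · obtain ⟨ν, hν, hN⟩ := hX.normalizer
    refine ⟨ν, hν, ?_⟩
    rw [hc, ← hN, ← Subgroup.map_equiv_normalizer_eq,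
      Subgroup.card_map_of_injective (MulEquiv.injective _)]

theorem isTorusLike_hGrp (hm : 1 ≤ m) (hF : Fintype.card F = 2 ^ (2 * m + 1)) :
    IsTorusLike (hGrp (m := m) hF) := by
  refine ⟨isCyclic_hGrp hF, Or.inl (by rw [card_hGrp, hF]), ?_,
    fun u hu hu1 => centralizer_hS hm hF hu hu1, 2, Or.inl rfl, ?_⟩
  · rw [card_hGrp, hF]
    exact Nat.Even.sub_odd Nat.one_le_two_pow (Nat.even_pow.2 ⟨even_two, by omega⟩) odd_one
  · obtain ⟨-, -, -, -, hN, -⟩ := partition hm hF
    rw [hN, card_hGrp]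

theorem exists_torusLike (hm : 1 ≤ m) (hF : Fintype.card F = 2 ^ (2 * m + 1)) {g : Sz F m}
    (hg : g ≠ 1) (hgU : g ∉ conjSet (uGrp hF)) : ∃ X, IsTorusLike X ∧ g ∈ X := by
  obtain ⟨Up, Um, hp, hn, -, hcov⟩ := partition hm hF
  have he : ∀ k, Even (2 ^ (k + 1)) := fun k => Nat.even_pow.2 ⟨even_two, by omega⟩
  have key : ∀ A, IsTorusLike A → g ∈ conjSet A → ∃ X, IsTorusLike X ∧ g ∈ X := by
    intro A hA h
    obtain ⟨-, x, hx⟩ := mem_conjSet_iff.1 h
    exact ⟨_, hA.map x, hx⟩
  rcases hcov g hg with h | h | h | h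
  · exact absurd h hgU
  · exact key _ (isTorusLike_hGrp hm hF) h
  · refine key _ ⟨hp.cyclic, Or.inr (Or.inl hp.card), ?_, hp.cent, 4, Or.inr rfl,
      by rw [hp.normalizer, hp.card]⟩ h
    rw [hp.card]
    exact ((he (2 * m)).add (he m)).add_one
  · refine key _ ⟨hn.cyclic, Or.inr (Or.inr hn.card), ?_, hn.cent, 4, Or.inr rfl,
      by rw [hn.normalizer, hn.card]⟩ h
    rw [hn.card]
    refine Even.add_one ?_
    rw [Nat.even_sub (Nat.pow_le_pow_right (by norm_num) (by omega))]
    exact iff_of_true (he (2 * m)) (he m)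

theorem orderOf_dvd_four (hF : Fintype.card F = 2 ^ (2 * m + 1)) {g : Sz F m}
    (h : g ∈ conjSet (uGrp hF)) : orderOf g ∣ 4 := by
  obtain ⟨-, x, hx⟩ := h
  refine orderOf_dvd_of_pow_eq_one ?_
  have h4 := Monoid.pow_exponent_eq_one (⟨_, hx⟩ : uGrp hF)
  rw [exponent_uGrp hF] at h4
  have h4' : (x⁻¹ * g * x) ^ 4 = 1 := congrArg Subtype.val h4
  rw [show x⁻¹ * g * x = x⁻¹ * g * x⁻¹⁻¹ by rw [inv_inv], conj_pow] at h4'
  exact conj_eq_one_iff.1 h4'

section Cells

variable {hF : Fintype.card F = 2 ^ (2 * m + 1)} {M : Subgroup (Sz F m)}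

/-- The elements of the subgroup lying in tori. -/
def Tor (hF : Fintype.card F = 2 ^ (2 * m + 1)) (M : Subgroup (Sz F m)) : Set M :=
  {x | x ≠ 1 ∧ x.1 ∉ conjSet (uGrp hF)}

/-- The data attached to the torus of an element of `Tor`. -/
structure IsCell (x : M) (X : Subgroup (Sz F m)) : Prop where
  torus : IsTorusLike X
  mem : x.1 ∈ X
  eq : Subgroup.centralizer ({x} : Set M) = X.subgroupOf M
  cent : ∀ u ∈ Subgroup.centralizer ({x} : Set M), u ≠ 1 →
    Subgroup.centralizer {u} = Subgroup.centralizer ({x} : Set M)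
  odd : Odd (Nat.card (Subgroup.centralizer ({x} : Set M)))
  five_le : 5 ≤ Nat.card (Subgroup.centralizer ({x} : Set M))
  subset : conjSet (Subgroup.centralizer ({x} : Set M)) ⊆ Tor hF M

theorem exists_isCell (hm : 1 ≤ m) {x : M} (hx : x ∈ Tor hF M) :
    ∃ X, IsCell (hF := hF) x X := by
  have hx1 : x.1 ≠ 1 := fun e => hx.1 (Subtype.ext e)
  obtain ⟨X, hX, hxX⟩ := exists_torusLike hm hF hx1 hx.2
  have heq : ∀ u : M, u.1 ∈ X → u ≠ 1 → Subgroup.centralizer ({u} : Set M) = X.subgroupOf M := by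
    intro u hu hu1
    ext w
    rw [Subgroup.mem_centralizer_singleton_iff, Subgroup.mem_subgroupOf,
      ← hX.cent u.1 hu (fun e => hu1 (Subtype.ext e)), Subgroup.mem_centralizer_singleton_iff]
    exact Subtype.ext_iff
  have he := heq x hxX hx.1
  have hdvd : Nat.card (Subgroup.centralizer ({x} : Set M)) ∣ Nat.card X := by
    rw [he, ← Subgroup.inf_subgroupOf_right,
      Nat.card_congr (Subgroup.subgroupOfEquivOfLe inf_le_right).toEquiv]
    exact Subgroup.card_dvd_of_le inf_le_left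
  have hodd := hX.odd.of_dvd_nat hdvd
  refine ⟨X, ⟨hX, hxX, he, fun u hu hu1 => (heq u (by rw [he] at hu; exact hu) hu1).trans he.symm, hodd, ?_, ?_⟩⟩
  · have hmem : x ∈ Subgroup.centralizer ({x} : Set M) := Subgroup.mem_centralizer_singleton_iff.2 rfl
    have h1 : 1 < Nat.card (Subgroup.centralizer ({x} : Set M)) := by
      refine Finite.one_lt_card_iff_nontrivial.2 ⟨⟨⟨x, hmem⟩, 1, fun e => hx.1 ?_⟩⟩
      exact congrArg Subtype.val e
    have h3 : Nat.card (Subgroup.centralizer ({x} : Set M)) ≠ 3 := fun e =>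
      not_three_dvd_card hm hF (e ▸ ((Subgroup.card_subgroup_dvd_card _).trans
        M.card_subgroup_dvd_card))
    obtain ⟨j, hj⟩ := hodd
    omega
  · rintro z ⟨hz, y, hy⟩
    refine ⟨hz, fun hU => ?_⟩
    have h4 : orderOf z ∣ 4 := by
      rw [← Subgroup.orderOf_coe]; exact orderOf_dvd_four hF hU
    have hd := orderOf_dvd_of_mem_conj (A := Subgroup.centralizer ({x} : Set M))
      (g := z) (x := y) (Subgroup.mem_map_equiv.2 (by simpa using hy))
    exact hz (orderOf_eq_one_iff.1 (((Nat.coprime_two_right.2 (hodd.of_dvd_nat hd)).pow_right 2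
      ).eq_one_of_dvd h4))

theorem IsCell.normalizer_eq {x : M} {X : Subgroup (Sz F m)} (h : IsCell (hF := hF) x X)
    (hx : x ≠ 1) :
    Subgroup.normalizer (Subgroup.centralizer ({x} : Set M) : Set M) =
      (Subgroup.normalizer (X : Set (Sz F m))).subgroupOf M := by
  have hmem : x ∈ Subgroup.centralizer ({x} : Set M) := Subgroup.mem_centralizer_singleton_iff.2 rfl
  ext n
  rw [Subgroup.mem_subgroupOf, h.eq]
  constructor
  · intro hn
    refine isTI_of_centralizer h.torus.cent n.1 x.1 h.mem (fun e => hx (Subtype.ext e)) ?_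
    exact (Subgroup.mem_normalizer_iff.1 hn x).1 (h.eq ▸ hmem)
  · intro hn
    rw [Subgroup.mem_normalizer_iff]
    intro u
    exact Subgroup.mem_normalizer_iff.1 hn u.1

/-- The automiser of a cell embeds in the automiser of the torus. -/
theorem IsCell.exists_index {x : M} {X : Subgroup (Sz F m)} (h : IsCell (hF := hF) x X)
    (hx : x ≠ 1) {ν : ℕ}
    (hν : Nat.card (Subgroup.normalizer (X : Set (Sz F m))) = ν * Nat.card X) :
    ∃ n, n ∣ ν ∧ Nat.card (Subgroup.normalizer (Subgroup.centralizer ({x} : Set M) : Set M)) =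
      n * Nat.card (Subgroup.centralizer ({x} : Set M)) := by
  rw [h.normalizer_eq hx, h.eq]
  set K := Subgroup.normalizer (X : Set (Sz F m)) with hK
  haveI hn : (X.subgroupOf K).Normal := Subgroup.normal_in_normalizer
  let incl : (K.subgroupOf M) →* K := (M.subtype.comp (K.subgroupOf M).subtype).codRestrict K fun u => u.2
  let f := (QuotientGroup.mk' (X.subgroupOf K)).comp incl
  have hker : f.ker = (X.subgroupOf M).subgroupOf (K.subgroupOf M) := by
    ext u
    rw [MonoidHom.mem_ker, MonoidHom.comp_apply, QuotientGroup.mk'_apply, QuotientGroup.eq_one_iff]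
    exact Iff.rfl
  have hle : X.subgroupOf M ≤ K.subgroupOf M := fun u hu => Subgroup.le_normalizer hu
  have hquot : Nat.card (K ⧸ X.subgroupOf K) = ν := by
    refine Nat.eq_of_mul_eq_mul_right (Nat.card_pos (α := X)) ?_
    rw [← hν, Subgroup.card_eq_card_quotient_mul_card_subgroup (X.subgroupOf K),
      Nat.card_congr (Subgroup.subgroupOfEquivOfLe (Subgroup.le_normalizer (H := X))).toEquiv]
  refine ⟨Nat.card f.range, hquot ▸ f.range.card_subgroup_dvd_card, ?_⟩
  rw [Subgroup.card_eq_card_quotient_mul_card_subgroup f.ker,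
    Nat.card_congr (QuotientGroup.quotientKerEquivRange f).toEquiv, hker,
    Nat.card_congr (Subgroup.subgroupOfEquivOfLe hle).toEquiv]

theorem IsCell.ncard {x : M} {X : Subgroup (Sz F m)} (h : IsCell (hF := hF) x X) (hx : x ≠ 1) :
    ∃ n, (n = 1 ∨ n = 2 ∨ n = 4) ∧
      Nat.card (Subgroup.normalizer (Subgroup.centralizer ({x} : Set M) : Set M)) =
        n * Nat.card (Subgroup.centralizer ({x} : Set M)) ∧
      (conjSet (Subgroup.centralizer ({x} : Set M))).ncard *
          (n * Nat.card (Subgroup.centralizer ({x} : Set M))) =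
        Nat.card M * (Nat.card (Subgroup.centralizer ({x} : Set M)) - 1) ∧
      4 * Nat.card M ≤ 5 * n * (conjSet (Subgroup.centralizer ({x} : Set M))).ncard := by
  obtain ⟨ν, hν, hcard⟩ := h.torus.normalizer
  obtain ⟨n, hn, hN⟩ := h.exists_index hx hcard
  have hn4 : n = 1 ∨ n = 2 ∨ n = 4 := by
    have hd : n ∣ 2 ^ 2 := by
      rcases hν with rfl | rfl
      · exact hn.trans (by norm_num)
      · exact hn.trans (by norm_num)
    obtain ⟨i, hi, rfl⟩ := (Nat.dvd_prime_pow Nat.prime_two).1 hd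
    interval_cases i <;> norm_num
  set a := Nat.card (Subgroup.centralizer ({x} : Set M))
  have hw : (conjSet (Subgroup.centralizer ({x} : Set M))).ncard * (n * a) =
      Nat.card M * (a - 1) := by
    rw [ncard_conjSet (isTI_of_centralizer h.cent), ← hN,
      ← Subgroup.card_mul_index (Subgroup.normalizer (Subgroup.centralizer ({x} : Set M) : Set M))]
    ring
  refine ⟨n, hn4, hN, hw, ?_⟩
  have h5 := h.five_le
  refine Nat.le_of_mul_le_mul_right ?_ (show 0 < a by omega)
  have h6 : Nat.card M * (4 * a) ≤ Nat.card M * (5 * (a - 1)) := Nat.mul_le_mul_left _ (by omega)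
  calc 4 * Nat.card M * a = Nat.card M * (4 * a) := by ring
    _ ≤ Nat.card M * (5 * (a - 1)) := h6
    _ = 5 * (Nat.card M * (a - 1)) := by ring
    _ = _ := by rw [← hw]; ring

/-- Two cells are conjugate or disjoint. -/
theorem IsCell.disjoint {x y : M} {X Y : Subgroup (Sz F m)} (hx : IsCell (hF := hF) x X)
    (hy : IsCell (hF := hF) y Y) (hy1 : y ≠ 1)
    (hne : y ∉ conjSet (Subgroup.centralizer ({x} : Set M))) :
    Disjoint (conjSet (Subgroup.centralizer ({x} : Set M)))
      (conjSet (Subgroup.centralizer ({y} : Set M))) := by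
  rw [Set.disjoint_left]
  rintro c ⟨hc1, u, hu⟩ ⟨-, v, hv⟩
  have hne' : ∀ t : M, t⁻¹ * c * t ≠ 1 := fun t e => hc1 (by
    calc c = t * (t⁻¹ * c * t) * t⁻¹ := by group
      _ = 1 := by rw [e]; group)
  have e1 := centralizer_conj u (u⁻¹ * c * u)
  rw [hx.cent _ hu (hne' u), show u * (u⁻¹ * c * u) * u⁻¹ = c by group] at e1
  have e2 := centralizer_conj v (v⁻¹ * c * v)
  rw [hy.cent _ hv (hne' v), show v * (v⁻¹ * c * v) * v⁻¹ = c by group, e1] at e2
  have hmem : v * y * v⁻¹ ∈ (Subgroup.centralizer ({y} : Set M)).map (MulAut.conj v).toMonoidHom :=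
    ⟨y, Subgroup.mem_centralizer_singleton_iff.2 rfl, rfl⟩
  rw [← e2] at hmem
  refine hne (mem_conjSet_iff.2 ⟨hy1, v⁻¹ * u, ?_⟩)
  obtain ⟨t, ht, hte⟩ := hmem
  refine ⟨t, ht, ?_⟩
  change u * t * u⁻¹ = v * y * v⁻¹ at hte
  show (v⁻¹ * u) * t * (v⁻¹ * u)⁻¹ = y
  calc _ = v⁻¹ * (u * t * u⁻¹) * v := by group
    _ = y := by rw [hte]; group

/-- Disjoint cells have coprime orders. -/
theorem IsCell.coprime (hm : 1 ≤ m) {x y : M} {X Y : Subgroup (Sz F m)}
    (hx : IsCell (hF := hF) x X) (hy : IsCell (hF := hF) y Y)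
    (hdis : Disjoint (conjSet (Subgroup.centralizer ({x} : Set M)))
      (conjSet (Subgroup.centralizer ({y} : Set M)))) :
    (Nat.card (Subgroup.centralizer ({x} : Set M))).Coprime
      (Nat.card (Subgroup.centralizer ({y} : Set M))) := by
  refine Nat.coprime_of_dvd fun p hp h1 h2 => ?_
  haveI : Fact p.Prime := ⟨hp⟩
  have hp2 : p ≠ 2 := by
    rintro rfl
    exact Nat.not_even_iff_odd.2 hx.odd (even_iff_two_dvd.2 h1)
  obtain ⟨⟨u, hu⟩, hu'⟩ := exists_prime_orderOf_dvd_card' p h1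
  obtain ⟨⟨v, hv⟩, hv'⟩ := exists_prime_orderOf_dvd_card' p h2
  rw [Subgroup.orderOf_mk] at hu' hv'
  have hu1 : u ≠ 1 := fun e => by rw [e, orderOf_one] at hu'; exact hp.ne_one hu'.symm
  have hv1 : v ≠ 1 := fun e => by rw [e, orderOf_one] at hv'; exact hp.ne_one hv'.symm
  obtain ⟨P, hP⟩ := (IsPGroup.of_card (p := p) (n := 1) (G := Subgroup.zpowers u)
    (by rw [Nat.card_zpowers, hu', pow_one])).exists_le_sylow
  obtain ⟨Q, hQ⟩ := (IsPGroup.of_card (p := p) (n := 1) (G := Subgroup.zpowers v)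
    (by rw [Nat.card_zpowers, hv', pow_one])).exists_le_sylow
  obtain ⟨g, hg⟩ := MulAction.exists_smul_eq M Q P
  have hvP : g * v * g⁻¹ ∈ P := by
    rw [← hg]
    exact Subgroup.mem_map.2 ⟨v, hQ (Subgroup.mem_zpowers v), rfl⟩
  obtain ⟨R, hR⟩ := (P.isPGroup'.map M.subtype).exists_le_sylow
  haveI := S0331.result hm hF hp2 R
  letI : CommGroup R := IsCyclic.commGroup
  have h0 := congrArg (fun z : R => (z : Sz F m))
    (mul_comm (⟨u.1, hR ⟨u, hP (Subgroup.mem_zpowers u), rfl⟩⟩ : R)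
      ⟨(g * v * g⁻¹).1, hR ⟨_, hvP, rfl⟩⟩)
  have hcomm : u * (g * v * g⁻¹) = g * v * g⁻¹ * u := Subtype.ext h0
  have hmem : g * v * g⁻¹ ∈ Subgroup.centralizer ({x} : Set M) := by
    rw [← hx.cent u hu hu1, Subgroup.mem_centralizer_singleton_iff]
    exact hcomm.symm
  exact Set.disjoint_left.1 hdis
    (show v ∈ conjSet (Subgroup.centralizer ({x} : Set M)) from
      ⟨hv1, g⁻¹, by rw [inv_inv]; exact hmem⟩)
    (show v ∈ conjSet (Subgroup.centralizer ({y} : Set M)) from
      ⟨hv1, 1, by simpa using hv⟩)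

/-- With an even automiser, exactly `|T|` involutions invert a given element of a cell. -/
theorem IsCell.ncard_inverting {x : M} {X : Subgroup (Sz F m)} (h : IsCell (hF := hF) x X)
    {n : ℕ} (hn : Even n)
    (hN : Nat.card (Subgroup.normalizer (Subgroup.centralizer ({x} : Set M) : Set M)) =
      n * Nat.card (Subgroup.centralizer ({x} : Set M)))
    {z : M} (hz : z ∈ conjSet (Subgroup.centralizer ({x} : Set M))) :
    {u : M | u ≠ 1 ∧ u * u = 1 ∧ u * z * u⁻¹ = z⁻¹}.ncard =
      Nat.card (Subgroup.centralizer ({x} : Set M)) := by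
  set T := Subgroup.centralizer ({x} : Set M) with hT
  obtain ⟨hz1, g, hg⟩ := hz
  set t := g⁻¹ * z * g with ht
  have ht1 : t ≠ 1 := fun e => hz1 (by
    calc z = g * t * g⁻¹ := by rw [ht]; group
      _ = 1 := by rw [e]; group)
  obtain ⟨y, hyN, hy1, hy2⟩ := exists_involution_of_even (Subgroup.normalizer (T : Set M))
    (hN ▸ hn.mul_right _)
  have hyT : y ∉ T := by
    intro hy
    have h1 : orderOf y = 2 := orderOf_eq_prime (by rw [sq, hy2]) hy1
    have h2 : orderOf y ∣ Nat.card T := by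
      rw [← Subgroup.orderOf_mk y hy]; exact orderOf_dvd_natCard _
    rw [h1] at h2
    exact Nat.not_even_iff_odd.2 h.odd (even_iff_two_dvd.2 h2)
  have hyinv : y⁻¹ = y := inv_eq_of_mul_eq_one_right hy2
  have hcomm : ∀ a ∈ T, ∀ b ∈ T, a * b = b * a := by
    intro a ha b hb
    rcases eq_or_ne a 1 with rfl | ha1
    · simp
    · rw [hT, ← h.cent a ha ha1, Subgroup.mem_centralizer_singleton_iff] at hb
      exact hb.symm
  have hflip : ∀ a ∈ T, y * a * y = a⁻¹ := by
    intro a ha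
    have ha' : y * a * y ∈ T := by
      have := (Subgroup.mem_normalizer_iff.1 hyN a).1 ha
      rwa [hyinv] at this
    set p := a * (y * a * y) with hp
    have hpy : y * p * y = p := by
      calc y * p * y = (y * a * y) * a * (y * y) := by rw [hp]; group
        _ = p := by rw [hy2, mul_one, ← hcomm _ ha _ ha', hp]
    by_contra hne
    have hp1 : p ≠ 1 := fun e => hne (eq_inv_of_mul_eq_one_right e)
    apply hyT
    rw [hT, ← h.cent p (mul_mem ha ha') hp1, Subgroup.mem_centralizer_singleton_iff]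
    calc y * p = y * p * y * y := by rw [mul_assoc (y * p), hy2, mul_one]
      _ = p * y := by rw [hpy]
  have hset : {u : M | u ≠ 1 ∧ u * u = 1 ∧ u * z * u⁻¹ = z⁻¹} =
      (fun a : T => g * (y * a) * g⁻¹) '' Set.univ := by
    ext u
    constructor
    · rintro ⟨hu1, hu2, hu3⟩
      set u' := g⁻¹ * u * g with hu'
      have hinv : u' * t * u'⁻¹ = t⁻¹ := by
        calc u' * t * u'⁻¹ = g⁻¹ * (u * z * u⁻¹) * g := by rw [hu', ht]; group
          _ = t⁻¹ := by rw [hu3, ht]; group
      have hmem : y * u' ∈ T := by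
        rw [hT, ← h.cent t hg ht1, Subgroup.mem_centralizer_singleton_iff]
        calc y * u' * t = y * (u' * t * u'⁻¹) * u' := by group
          _ = y * t⁻¹ * y * (y * u') := by
            rw [hinv, mul_assoc (y * t⁻¹) y, ← mul_assoc y y, hy2, one_mul]
          _ = t * (y * u') := by rw [hflip _ (inv_mem hg), inv_inv]
      refine ⟨⟨_, hmem⟩, Set.mem_univ _, ?_⟩
      show g * (y * (y * u')) * g⁻¹ = u
      rw [← mul_assoc y y, hy2, one_mul, hu']
      group
    · rintro ⟨⟨a, ha⟩, -, rfl⟩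
      have h2 : (y * a) * (y * a) = 1 := by
        calc (y * a) * (y * a) = (y * a * y) * a := by group
          _ = 1 := by rw [hflip a ha, inv_mul_cancel]
      refine ⟨fun e => hyT ?_, ?_, ?_⟩
      · have : y * a = 1 := by
          calc y * a = g⁻¹ * (g * (y * a) * g⁻¹) * g := by group
            _ = 1 := by rw [show g * (y * a) * g⁻¹ = 1 from e]; group
        rw [eq_inv_of_mul_eq_one_left this]
        exact inv_mem ha
      · calc g * (y * a) * g⁻¹ * (g * (y * a) * g⁻¹) = g * ((y * a) * (y * a)) * g⁻¹ := by group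
          _ = 1 := by rw [h2]; group
      · calc g * (y * a) * g⁻¹ * z * (g * (y * a) * g⁻¹)⁻¹
            = g * (y * (a * t * a⁻¹) * y⁻¹) * g⁻¹ := by rw [ht]; group
          _ = z⁻¹ := by
            rw [hcomm a ha t hg, mul_inv_cancel_right, hyinv, hflip t hg, ht]
            group
  rw [hset, Set.ncard_image_of_injective _ (fun a b e => Subtype.ext
    (mul_left_cancel (mul_left_cancel (mul_right_cancel e)))), Set.ncard_univ]

end Cells

end Cfsg.Agent.SZ
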