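/-
Suzuki groups, part 14: subgroups of even order, the part in the Borel subgroup.
-/
import Cfsg.Agent.Lib.Sz.Cells

set_option autoImplicit false

namespace Cfsg.Agent.SZ

open Cfsg Matrix
open scoped Pointwise

variable {F : Type*} [Field F] [Fintype F] {m : ℕ}

/-- The centre of the standard Sylow subgroup. -/
def zGrp (hF : Fintype.card F = 2 ^ (2 * m + 1)) : Subgroup (Sz F m) :=
  (zHom hF).range.map (uGrp hF).subtype

theorem mem_zGrp (hF : Fintype.card F = 2 ^ (2 * m + 1)) {g : Sz F m} :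
    g ∈ zGrp hF ↔ ∃ b, tS hF 0 b = g := by
  constructor
  · rintro ⟨_, ⟨b, rfl⟩, rfl⟩
    exact ⟨b.toAdd, rfl⟩
  · rintro ⟨b, rfl⟩
    exact ⟨_, ⟨Multiplicative.ofAdd b, rfl⟩, rfl⟩

theorem zGrp_le (hF : Fintype.card F = 2 ^ (2 * m + 1)) : zGrp (m := m) hF ≤ uGrp hF := by
  intro g hg
  obtain ⟨b, rfl⟩ := (mem_zGrp hF).1 hg
  exact (mem_uGrp hF).2 ⟨0, b, rfl⟩

theorem hS_mul_units (hF : Fintype.card F = 2 ^ (2 * m + 1)) (u v : Fˣ) :
    (hS hF (u * v) : Sz F m) = hS hF u * hS hF v := Subtype.ext (H_mul u v)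

theorem hS_one (hF : Fintype.card F = 2 ^ (2 * m + 1)) : (hS hF (1 : Fˣ) : Sz F m) = 1 :=
  Subtype.ext H_one

theorem tS_zero (hF : Fintype.card F = 2 ^ (2 * m + 1)) : (tS hF (0 : F) 0 : Sz F m) = 1 :=
  Subtype.ext T_zero

theorem hS_inv (hF : Fintype.card F = 2 ^ (2 * m + 1)) (u : Fˣ) :
    ((hS hF u)⁻¹ : Sz F m) = hS hF u⁻¹ := Subtype.ext (H_inv u)

theorem tS_hS_inj (hm : 1 ≤ m) (hF : Fintype.card F = 2 ^ (2 * m + 1)) {a b c d : F} {u v : Fˣ}
    (h : tS hF a b * hS hF u = tS hF c d * hS hF v) : a = c ∧ b = d ∧ u = v :=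
  TH_inj hF (congrArg Subtype.val h)

theorem tS_params_inj (hF : Fintype.card F = 2 ^ (2 * m + 1)) {a b c d : F}
    (h : (tS hF a b : Sz F m) = tS hF c d) : a = c ∧ b = d := T_inj (congrArg Subtype.val h)

theorem stab_mul (hF : Fintype.card F = 2 ^ (2 * m + 1)) (a b c d : F) (u v : Fˣ) :
    ∃ a' b', (tS hF a b * hS hF u) * (tS hF c d * hS hF v) = (tS hF a' b' * hS hF (u * v) : Sz F m) := by
  obtain ⟨a', b', h⟩ := (mem_uGrp hF).1 (mul_mem ((mem_uGrp hF).2 ⟨a, b, rfl⟩)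
    ((mem_uGrp hF).2 ⟨_, _, (hS_conj_tS hF u c d).symm⟩))
  refine ⟨a', b', ?_⟩
  rw [h, hS_mul_units]
  group

/-- An involution fixing the point at infinity is central in the standard Sylow subgroup. -/
theorem involution_mem_zGrp (hm : 1 ≤ m) (hF : Fintype.card F = 2 ^ (2 * m + 1)) {y : Sz F m}
    (hy : y * y = 1) (hB : y ∈ MulAction.stabilizer (Sz F m) (suzukiPointInfinity F)) :
    y ∈ zGrp hF := by
  obtain ⟨a, b, u, rfl⟩ := stab_eq hm hF hB
  obtain ⟨a', b', h⟩ := stab_mul hF a b a b u u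
  rw [hy] at h
  have h' : tS hF (0 : F) 0 * hS hF (1 : Fˣ) = tS hF a' b' * hS hF (u * u) := by
    rw [← h, tS_zero, hS_one, mul_one]
  obtain ⟨-, -, hu⟩ := tS_hS_inj hm hF h'
  obtain rfl : u = 1 := Units.ext (sq_inj hF (by
    rw [sq, ← Units.val_mul, ← hu, Units.val_one, one_pow]))
  rw [hS_one, mul_one] at hy ⊢
  rw [tS_sq, ← tS_zero (m := m) hF] at hy
  obtain ⟨-, h0⟩ := tS_params_inj hF hy
  obtain rfl : a = 0 := (mul_eq_zero.1 h0).elim (fun h => th_eq_zero.1 h) id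
  exact (mem_zGrp hF).2 ⟨b, rfl⟩

/-- Two non-commuting-type involutions with torus product are conjugate under their product. -/
theorem involutions_conj {G : Type*} [Group G] {u v : G} (hu : u * u = 1) (hv : v * v = 1)
    (hodd : Odd (orderOf (u * v))) : ∃ z ∈ Subgroup.zpowers (u * v), z * u * z⁻¹ = v := by
  obtain ⟨j, hj⟩ := hodd
  refine ⟨(u * v) ^ j, pow_mem (Subgroup.mem_zpowers _) j, ?_⟩
  have hu' : u⁻¹ = u := inv_eq_of_mul_eq_one_right hu
  have hv' : v⁻¹ = v := inv_eq_of_mul_eq_one_right hv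
  have hflip : u * (u * v) * u⁻¹ = (u * v)⁻¹ := by
    rw [_root_.mul_inv_rev, hv', hu', ← mul_assoc, hu, one_mul]
  have h1 : u * ((u * v) ^ j)⁻¹ = (u * v) ^ j * u := by
    have h2 : u * (u * v) ^ j * u⁻¹ = ((u * v) ^ j)⁻¹ := by rw [← conj_pow, hflip, inv_pow]
    calc u * ((u * v) ^ j)⁻¹ = u * (u * (u * v) ^ j * u⁻¹) := by rw [h2]
      _ = (u * u) * (u * v) ^ j * u⁻¹ := by group
      _ = (u * v) ^ j * u := by rw [hu, one_mul, hu']
  have hp : (u * v) ^ (2 * j + 1) = 1 := by rw [← hj]; exact pow_orderOf_eq_one _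
  rw [mul_assoc, h1, ← mul_assoc, ← pow_add, ← two_mul,
    eq_inv_of_mul_eq_one_left (a := (u * v) ^ (2 * j)) (b := u * v) (by rw [← pow_succ]; exact hp),
    _root_.mul_inv_rev, hv', hu', mul_assoc, hu, mul_one]

/-- The torus parts of the elements of `M` fixing the point at infinity. -/
def lGrp (hF : Fintype.card F = 2 ^ (2 * m + 1)) (M : Subgroup (Sz F m)) : Subgroup Fˣ where
  carrier := {u | ∃ a b, tS hF a b * hS hF u ∈ M}
  one_mem' := ⟨0, 0, by rw [tS_zero, hS_one, one_mul]; exact one_mem _⟩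
  mul_mem' := by
    rintro u v ⟨a, b, h⟩ ⟨c, d, h'⟩
    obtain ⟨a', b', e⟩ := stab_mul hF a b c d u v
    exact ⟨a', b', e ▸ mul_mem h h'⟩
  inv_mem' := by
    rintro u ⟨a, b, h⟩
    obtain ⟨c, d, e⟩ := (mem_uGrp hF).1 (inv_mem ((mem_uGrp hF).2 ⟨a, b, rfl⟩ : tS hF a b ∈ uGrp hF))
    refine ⟨((u⁻¹ : Fˣ) : F) ^ 2 / th m ((u⁻¹ : Fˣ) : F) * c, th m ((u⁻¹ : Fˣ) : F) * d, ?_⟩
    rw [← hS_conj_tS hF u⁻¹ c d, inv_mul_cancel_right, e, ← hS_inv, ← _root_.mul_inv_rev]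
    exact inv_mem h

/-- A subgroup of even order in standard position. -/
structure IsPos (hF : Fintype.card F = 2 ^ (2 * m + 1)) (M : Subgroup (Sz F m)) : Prop where
  invol : ∃ b : F, b ≠ 0 ∧ tS hF 0 b ∈ M
  torus : ∀ a b u, tS hF a b * hS hF u ∈ M → hS hF u ∈ M

theorem exists_isPos (hm : 1 ≤ m) (hF : Fintype.card F = 2 ^ (2 * m + 1)) {M : Subgroup (Sz F m)}
    (hev : Even (Nat.card M)) : ∃ g, IsPos hF (M.map (MulAut.conj g).toMonoidHom) := by
  haveI : Fact (Nat.Prime 2) := ⟨Nat.prime_two⟩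
  obtain ⟨t, htM, ht1, ht2⟩ := exists_involution_of_even _ hev
  have hto : orderOf t = 2 := orderOf_eq_prime (by rw [sq, ht2]) ht1
  obtain ⟨P, hP⟩ := (IsPGroup.of_card (n := 1) (G := Subgroup.zpowers t)
    (by rw [Nat.card_zpowers, hto, pow_one])).exists_le_sylow
  obtain ⟨g, hg⟩ := exists_conj_eq_uGrp hm hF P
  obtain ⟨y, hy, hyt⟩ : t ∈ (uGrp hF).map (MulAut.conj g).toMonoidHom :=
    hg ▸ hP (Subgroup.mem_zpowers t)
  change g * y * g⁻¹ = t at hyt
  have hy2 : y * y = 1 := by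
    calc y * y = g⁻¹ * ((g * y * g⁻¹) * (g * y * g⁻¹)) * g := by group
      _ = 1 := by rw [hyt, ht2]; group
  obtain ⟨b, rfl⟩ := (mem_zGrp hF).1 (involution_mem_zGrp hm hF hy2 (uGrp_le_stab hF hy))
  have hb : b ≠ 0 := fun e => ht1 (by rw [← hyt, e, tS_zero, mul_one, mul_inv_cancel])
  set M₁ := M.map (MulAut.conj g⁻¹).toMonoidHom with hM₁
  have hbM : tS hF 0 b ∈ M₁ := ⟨t, htM, by
    show g⁻¹ * t * g⁻¹⁻¹ = _
    rw [← hyt]; group⟩
  obtain ⟨⟨u₀, hu₀⟩, hgen⟩ := IsCyclic.exists_generator (α := lGrp hF M₁)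
  have hgen' : ∀ u ∈ lGrp hF M₁, u ∈ Subgroup.zpowers u₀ := by
    intro u hu
    obtain ⟨n, hn⟩ := Subgroup.mem_zpowers_iff.1 (hgen ⟨u, hu⟩)
    exact Subgroup.mem_zpowers_iff.2 ⟨n, congrArg Subtype.val hn⟩
  obtain ⟨a₀, b₀, hx⟩ := hu₀
  -- the second fixed point of the torus element
  obtain ⟨s, hsU, hs⟩ : ∃ s ∈ uGrp hF, s * (tS hF a₀ b₀ * hS hF u₀) * s⁻¹ = hS hF u₀ ∨ u₀ = 1 := by
    rcases eq_or_ne u₀ 1 with h1 | h1
    · exact ⟨1, one_mem _, Or.inr h1⟩
    · set κ := (u₀ : F) ^ 2 / th m (u₀ : F) with hκ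
      have hκ1 : κ + 1 ≠ 0 := by
        intro e
        have e' : κ = 1 := by linear_combination e - two_zero hF
        rw [hκ, div_eq_one_iff_eq (fun e => u₀.ne_zero (th_eq_zero.1 e))] at e'
        exact h1 (Units.ext (th_eq_sq hF e'.symm u₀.ne_zero))
      have hth1 : th m (u₀ : F) + 1 ≠ 0 := fun e => h1 (Units.ext ((th_eq_one hF).1 (by
        linear_combination e - two_zero hF)))
      set x₀ := a₀ / (κ + 1)
      set y₀ := (b₀ + th m a₀ * (κ * x₀)) / (th m (u₀ : F) + 1)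
      have hfix : (tS hF a₀ b₀ * hS hF u₀).1 • aff m x₀ y₀ = aff m x₀ y₀ := by
        show (T m a₀ b₀ * H m u₀) • _ = _
        rw [mul_smul, H_smul_aff hF, T_smul_aff hF, ← hκ]
        have e1 : x₀ * (κ + 1) = a₀ := div_mul_cancel₀ _ hκ1
        have e2 : y₀ * (th m (u₀ : F) + 1) = b₀ + th m a₀ * (κ * x₀) := div_mul_cancel₀ _ hth1
        congr 1
        · linear_combination κ * x₀ * two_zero hF - e1
        · linear_combination th m (u₀ : F) * y₀ * two_zero hF - e2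
      obtain ⟨s, hs, -⟩ := uGrp_regular hF (aff_mem x₀ y₀) zero_mem (aff_ne_inf _ _)
        (by rw [zero_eq_aff (m := m)]; exact aff_ne_inf 0 0)
      have hsB : (s : Sz F m).1 • suzukiPointInfinity F = suzukiPointInfinity F := uGrp_le_stab hF s.2
      refine ⟨s, s.2, Or.inl ?_⟩
      obtain ⟨v, hv⟩ := (mem_hGrp hF).1 (mem_hGrp_of_fix hm hF
        (g := (s : Sz F m) * (tS hF a₀ b₀ * hS hF u₀) * (s : Sz F m)⁻¹)
        (by
          show ((s : Sz F m).1 * (tS hF a₀ b₀ * hS hF u₀).1 * (s : Sz F m).1⁻¹) • _ = _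
          rw [mul_smul, mul_smul, inv_smul_eq_iff.2 hsB.symm]
          show (s : Sz F m).1 • (T m a₀ b₀ * H m u₀) • _ = _
          rw [mul_smul, H_smul_inf, T_smul_inf, hsB])
        (by
          show ((s : Sz F m).1 * (tS hF a₀ b₀ * hS hF u₀).1 * (s : Sz F m).1⁻¹) • _ = _
          rw [mul_smul, mul_smul, inv_smul_eq_iff.2 hs.symm, hfix, hs]))
      obtain ⟨c, d, hcd⟩ := (mem_uGrp hF).1 s.2
      obtain ⟨c', d', hcd'⟩ := (mem_uGrp hF).1 (inv_mem s.2)
      obtain ⟨a₁, b₁, h1'⟩ := stab_mul hF c d a₀ b₀ 1 u₀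
      obtain ⟨a₂, b₂, h2'⟩ := stab_mul hF a₁ b₁ c' d' u₀ 1
      rw [hS_one, mul_one, one_mul] at h1'
      rw [hS_one, mul_one, mul_one, ← h1', hcd, hcd', hv.symm] at h2'
      have : tS hF (0 : F) 0 * hS hF v = tS hF a₂ b₂ * hS hF u₀ := by
        rw [tS_zero, one_mul]; exact h2'
      rw [← hv, (tS_hS_inj hm hF this).2.2]
  refine ⟨s * g⁻¹, ?_⟩
  have hmap : ∀ z : Sz F m, z ∈ M.map (MulAut.conj (s * g⁻¹)).toMonoidHom ↔ s⁻¹ * z * s ∈ M₁ := by
    intro z
    simp only [hM₁, Subgroup.mem_map_equiv, MulAut.conj_symm_apply]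
    rw [show (s * g⁻¹)⁻¹ * z * (s * g⁻¹) = g⁻¹⁻¹ * (s⁻¹ * z * s) * g⁻¹ by group]
  refine ⟨⟨b, hb, ?_⟩, fun a c u hu => ?_⟩
  · rw [hmap]
    obtain ⟨c, d, rfl⟩ := (mem_uGrp hF).1 hsU
    rw [mul_assoc, (tS_comm_iff hF 0 b c d).2 (by simp), ← mul_assoc, inv_mul_cancel, one_mul]
    exact hbM
  · rw [hmap] at hu ⊢
    have huL : u ∈ lGrp hF M₁ := by
      obtain ⟨c', d', hcd⟩ := (mem_uGrp hF).1 hsU
      obtain ⟨c'', d'', hcd'⟩ := (mem_uGrp hF).1 (inv_mem hsU)
      obtain ⟨a₁, b₁, h1⟩ := stab_mul hF c'' d'' a c 1 u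
      obtain ⟨a₂, b₂, h2⟩ := stab_mul hF a₁ b₁ c' d' u 1
      rw [hS_one, mul_one, one_mul] at h1
      rw [hS_one, mul_one, mul_one, ← h1, hcd, hcd'] at h2
      exact ⟨a₂, b₂, h2 ▸ hu⟩
    obtain ⟨n, rfl⟩ := Subgroup.mem_zpowers_iff.1 (hgen' u huL)
    rcases hs with hs | rfl
    · let Hm : Fˣ →* Sz F m :=
        { toFun := hS hF, map_one' := hS_one hF, map_mul' := hS_mul_units hF }
      have e : hS hF (u₀ ^ n) = (s * (tS hF a₀ b₀ * hS hF u₀) * s⁻¹) ^ n := by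
        rw [hs]; exact map_zpow Hm u₀ n
      rw [e, conj_zpow]
      rw [show s⁻¹ * (s * (tS hF a₀ b₀ * hS hF u₀) ^ n * s⁻¹) * s =
        (tS hF a₀ b₀ * hS hF u₀) ^ n by group]
      exact Subgroup.zpow_mem _ hx n
    · rw [_root_.one_zpow, hS_one, mul_one, inv_mul_cancel]
      exact one_mem _

/-- The numbers attached to a subgroup of even order not fixing the point at infinity. -/
theorem pos_data (hm : 1 ≤ m) (hF : Fintype.card F = 2 ^ (2 * m + 1)) {M : Subgroup (Sz F m)}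
    (hpos : IsPos hF M)
    (hMB : ¬ M ≤ MulAction.stabilizer (Sz F m) (suzukiPointInfinity F)) :
    ∃ (β : ℕ) (O : ℕ), 1 ≤ β ∧ Odd O ∧ 1 < O ∧
      Nat.card ((hGrp hF).subgroupOf M) + 1 = 2 ^ β ∧
      Nat.card ((zGrp hF).subgroupOf M) = 2 ^ β ∧
      Nat.card ((MulAction.stabilizer (Sz F m) (suzukiPointInfinity F)).subgroupOf M) =
        Nat.card ((uGrp hF).subgroupOf M) * Nat.card ((hGrp hF).subgroupOf M) ∧
      (Nat.card ((uGrp hF).subgroupOf M) = 2 ^ β ∨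
        Nat.card ((uGrp hF).subgroupOf M) = 2 ^ β * 2 ^ β) ∧
      Nat.card M = O * Nat.card ((uGrp hF).subgroupOf M) * Nat.card ((hGrp hF).subgroupOf M) ∧
      Tor hF M = ({1} ∪ conjSet ((uGrp hF).subgroupOf M))ᶜ ∧
      (conjSet ((uGrp hF).subgroupOf M)).ncard = O * (Nat.card ((uGrp hF).subgroupOf M) - 1) ∧
      {u : M | u ≠ 1 ∧ u * u = 1} = conjSet ((zGrp hF).subgroupOf M) ∧
      (conjSet ((zGrp hF).subgroupOf M)).ncard = O * Nat.card ((hGrp hF).subgroupOf M) ∧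
      ((MulAction.stabilizer (Sz F m) (suzukiPointInfinity F)).subgroupOf M).index = O := by
  classical
  haveI : Fact (Nat.Prime 2) := ⟨Nat.prime_two⟩
  set B := MulAction.stabilizer (Sz F m) (suzukiPointInfinity F) with hB
  set A := (uGrp hF).subgroupOf M with hA
  set C := (hGrp hF).subgroupOf M with hC
  set R := (zGrp hF).subgroupOf M with hR
  obtain ⟨b₀, hb₀, hb₀M⟩ := hpos.invol
  have ht₀ : tS hF 0 b₀ ≠ (1 : Sz F m) := fun e => hb₀ (tS_params_inj hF (e.trans (tS_zero hF).symm)).2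
  have hU2 : IsPGroup 2 (uGrp hF : Subgroup (Sz F m)) := (uSylow hm hF).isPGroup'
  have hsubInj : ∀ (K : Subgroup (Sz F m)), Function.Injective
      (fun x : K.subgroupOf M => (⟨x.1.1, x.2⟩ : K)) := fun K x y h =>
    Subtype.ext (Subtype.ext (congrArg (fun z : K => (z : Sz F m)) h))
  have hA2 : IsPGroup 2 A := hU2.of_injective
    ({ toFun := fun x => ⟨x.1.1, x.2⟩, map_one' := rfl, map_mul' := fun _ _ => rfl } :
      A →* uGrp hF) (hsubInj _)
  -- the Borel part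
  have hnorm : ∀ K : Subgroup (Sz F m), K ≤ uGrp hF → tS hF 0 b₀ ∈ K →
      (∀ x ∈ B, ∀ k ∈ K, x * k * x⁻¹ ∈ K) →
      Subgroup.normalizer (K.subgroupOf M : Set M) = B.subgroupOf M := by
    intro K hK ht hKB
    ext x
    rw [Subgroup.mem_subgroupOf]
    constructor
    · intro hx
      rw [hB, ← normalizer_uGrp hm hF]
      refine isTI_uGrp hm hF x.1 _ (hK ht) ht₀ ?_
      exact hK ((Subgroup.mem_normalizer_iff.1 hx ⟨_, hb₀M⟩).1 ht)
    · intro hx
      rw [Subgroup.mem_normalizer_iff]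
      intro k
      rw [Subgroup.mem_subgroupOf, Subgroup.mem_subgroupOf]
      constructor
      · exact hKB x.1 hx k.1
      · intro h
        have := hKB _ (inv_mem hx) _ h
        simpa [mul_assoc] using this
  have hNA : Subgroup.normalizer (A : Set M) = B.subgroupOf M := by
    refine hnorm _ le_rfl ((mem_uGrp hF).2 ⟨_, _, rfl⟩) fun x hx k hk => ?_
    rw [hB, ← normalizer_uGrp hm hF] at hx
    exact (Subgroup.mem_normalizer_iff.1 hx k).1 hk
  have hNR : Subgroup.normalizer (R : Set M) = B.subgroupOf M := by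
    refine hnorm _ (zGrp_le hF) ((mem_zGrp hF).2 ⟨_, rfl⟩) fun x hx k hk => ?_
    obtain ⟨b, rfl⟩ := (mem_zGrp hF).1 hk
    obtain ⟨b', hb'⟩ := tS_zero_conj hm hF hx b
    exact (mem_zGrp hF).2 ⟨b', hb'.symm⟩
  have hTIA : IsTI A := fun x a ha ha1 hxa => by
    rw [hNA, Subgroup.mem_subgroupOf, hB, ← normalizer_uGrp hm hF]
    exact isTI_uGrp hm hF x.1 a.1 ha (fun e => ha1 (Subtype.ext e)) hxa
  have hTIR : IsTI R := fun x a ha ha1 hxa => by
    rw [hNR, Subgroup.mem_subgroupOf, hB, ← normalizer_uGrp hm hF]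
    exact isTI_uGrp hm hF x.1 a.1 (zGrp_le hF ha) (fun e => ha1 (Subtype.ext e)) (zGrp_le hF hxa)
  -- `A` is a Sylow subgroup
  obtain ⟨P, hP⟩ := hA2.exists_le_sylow
  have hPA : (P : Subgroup M) = A := by
    obtain ⟨S, hS⟩ := (P.isPGroup'.map M.subtype).exists_le_sylow
    obtain ⟨z, hz⟩ := exists_conj_eq_uGrp hm hF S
    have ht : tS hF 0 b₀ ∈ (uGrp hF).map (MulAut.conj z).toMonoidHom :=
      hz ▸ hS ⟨⟨_, hb₀M⟩, hP ((mem_uGrp hF).2 ⟨_, _, rfl⟩), rfl⟩
    have ht' : tS hF 0 b₀ ∈ (uGrp hF).map (MulAut.conj 1).toMonoidHom :=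
      ⟨_, (mem_uGrp hF).2 ⟨0, b₀, rfl⟩, by simp⟩
    have e := eq_of_mem_conj (isTI_uGrp hm hF) ht₀ ht ht'
    refine le_antisymm (fun x hx => ?_) hP
    have hx' : x.1 ∈ (uGrp hF).map (MulAut.conj z).toMonoidHom := hz ▸ hS ⟨x, hx, rfl⟩
    rw [e] at hx'
    obtain ⟨y, hy, hye⟩ := hx'
    rw [hA, Subgroup.mem_subgroupOf]
    simp at hye
    rw [← hye]
    exact hy
  set O := (B.subgroupOf M).index with hO
  have hOodd : Odd O := by
    rw [Nat.odd_iff]
    by_contra h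
    have h2 : 2 ∣ O := by omega
    refine P.not_dvd_index ?_
    rw [hPA]
    exact h2.trans (Subgroup.index_dvd_of_le (hNA ▸ Subgroup.le_normalizer))
  have hO1 : 1 < O := by
    have h0 : O ≠ 0 := Subgroup.index_ne_zero_of_finite
    have h1 : O ≠ 1 := fun e => hMB (Subgroup.subgroupOf_eq_top.1 (Subgroup.index_eq_one.1 e))
    omega
  -- the conjugates of `A`
  have htor : Tor hF M = ({1} ∪ conjSet A)ᶜ := by
    ext x
    simp only [Tor, Set.mem_setOf_eq, Set.mem_compl_iff, Set.mem_union, Set.mem_singleton_iff, not_or]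
    refine and_congr_right fun hx1 => not_congr ⟨fun h => ?_, ?_⟩
    · have h4 : orderOf x ∣ 2 ^ 2 := by rw [← Subgroup.orderOf_coe]; exact orderOf_dvd_four hF h
      obtain ⟨i, -, hi⟩ := (Nat.dvd_prime_pow Nat.prime_two).1 h4
      obtain ⟨Q, hQ⟩ := (IsPGroup.of_card (p := 2) (n := i) (G := Subgroup.zpowers x)
        (by rw [Nat.card_zpowers, hi])).exists_le_sylow
      obtain ⟨y, hy⟩ := MulAction.exists_smul_eq M P Q
      have hxQ : x ∈ (P : Subgroup M).map (MulAut.conj y).toMonoidHom := by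
        have := hQ (Subgroup.mem_zpowers x)
        rw [← hy] at this
        exact this
      exact mem_conjSet_iff.2 ⟨hx1, y, hPA ▸ hxQ⟩
    · rintro ⟨-, y, hy⟩
      exact ⟨fun e => hx1 (Subtype.ext e), y.1, hy⟩
  have hAcard : (conjSet A).ncard = O * (Nat.card A - 1) := by
    rw [ncard_conjSet hTIA, hNA]
  -- involutions
  have hJ : {u : M | u ≠ 1 ∧ u * u = 1} = conjSet R := by
    ext u
    constructor
    · rintro ⟨hu1, hu2⟩
      have hnt : u ∉ Tor hF M := by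
        intro hu
        obtain ⟨X, hX⟩ := exists_isCell hm hu
        have h1 : orderOf u ∣ Nat.card (Subgroup.centralizer ({u} : Set M)) := by
          rw [← Subgroup.orderOf_mk u (Subgroup.mem_centralizer_singleton_iff.2 rfl)]
          exact orderOf_dvd_natCard _
        rw [orderOf_eq_prime (by rw [sq, hu2]) hu1] at h1
        exact Nat.not_even_iff_odd.2 hX.odd (even_iff_two_dvd.2 h1)
      rw [htor, Set.notMem_compl_iff] at hnt
      obtain ⟨-, y, hy⟩ := hnt.resolve_left hu1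
      refine ⟨hu1, y, ?_⟩
      refine involution_mem_zGrp hm hF ?_ (uGrp_le_stab hF hy)
      have : (y⁻¹ * u * y) * (y⁻¹ * u * y) = 1 := by
        calc _ = y⁻¹ * (u * u) * y := by group
          _ = 1 := by rw [hu2]; group
      exact congrArg Subtype.val this
    · rintro ⟨hu1, y, hy⟩
      obtain ⟨b, hb⟩ := (mem_zGrp hF).1 (Subgroup.mem_subgroupOf.1 hy)
      refine ⟨hu1, ?_⟩
      have : (y⁻¹ * u * y) * (y⁻¹ * u * y) = 1 := Subtype.ext (by
        show (y⁻¹ * u * y).1 * (y⁻¹ * u * y).1 = (1 : Sz F m)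
        rw [← hb, tS_sq, mul_zero, tS_zero])
      calc u * u = y * ((y⁻¹ * u * y) * (y⁻¹ * u * y)) * y⁻¹ := by group
        _ = 1 := by rw [this]; group
  -- all involutions in `R` are conjugate under the torus
  have hfuse : ∀ b, b ≠ 0 → tS hF 0 b ∈ M → ∃ u, hS hF u ∈ M ∧ th m (u : F) * b₀ = b := by
    intro b hb hbM
    obtain ⟨y, hyM, hyB⟩ := SetLike.not_le_iff_exists.1 hMB
    have hmid : ∀ c, c ≠ 0 → tS hF 0 c ∈ M →
        ∃ z ∈ M, z * tS hF 0 c * z⁻¹ = y * tS hF 0 b₀ * y⁻¹ := by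
      intro c hc hcM
      set v := y * tS hF 0 b₀ * y⁻¹ with hv
      have hvM : v ∈ M := mul_mem (mul_mem hyM hb₀M) (inv_mem hyM)
      have hv2 : v * v = 1 := by
        calc v * v = y * (tS hF 0 b₀ * tS hF 0 b₀) * y⁻¹ := by rw [hv]; group
          _ = 1 := by rw [tS_sq, mul_zero, tS_zero]; group
      have hc2 : tS hF 0 c * tS hF 0 c = (1 : Sz F m) := by rw [tS_sq, mul_zero, tS_zero]
      have hodd : Odd (orderOf (tS hF 0 c * v)) := by
        have h1 : tS hF 0 c * v ≠ 1 := by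
          intro e
          have e' : v = tS hF 0 c :=
            (eq_inv_of_mul_eq_one_right e).trans (inv_eq_of_mul_eq_one_right hc2)
          refine hyB ?_
          rw [hB, ← normalizer_uGrp hm hF]
          refine isTI_uGrp hm hF y _ ((mem_uGrp hF).2 ⟨0, b₀, rfl⟩) ht₀ ?_
          rw [← hv, e']
          exact (mem_uGrp hF).2 ⟨_, _, rfl⟩
        by_contra hodd
        have hU : tS hF 0 c * v ∈ conjSet (uGrp hF) := by
          by_contra hU
          obtain ⟨X, hX, hmem⟩ := exists_torusLike hm hF h1 hU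
          refine hodd (hX.odd.of_dvd_nat ?_)
          rw [← Subgroup.orderOf_mk _ hmem]
          exact orderOf_dvd_natCard _
        obtain ⟨-, z, hz⟩ := hU
        set c' := tS hF 0 c with hc'
        have hcinv : c'⁻¹ = c' := inv_eq_of_mul_eq_one_right hc2
        have hvinv : v⁻¹ = v := inv_eq_of_mul_eq_one_right hv2
        have hz1 : z⁻¹ * (c' * v) * z ≠ 1 := fun e => h1 (by
          calc c' * v = z * (z⁻¹ * (c' * v) * z) * z⁻¹ := by group
            _ = 1 := by rw [e]; group)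
        have hcn : z⁻¹ * c' * z ∈ Subgroup.normalizer (uGrp hF : Set (Sz F m)) := by
          refine isTI_uGrp hm hF _ _ hz hz1 ?_
          have : z⁻¹ * c' * z * (z⁻¹ * (c' * v) * z) * (z⁻¹ * c' * z)⁻¹ =
              (z⁻¹ * (c' * v) * z)⁻¹ := by
            calc _ = z⁻¹ * ((c' * c') * v * c'⁻¹) * z := by group
              _ = z⁻¹ * (v⁻¹ * c'⁻¹) * z := by rw [hc2, one_mul, hvinv]
              _ = _ := by group
          rw [this]
          exact inv_mem hz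
        rw [normalizer_uGrp hm hF] at hcn
        have hcZ := involution_mem_zGrp hm hF (y := z⁻¹ * c' * z) (by
          calc _ = z⁻¹ * (c' * c') * z := by group
            _ = 1 := by rw [hc2]; group) hcn
        have hvU : z⁻¹ * v * z ∈ uGrp hF := by
          have h5 : z⁻¹ * v * z = (z⁻¹ * c' * z)⁻¹ * (z⁻¹ * (c' * v) * z) := by group
          rw [h5]
          exact mul_mem (inv_mem (zGrp_le hF hcZ)) hz
        have hzB : z⁻¹ ∈ B := by
          rw [hB, ← normalizer_uGrp hm hF]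
          refine isTI_uGrp hm hF z⁻¹ c' ((mem_uGrp hF).2 ⟨0, c, rfl⟩) ?_
            (by rw [inv_inv]; exact zGrp_le hF hcZ)
          exact fun e => hc (tS_params_inj hF (e.trans (tS_zero hF).symm)).2
        have hvU' : v ∈ uGrp hF := by
          rw [hB, ← normalizer_uGrp hm hF] at hzB
          exact (Subgroup.mem_normalizer_iff.1 hzB v).2 (by rw [inv_inv]; exact hvU)
        refine hyB ?_
        rw [hB, ← normalizer_uGrp hm hF]
        exact isTI_uGrp hm hF y _ ((mem_uGrp hF).2 ⟨0, b₀, rfl⟩) ht₀ hvU'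
      obtain ⟨w, hw, hwe⟩ := involutions_conj hc2 hv2 hodd
      exact ⟨w, (Subgroup.zpowers_le.2 (mul_mem hcM hvM)) hw, hwe⟩
    obtain ⟨z₁, hz₁, e₁⟩ := hmid b₀ hb₀ hb₀M
    obtain ⟨z₂, hz₂, e₂⟩ := hmid b hb hbM
    have hn : (z₂⁻¹ * z₁) * tS hF 0 b₀ * (z₂⁻¹ * z₁)⁻¹ = tS hF 0 b := by
      calc _ = z₂⁻¹ * (z₁ * tS hF 0 b₀ * z₁⁻¹) * z₂ := by group
        _ = tS hF 0 b := by rw [e₁, ← e₂]; group
    have hnB : z₂⁻¹ * z₁ ∈ B := by
      rw [hB, ← normalizer_uGrp hm hF]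
      exact isTI_uGrp hm hF _ _ ((mem_uGrp hF).2 ⟨0, b₀, rfl⟩) ht₀
        (by rw [hn]; exact (mem_uGrp hF).2 ⟨_, _, rfl⟩)
    obtain ⟨a, d, u, hu⟩ := stab_eq hm hF hnB
    refine ⟨u, hpos.torus a d u (hu ▸ mul_mem (inv_mem hz₂) hz₁), ?_⟩
    have e3 : tS hF a d * tS hF 0 (th m (u : F) * b₀) =
        tS hF 0 (th m (u : F) * b₀) * tS hF a d := (tS_comm_iff hF _ _ _ _).2 (by simp)
    have e4 : (z₂⁻¹ * z₁) * tS hF 0 b₀ * (z₂⁻¹ * z₁)⁻¹ = tS hF 0 (th m (u : F) * b₀) := by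
      rw [hu]
      calc _ = tS hF a d * (hS hF u * tS hF 0 b₀ * (hS hF u)⁻¹) * (tS hF a d)⁻¹ := by group
        _ = _ := by rw [hS_conj_tS, mul_zero, e3, mul_inv_cancel_right]
    exact (tS_params_inj hF (e4.symm.trans hn)).2
  set L : Set Fˣ := {u | hS hF u ∈ M} with hL
  set R' : Set F := {b | tS hF 0 b ∈ M} with hR'
  have hthR : ∀ u ∈ L, ∀ b ∈ R', th m (u : F) * b ∈ R' := by
    intro u hu b hb
    have h := mul_mem (mul_mem (show hS hF u ∈ M from hu) hb) (inv_mem (show hS hF u ∈ M from hu))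
    rwa [hS_conj_tS, mul_zero] at h
  have h0R : (0 : F) ∈ R' := by show _ ∈ M; rw [tS_zero]; exact one_mem _
  have hLC : Nat.card L = Nat.card C := Nat.card_eq_of_bijective
    (fun u => ⟨⟨hS hF u.1, u.2⟩, (mem_hGrp hF).2 ⟨u.1, rfl⟩⟩)
    ⟨fun u v h => Subtype.ext (H_inj (congrArg (fun z : C => z.1.1.1) h)), fun x => by
      obtain ⟨u, hu⟩ := (mem_hGrp hF).1 (Subgroup.mem_subgroupOf.1 x.2)
      exact ⟨⟨u, by show hS hF u ∈ M; rw [hu]; exact x.1.2⟩, Subtype.ext (Subtype.ext hu)⟩⟩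
  have hR'C : Nat.card R' = Nat.card R := Nat.card_eq_of_bijective
    (fun b => ⟨⟨tS hF 0 b.1, b.2⟩, (mem_zGrp hF).2 ⟨b.1, rfl⟩⟩)
    ⟨fun b c h => Subtype.ext (tS_params_inj hF (congrArg (fun z : R => z.1.1) h)).2, fun x => by
      obtain ⟨b, hb⟩ := (mem_zGrp hF).1 (Subgroup.mem_subgroupOf.1 x.2)
      exact ⟨⟨b, by show tS hF 0 b ∈ M; rw [hb]; exact x.1.2⟩, Subtype.ext (Subtype.ext hb)⟩⟩
  have hCR : Nat.card C + 1 = Nat.card R := by
    have h1 : Nat.card L = Nat.card ↥(R' \ {0}) := Nat.card_eq_of_bijective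
      (fun u => ⟨th m (u.1 : F) * b₀, hthR u.1 u.2 b₀ hb₀M, by
        simp [hb₀, th_eq_zero]⟩)
      ⟨fun u v h => Subtype.ext (Units.ext (th_inj hF (mul_right_cancel₀ hb₀
        (congrArg Subtype.val h)))), fun x => by
        obtain ⟨u, hu, he⟩ := hfuse x.1 (by simpa using x.2.2) x.2.1
        exact ⟨⟨u, hu⟩, Subtype.ext he⟩⟩
    rw [← hLC, h1, ← hR'C, Nat.card_coe_set_eq, Nat.card_coe_set_eq,
      Set.ncard_sdiff_singleton_add_one h0R (Set.toFinite _)]
  obtain ⟨β, hβ⟩ := (hU2.of_injective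
    ({ toFun := fun x => ⟨x.1.1, zGrp_le hF x.2⟩, map_one' := rfl, map_mul' := fun _ _ => rfl } :
      R →* uGrp hF)
    (fun x y h => Subtype.ext (Subtype.ext (congrArg (fun z : uGrp hF => (z : Sz F m)) h)))).exists_card_eq
  have hβ1 : 1 ≤ β := by
    rcases Nat.eq_zero_or_pos β with e | e
    · rw [e, pow_zero] at hβ
      have : 0 < Nat.card C := Nat.card_pos
      omega
    · exact e
  -- the order of the Borel part
  have hBcard : Nat.card (B.subgroupOf M) = Nat.card A * Nat.card C := by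
    rw [← Nat.card_prod]
    symm
    refine Nat.card_eq_of_bijective (fun p => ⟨p.1.1 * p.2.1, ?_⟩) ⟨?_, ?_⟩
    · rw [Subgroup.mem_subgroupOf, Subgroup.coe_mul]
      obtain ⟨u, hu⟩ := (mem_hGrp hF).1 (Subgroup.mem_subgroupOf.1 p.2.2)
      exact mul_mem (uGrp_le_stab hF p.1.2) (hu ▸ H_smul_inf u)
    · rintro ⟨a, c⟩ ⟨a', c'⟩ h
      have h' : a.1.1 * c.1.1 = a'.1.1 * c'.1.1 :=
        congrArg (fun z : B.subgroupOf M => (z.1 : Sz F m)) h
      obtain ⟨x, y, hxy⟩ := (mem_uGrp hF).1 (Subgroup.mem_subgroupOf.1 a.2)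
      obtain ⟨x', y', hxy'⟩ := (mem_uGrp hF).1 (Subgroup.mem_subgroupOf.1 a'.2)
      obtain ⟨u, hu⟩ := (mem_hGrp hF).1 (Subgroup.mem_subgroupOf.1 c.2)
      obtain ⟨u', hu'⟩ := (mem_hGrp hF).1 (Subgroup.mem_subgroupOf.1 c'.2)
      rw [← hxy, ← hxy', ← hu, ← hu'] at h'
      obtain ⟨e1, e2, e3⟩ := tS_hS_inj hm hF h'
      refine Prod.ext (Subtype.ext (Subtype.ext ?_)) (Subtype.ext (Subtype.ext ?_))
      · show a.1.1 = a'.1.1
        rw [← hxy, ← hxy', e1, e2]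
      · show c.1.1 = c'.1.1
        rw [← hu, ← hu', e3]
    · intro x
      obtain ⟨a, b, u, hx⟩ := stab_eq hm hF (g := x.1.1) x.2
      have huM : hS hF u ∈ M := hpos.torus a b u (hx ▸ x.1.2)
      have haM : tS hF a b ∈ M := by
        have := mul_mem x.1.2 (inv_mem huM)
        rwa [hx, mul_inv_cancel_right] at this
      exact ⟨(⟨⟨_, haM⟩, (mem_uGrp hF).2 ⟨a, b, rfl⟩⟩, ⟨⟨_, huM⟩, (mem_hGrp hF).2 ⟨u, rfl⟩⟩),
        Subtype.ext (Subtype.ext hx.symm)⟩
  have hJcard : (conjSet R).ncard = O * Nat.card C := by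
    rw [ncard_conjSet hTIR, hNR, ← hCR, Nat.add_sub_cancel]
  -- the two possible orders of `A`
  have hAsize : Nat.card A = 2 ^ β ∨ Nat.card A = 2 ^ β * 2 ^ β := by
    let π : A → F := fun x => ((mem_uGrp hF).1 (Subgroup.mem_subgroupOf.1 x.2)).choose
    have hπspec : ∀ x : A, ∃ b, tS hF (π x) b = x.1.1 := fun x => ((mem_uGrp hF).1 (Subgroup.mem_subgroupOf.1 x.2)).choose_spec
    have hπeq : ∀ (x : A) a b, tS hF a b = x.1.1 → π x = a := by
      intro x a b h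
      obtain ⟨b', hb'⟩ := hπspec x
      exact (tS_params_inj hF (hb'.trans h.symm)).1
    let f : A →* Multiplicative F := MonoidHom.mk' (fun x => Multiplicative.ofAdd (π x)) (fun x y => by
      obtain ⟨b, hb⟩ := hπspec x
      obtain ⟨b', hb'⟩ := hπspec y
      refine congrArg Multiplicative.ofAdd (hπeq (x * y) _ (b + b' + th m (π x) * π y) ?_)
      show _ = x.1.1 * y.1.1
      rw [← hb, ← hb']
      exact Subtype.ext (T_mul hF _ _ _ _).symm)
    have hker : Nat.card f.ker = Nat.card R' := by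
      symm
      refine Nat.card_eq_of_bijective (fun b => ⟨⟨⟨tS hF 0 b.1, b.2⟩, (mem_uGrp hF).2 ⟨_, _, rfl⟩⟩, ?_⟩)
        ⟨fun b c h => Subtype.ext (tS_params_inj hF (congrArg (fun z : f.ker => z.1.1.1) h)).2, fun x => ?_⟩
      · exact congrArg Multiplicative.ofAdd (hπeq _ 0 b.1 rfl)
      · obtain ⟨b, hb⟩ := hπspec x.1
        have h0 : π x.1 = 0 := congrArg Multiplicative.toAdd x.2
        rw [h0] at hb
        exact ⟨⟨b, by show tS hF 0 b ∈ M; rw [hb]; exact x.1.1.2⟩,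
          Subtype.ext (Subtype.ext (Subtype.ext hb))⟩
    set Abar : Set F := {a | ∃ b, tS hF a b ∈ M} with hAbar
    have hrange : Nat.card f.range = Nat.card Abar := by
      refine Nat.card_eq_of_bijective (fun y => ⟨y.1.toAdd, ?_⟩) ⟨fun y z h =>
        Subtype.ext (congrArg Multiplicative.ofAdd (congrArg (fun w : Abar => w.1) h)), ?_⟩
      · obtain ⟨x, hx⟩ := y.2
        obtain ⟨b, hb⟩ := hπspec x
        rw [← hx]
        exact ⟨b, by show tS hF (π x) b ∈ M; rw [hb]; exact x.1.2⟩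
      · rintro ⟨a, b, hab⟩
        exact ⟨⟨Multiplicative.ofAdd a, ⟨⟨⟨_, hab⟩, (mem_uGrp hF).2 ⟨a, b, rfl⟩⟩,
          congrArg Multiplicative.ofAdd (hπeq _ a b rfl)⟩⟩, rfl⟩
    have hA' : Nat.card A = Nat.card Abar * Nat.card R' := by
      rw [← hrange, ← hker, Subgroup.card_eq_card_quotient_mul_card_subgroup f.ker,
        Nat.card_congr (QuotientGroup.quotientKerEquivRange f).toEquiv]
    have h0A : (0 : F) ∈ Abar := ⟨0, by rw [tS_zero]; exact one_mem _⟩
    rw [hA', hR'C, hβ]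
    by_cases hne : ∃ a ∈ Abar, a ≠ 0
    · right
      obtain ⟨a, ⟨b, hab⟩, ha⟩ := hne
      have hlow : Nat.card C ≤ Nat.card ↥(Abar \ {0}) := by
        rw [← hLC]
        refine Nat.card_le_card_of_injective
          (fun u => ⟨(u.1 : F) ^ 2 / th m (u.1 : F) * a, ⟨th m (u.1 : F) * b, by
            have h := mul_mem (mul_mem u.2 hab) (inv_mem u.2)
            rwa [hS_conj_tS] at h⟩, by simp [ha, th_eq_zero]⟩) ?_
        intro u v h
        have h' : (u.1 : F) ^ 2 / th m (u.1 : F) = (v.1 : F) ^ 2 / th m (v.1 : F) :=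
          mul_right_cancel₀ ha (congrArg Subtype.val h)
        have hu : th m (u.1 : F) ≠ 0 := fun e => u.1.ne_zero (th_eq_zero.1 e)
        have hv : th m (v.1 : F) ≠ 0 := fun e => v.1.ne_zero (th_eq_zero.1 e)
        rw [div_eq_div_iff hu hv] at h'
        refine Subtype.ext (Units.ext (div_eq_one_iff_eq v.1.ne_zero |>.1
          (th_eq_sq hF ?_ (div_ne_zero u.1.ne_zero v.1.ne_zero))))
        rw [th_div, div_pow, div_eq_div_iff hv (pow_ne_zero 2 v.1.ne_zero)]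
        linear_combination -h'
      have hup : Nat.card ↥(Abar \ {0}) ≤ Nat.card ↥(R' \ {0}) := by
        refine Nat.card_le_card_of_injective (fun x => ⟨th m x.1 * x.1, ?_, ?_⟩) ?_
        · obtain ⟨⟨b', hb'⟩, -⟩ := x.2
          have h := mul_mem hb' hb'
          rwa [tS_sq] at h
        · have : x.1 ≠ 0 := by simpa using x.2.2
          simp [this, th_eq_zero]
        · intro x y h
          have hx : x.1 ≠ 0 := by simpa using x.2.2
          have hy : y.1 ≠ 0 := by simpa using y.2.2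
          have h' : th m x.1 * x.1 = th m y.1 * y.1 := congrArg Subtype.val h
          refine Subtype.ext (div_eq_one_iff_eq hy |>.1 ?_)
          have h1 : th m (x.1 / y.1) * (x.1 / y.1) = 1 := by
            rw [th_div, div_mul_div_comm, h', div_self (mul_ne_zero (fun e => hy (th_eq_zero.1 e)) hy)]
          have h2 := congrArg (th m) h1
          rw [th_mul, th_th hF, th_one] at h2
          linear_combination h2 - (x.1 / y.1) * h1
      have e1 := Set.ncard_sdiff_singleton_add_one h0A (Set.toFinite _)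
      have e2 := Set.ncard_sdiff_singleton_add_one h0R (Set.toFinite _)
      simp only [Nat.card_coe_set_eq] at hlow hup hR'C ⊢
      congr 1
      omega
    · left
      push Not at hne
      have : Abar = {0} := Set.eq_singleton_iff_unique_mem.2 ⟨h0A, hne⟩
      rw [this]
      simp
  refine ⟨β, O, hβ1, hOodd, hO1, by rw [hCR, hβ], hβ, hBcard, hAsize, ?_, htor, hAcard, hJ, hJcard, rfl⟩
  rw [← Subgroup.card_mul_index (B.subgroupOf M), hBcard, ← hO]
  ring

end Cfsg.Agent.SZ
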