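/-
Suzuki groups, part 15: the subgroups of the Suzuki group.
-/
import Cfsg.Agent.Lib.Sz.SubgroupsBorel
import Cfsg.Agent.Lib.Sz.SubfieldConj

set_option autoImplicit false

namespace Cfsg.Agent.SZ

open Cfsg Matrix
open scoped Pointwise

variable {F : Type*} [Field F] [Fintype F] {m : ℕ}

/-- The conclusion of Suzuki's subgroup theorem for one subgroup. -/
def Concl (m : ℕ) (M : Subgroup (Sz F m)) : Prop :=
  (∃ P : Sylow 2 (Sz F m), M ≤ Subgroup.normalizer ((P : Subgroup (Sz F m)) : Set (Sz F m))) ∨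
  (∃ U : Subgroup (Sz F m), IsCyclic U ∧
    Nat.card U ∈ ({2 ^ (2 * m + 1) - 1, 2 ^ (2 * m + 1) + 2 ^ (m + 1) + 1,
      2 ^ (2 * m + 1) - 2 ^ (m + 1) + 1} : Set ℕ) ∧
    M ≤ Subgroup.normalizer (U : Set (Sz F m))) ∨
  (∃ (K : Type) (_ : Field K) (_ : Fintype K) (k : ℕ), 1 ≤ k ∧ k < m ∧
    Fintype.card K = 2 ^ (2 * k + 1) ∧ 2 * k + 1 ∣ 2 * m + 1 ∧
    ∃ S : Subgroup (Sz F m), Nonempty (S ≃* Sz K k) ∧ M ≤ S)

theorem Concl.of_conj {M : Subgroup (Sz F m)} {g : Sz F m}
    (h : Concl m (M.map (MulAut.conj g).toMonoidHom)) : Concl m M := by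
  have key : ∀ S : Subgroup (Sz F m), M.map (MulAut.conj g).toMonoidHom ≤ S →
      M ≤ S.map (MulAut.conj g⁻¹).toMonoidHom := by
    intro S hS x hx
    refine ⟨g * x * g⁻¹, hS ⟨x, hx, rfl⟩, ?_⟩
    show g⁻¹ * (g * x * g⁻¹) * g⁻¹⁻¹ = x
    group
  rcases h with ⟨P, hP⟩ | ⟨U, hU, hc, hN⟩ | ⟨K, _, _, k, hk, hkm, hK, hd, S, ⟨e⟩, hS⟩
  · refine Or.inl ⟨g⁻¹ • P, fun x hx => ?_⟩
    have h1 := key _ hP hx
    rw [Subgroup.map_equiv_normalizer_eq] at h1
    exact h1
  · refine Or.inr (Or.inl ⟨U.map (MulAut.conj g⁻¹).toMonoidHom, ?_, ?_, fun x hx => ?_⟩)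
    · exact isCyclic_of_surjective (U.equivMapOfInjective (MulAut.conj g⁻¹).toMonoidHom
        (MulEquiv.injective _)).toMonoidHom (MulEquiv.surjective _)
    · rw [Subgroup.card_map_of_injective (MulEquiv.injective _)]; exact hc
    · have h1 := key _ hN hx
      rw [Subgroup.map_equiv_normalizer_eq] at h1
      exact h1
  · exact Or.inr (Or.inr ⟨K, _, _, k, hk, hkm, hK, hd, S.map (MulAut.conj g⁻¹).toMonoidHom,
      ⟨(S.equivMapOfInjective _ (MulEquiv.injective _)).symm.trans e⟩, key S hS⟩)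

variable {hF : Fintype.card F = 2 ^ (2 * m + 1)} {M : Subgroup (Sz F m)}

theorem IsCell.concl {x : M} {X : Subgroup (Sz F m)} (h : IsCell (hF := hF) x X) (hx : x ≠ 1)
    {n : ℕ} (hN : Nat.card (Subgroup.normalizer (Subgroup.centralizer ({x} : Set M) : Set M)) =
      n * Nat.card (Subgroup.centralizer ({x} : Set M)))
    (hg : Nat.card M = n * Nat.card (Subgroup.centralizer ({x} : Set M))) : Concl m M := by
  refine Or.inr (Or.inl ⟨X, h.torus.cyclic, h.torus.card_mem, fun y hy => ?_⟩)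
  have htop : Subgroup.normalizer (Subgroup.centralizer ({x} : Set M) : Set M) = ⊤ :=
    Subgroup.eq_top_of_card_eq _ (hN.trans hg.symm)
  rw [h.normalizer_eq hx, Subgroup.subgroupOf_eq_top] at htop
  exact htop hy

theorem tor_subset (M : Subgroup (Sz F m)) : Tor hF M ⊆ ({1}ᶜ : Set M) := fun _ h => h.1

/-- Subgroups of odd order. -/
theorem concl_of_odd (hm : 1 ≤ m) (hF : Fintype.card F = 2 ^ (2 * m + 1))
    (hodd : Odd (Nat.card M)) : Concl m M := by
  rcases eq_or_ne M ⊥ with rfl | hne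
  · exact Or.inl ⟨uSylow hm hF, bot_le⟩
  obtain ⟨z, hzM, hz⟩ := (Subgroup.bot_or_exists_ne_one M).resolve_left hne
  have hall : ∀ x : M, x ≠ 1 → x ∈ Tor hF M := by
    intro x hx
    refine ⟨hx, fun hU => hx ?_⟩
    have h4 : orderOf x ∣ 2 ^ 2 := by rw [← Subgroup.orderOf_coe]; exact orderOf_dvd_four hF hU
    exact orderOf_eq_one_iff.1 (((Nat.coprime_two_right.2
      (hodd.of_dvd_nat (orderOf_dvd_natCard x))).pow_right 2).eq_one_of_dvd h4)
  have hz' : (⟨z, hzM⟩ : M) ≠ 1 := fun e => hz (congrArg Subtype.val e)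
  have hcell : ∀ x : M, x ≠ 1 → ∃ X, IsCell (hF := hF) x X ∧
      Nat.card (Subgroup.normalizer (Subgroup.centralizer ({x} : Set M) : Set M)) =
        1 * Nat.card (Subgroup.centralizer ({x} : Set M)) ∧
      (conjSet (Subgroup.centralizer ({x} : Set M))).ncard *
          Nat.card (Subgroup.centralizer ({x} : Set M)) =
        Nat.card M * (Nat.card (Subgroup.centralizer ({x} : Set M)) - 1) ∧
      4 * Nat.card M ≤ 5 * (conjSet (Subgroup.centralizer ({x} : Set M))).ncard := by
    intro x hx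
    obtain ⟨X, hX⟩ := exists_isCell hm (hall x hx)
    obtain ⟨n, hn, hN, hw, h5⟩ := hX.ncard hx
    obtain rfl : n = 1 := by
      have hd : n ∣ Nat.card M := (dvd_mul_right n _).trans (hN ▸ Subgroup.card_subgroup_dvd_card _)
      have h' := hodd.of_dvd_nat hd
      rw [Nat.odd_iff] at h'
      omega
    exact ⟨X, hX, hN, by rwa [one_mul] at hw, by rwa [mul_one] at h5⟩
  obtain ⟨X, hX, hN, hw, h5⟩ := hcell _ hz'
  have hcompl : ({1}ᶜ : Set M).ncard = Nat.card M - 1 := by
    rw [Set.ncard_compl, Set.ncard_singleton]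
  have hg0 : 0 < Nat.card M := Nat.card_pos
  by_cases hsub : ({1}ᶜ : Set M) ⊆ conjSet (Subgroup.centralizer ({⟨z, hzM⟩} : Set M))
  · have heq := Set.Subset.antisymm (hX.subset.trans (tor_subset M)) hsub
    rw [heq, hcompl] at hw
    set a := Nat.card (Subgroup.centralizer ({⟨z, hzM⟩} : Set M))
    have ha := hX.five_le
    refine hX.concl hz' hN ?_
    have h1 : (Nat.card M - 1) * a = Nat.card M * a - a := by rw [Nat.sub_mul, one_mul]
    have h2 : Nat.card M * (a - 1) = Nat.card M * a - Nat.card M := by rw [Nat.mul_sub, mul_one]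
    have h3 : a ≤ Nat.card M * a := Nat.le_mul_of_pos_left _ hg0
    have h4 : Nat.card M ≤ Nat.card M * a := Nat.le_mul_of_pos_right _ (by omega)
    omega
  · exfalso
    obtain ⟨y, hy, hyn⟩ := Set.not_subset.1 hsub
    obtain ⟨Y, hY, -, -, h5'⟩ := hcell y hy
    have hle := Set.ncard_le_ncard (Set.union_subset (hX.subset.trans (tor_subset M))
      (hY.subset.trans (tor_subset M))) (Set.toFinite _)
    rw [Set.ncard_union_eq (hX.disjoint hY hy hyn) (Set.toFinite _) (Set.toFinite _), hcompl] at hle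
    omega

/-- The pairs of involutions with product in a torus. -/
theorem pairs_eq [DecidableEq M] (hm : 1 ≤ m) {O e : ℕ}
    (htor : Tor hF M = ({1} ∪ conjSet ((uGrp hF).subgroupOf M))ᶜ)
    (hJ : {u : M | u ≠ 1 ∧ u * u = 1} = conjSet ((zGrp hF).subgroupOf M))
    (hJc : (conjSet ((zGrp hF).subgroupOf M)).ncard = O * e)
    (hR : Nat.card ((zGrp hF).subgroupOf M) = e + 1) :
    O * e * (O * e - e) = ∑ z ∈ (Set.toFinite (Tor hF M)).toFinset,
      {u : M | u ≠ 1 ∧ u * u = 1 ∧ u * z * u⁻¹ = z⁻¹}.ncard := by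
  classical
  haveI : Fintype M := Fintype.ofFinite M
  set R := (zGrp hF).subgroupOf M with hRdef
  set J : Finset M := Finset.univ.filter fun u => u ≠ 1 ∧ u * u = 1 with hJdef
  set T : Finset M := (Set.toFinite (Tor hF M)).toFinset with hT
  have hJcard : J.card = O * e := by
    rw [← hJc, ← hJ, ← Set.ncard_coe_finset]
    congr 1
    ext u
    simp [hJdef]
  have key := Finset.sum_card_bipartiteAbove_eq_sum_card_bipartiteBelow
    (fun (u z : M) => u * z * u⁻¹ = z⁻¹) (s := J) (t := T)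
  have hright : ∀ z ∈ T, (Finset.bipartiteBelow (fun (u z : M) => u * z * u⁻¹ = z⁻¹) J z).card =
      {u : M | u ≠ 1 ∧ u * u = 1 ∧ u * z * u⁻¹ = z⁻¹}.ncard := by
    intro z _
    rw [← Set.ncard_coe_finset]
    congr 1
    ext u
    simp [Finset.bipartiteBelow, hJdef, and_assoc]
  rw [Finset.sum_congr rfl hright] at key
  rw [← key]
  have hleft : ∀ u ∈ J, (Finset.bipartiteAbove (fun (u z : M) => u * z * u⁻¹ = z⁻¹) T u).card =
      O * e - e := by
    intro u hu
    simp only [hJdef, Finset.mem_filter, Finset.mem_univ, true_and] at hu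
    obtain ⟨hu1, hu2⟩ := hu
    have huinv : u⁻¹ = u := inv_eq_of_mul_eq_one_right hu2
    obtain ⟨-, y, hy⟩ : u ∈ conjSet R := hJ ▸ (⟨hu1, hu2⟩ : u ≠ 1 ∧ u * u = 1)
    set V : Finset M := J.filter fun v => y⁻¹ * v * y ∈ R with hV
    have hVcard : V.card = e := by
      have h1 : ((↑V : Set M)) = (fun r => y * r * y⁻¹) '' ((R : Set M) \ {1}) := by
        ext v
        simp only [hV, hJdef, Finset.coe_filter, Finset.mem_filter, Finset.mem_univ, true_and,
          Set.mem_setOf_eq, Set.mem_image, Set.mem_sdiff, SetLike.mem_coe, Set.mem_singleton_iff]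
        constructor
        · rintro ⟨⟨hv1, -⟩, hv⟩
          exact ⟨_, ⟨hv, fun e => hv1 (by
            calc v = y * (y⁻¹ * v * y) * y⁻¹ := by group
              _ = 1 := by rw [e]; group)⟩, by group⟩
        · rintro ⟨r, ⟨hr, hr1⟩, rfl⟩
          have hr2 : y⁻¹ * (y * r * y⁻¹) * y = r := by group
          rw [hr2]
          refine ⟨?_, hr⟩
          have : y * r * y⁻¹ ∈ conjSet R := ⟨fun e => hr1 (by
            calc r = y⁻¹ * (y * r * y⁻¹) * y := by group
              _ = 1 := by rw [e]; group), y, by rw [hr2]; exact hr⟩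
          rw [← hJ] at this
          exact this
      rw [← Set.ncard_coe_finset, h1, Set.ncard_image_of_injective _
        (fun a b h => mul_left_cancel (mul_right_cancel h)),
        Set.ncard_sdiff_singleton_of_mem R.one_mem, ← Nat.card_coe_set_eq]
      exact Nat.sub_eq_of_eq_add hR
    have himg : Finset.bipartiteAbove (fun (u z : M) => u * z * u⁻¹ = z⁻¹) T u =
        (J \ V).image (fun v => u * v) := by
      ext z
      simp only [Finset.bipartiteAbove, Finset.mem_filter, Finset.mem_image, Finset.mem_sdiff, hT,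
        Set.Finite.mem_toFinset, hV, hJdef, Finset.mem_univ, true_and, not_and]
      constructor
      · rintro ⟨hz, hzu⟩
        rw [htor] at hz
        simp only [Set.mem_compl_iff, Set.mem_union, Set.mem_singleton_iff, not_or] at hz
        have huz : u * z * u = z⁻¹ := by rwa [huinv] at hzu
        refine ⟨u * z, ⟨⟨fun e => ?_, ?_⟩, fun _ hR' => ?_⟩, by rw [← mul_assoc, hu2, one_mul]⟩
        · have e' : z = u := (eq_inv_of_mul_eq_one_right e).trans huinv
          obtain ⟨hz1, y', hy'⟩ : u ∈ conjSet R := hJ ▸ (⟨hu1, hu2⟩ : u ≠ 1 ∧ u * u = 1)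
          exact hz.2 (e'.symm ▸ ⟨hz1, y', zGrp_le hF (Subgroup.mem_subgroupOf.1 hy')⟩)
        · calc u * z * (u * z) = u * z * u * z := by group
            _ = 1 := by rw [huz, inv_mul_cancel]
        · refine hz.2 ⟨hz.1, y, ?_⟩
          have : y⁻¹ * z * y = (y⁻¹ * u * y) * (y⁻¹ * (u * z) * y) := by
            calc y⁻¹ * z * y = y⁻¹ * (u * u * z) * y := by rw [hu2, one_mul]
              _ = _ := by group
          rw [this]
          exact Subgroup.mem_subgroupOf.2 (zGrp_le hF (Subgroup.mem_subgroupOf.1 (mul_mem hy hR')))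
      · rintro ⟨v, ⟨⟨hv1, hv2⟩, hvR⟩, rfl⟩
        have hvR' : y⁻¹ * v * y ∉ R := hvR ⟨hv1, hv2⟩
        have hflip : u * (u * v) * u⁻¹ = (u * v)⁻¹ := by
          rw [_root_.mul_inv_rev, huinv, inv_eq_of_mul_eq_one_right hv2, ← mul_assoc, hu2, one_mul]
        refine ⟨?_, hflip⟩
        rw [htor]
        simp only [Set.mem_compl_iff, Set.mem_union, Set.mem_singleton_iff, not_or]
        refine ⟨fun e => hvR' ?_, ?_⟩
        · rw [eq_inv_of_mul_eq_one_right e, huinv]; exact hy
        rintro ⟨huv1, y', hy'⟩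
        -- both involutions lie in the same Sylow subgroup
        apply hvR'
        have hz' : (y'⁻¹ * (u * v) * y' : M).1 ∈ uGrp hF := Subgroup.mem_subgroupOf.1 hy'
        have hz1 : (y'⁻¹ * (u * v) * y' : M).1 ≠ 1 := fun e => huv1 (by
          have e' : y'⁻¹ * (u * v) * y' = 1 := Subtype.ext e
          calc u * v = y' * (y'⁻¹ * (u * v) * y') * y'⁻¹ := by group
            _ = 1 := by rw [e']; group)
        have hu'B : (y'⁻¹ * u * y' : M).1 ∈ MulAction.stabilizer (Sz F m) (suzukiPointInfinity F) := by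
          rw [← normalizer_uGrp hm hF]
          refine isTI_uGrp hm hF _ _ hz' hz1 ?_
          have e : (y'⁻¹ * u * y') * (y'⁻¹ * (u * v) * y') * (y'⁻¹ * u * y')⁻¹ =
              (y'⁻¹ * (u * v) * y')⁻¹ := by
            calc _ = y'⁻¹ * (u * (u * v) * u⁻¹) * y' := by group
              _ = _ := by rw [hflip]; group
          have e' := congrArg Subtype.val e
          simp only [Subgroup.coe_mul, InvMemClass.coe_inv] at e' ⊢
          rw [e']
          exact inv_mem hz'
        have hu'Z : (y'⁻¹ * u * y' : M).1 ∈ zGrp hF := involution_mem_zGrp hm hF (by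
          rw [← Subgroup.coe_mul, show y'⁻¹ * u * y' * (y'⁻¹ * u * y') = (1 : M) by
            calc _ = y'⁻¹ * (u * u) * y' := by group
              _ = 1 := by rw [hu2]; group]
          rfl) hu'B
        have hv'U : (y'⁻¹ * v * y' : M).1 ∈ uGrp hF := by
          have e : y'⁻¹ * v * y' = (y'⁻¹ * u * y')⁻¹ * (y'⁻¹ * (u * v) * y') := by group
          rw [e, Subgroup.coe_mul, InvMemClass.coe_inv]
          exact mul_mem (inv_mem (zGrp_le hF hu'Z)) hz'
        have hv'Z : (y'⁻¹ * v * y' : M).1 ∈ zGrp hF := involution_mem_zGrp hm hF (by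
          rw [← Subgroup.coe_mul, show y'⁻¹ * v * y' * (y'⁻¹ * v * y') = (1 : M) by
            calc _ = y'⁻¹ * (v * v) * y' := by group
              _ = 1 := by rw [hv2]; group]
          rfl) (uGrp_le_stab hF hv'U)
        have hB : (y⁻¹ * y' : M).1 ∈ MulAction.stabilizer (Sz F m) (suzukiPointInfinity F) := by
          rw [← normalizer_uGrp hm hF]
          refine isTI_uGrp hm hF _ _ (zGrp_le hF hu'Z) ?_ ?_
          · intro e
            have e' : y'⁻¹ * u * y' = 1 := Subtype.ext e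
            exact hu1 (by
              calc u = y' * (y'⁻¹ * u * y') * y'⁻¹ := by group
                _ = 1 := by rw [e']; group)
          · have e : (y⁻¹ * y') * (y'⁻¹ * u * y') * (y⁻¹ * y')⁻¹ = y⁻¹ * u * y := by group
            have e' := congrArg Subtype.val e
            simp only [Subgroup.coe_mul, InvMemClass.coe_inv] at e' ⊢
            rw [e']
            exact zGrp_le hF (Subgroup.mem_subgroupOf.1 hy)
        obtain ⟨b, hb⟩ := (mem_zGrp hF).1 hv'Z
        obtain ⟨b', hb'⟩ := tS_zero_conj hm hF hB b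
        rw [hRdef, Subgroup.mem_subgroupOf]
        have e : y⁻¹ * v * y = (y⁻¹ * y') * (y'⁻¹ * v * y') * (y⁻¹ * y')⁻¹ := by group
        have e' := congrArg Subtype.val e
        simp only [Subgroup.coe_mul, InvMemClass.coe_inv] at e' hb hb' ⊢
        rw [e', ← hb, hb']
        exact (mem_zGrp hF).2 ⟨_, rfl⟩
    rw [himg, Finset.card_image_of_injective _ (mul_right_injective u),
      Finset.card_sdiff_of_subset (Finset.filter_subset _ _), hVcard, hJcard]
  rw [Finset.sum_congr rfl hleft, Finset.sum_const, hJcard, smul_eq_mul]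

/-- The two anisotropic classes give the subfield group. -/
theorem exists_subfield_le (hm : 1 ≤ m) (hF : Fintype.card F = 2 ^ (2 * m + 1))
    (hpos : IsPos hF M) {β : ℕ} (hβ : 3 ≤ β)
    (hC : Nat.card ((hGrp hF).subgroupOf M) + 1 = 2 ^ β)
    (hR : Nat.card ((zGrp hF).subgroupOf M) = 2 ^ β)
    (hA : Nat.card ((uGrp hF).subgroupOf M) = 2 ^ β * 2 ^ β)
    (hO : ((MulAction.stabilizer (Sz F m) (suzukiPointInfinity F)).subgroupOf M).index =
      1 + 2 ^ β * 2 ^ β)
    (hg : Nat.card M = (1 + 2 ^ β * 2 ^ β) * (2 ^ β * 2 ^ β) *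
      Nat.card ((hGrp hF).subgroupOf M))
    {n : Sz F m} (hn : n ∈ M) (h0 : n.1 • suzukiPointInfinity F = suzukiPointZero F)
    (h1 : n.1 • suzukiPointZero F = suzukiPointInfinity F) (hne : M ≠ ⊤) : Concl m M := by
  classical
  haveI : Fact (Nat.Prime 2) := ⟨Nat.prime_two⟩
  set e := Nat.card ((hGrp hF).subgroupOf M) with he
  have hs8 : 8 ≤ 2 ^ β := le_trans (by norm_num) (Nat.pow_le_pow_right (by norm_num) hβ)
  -- the degree of the subfield
  have hdiv : β ∣ 2 * m + 1 := by
    have hd : 2 ^ β - 1 ∣ 2 ^ (2 * m + 1) - 1 := by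
      have h : e ∣ Nat.card (hGrp hF : Subgroup (Sz F m)) := by
        rw [he, ← Subgroup.inf_subgroupOf_right,
          Nat.card_congr (Subgroup.subgroupOfEquivOfLe inf_le_right).toEquiv]
        exact Subgroup.card_dvd_of_le inf_le_left
      rw [card_hGrp, hF] at h
      rwa [show 2 ^ β - 1 = e by omega]
    have hgcd := Nat.pow_sub_one_gcd_pow_sub_one 2 β (2 * m + 1)
    rw [Nat.gcd_eq_left hd] at hgcd
    have h3 : 2 ^ β = 2 ^ β.gcd (2 * m + 1) := by
      have : 1 ≤ 2 ^ β.gcd (2 * m + 1) := Nat.one_le_two_pow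
      omega
    rw [Nat.pow_right_injective le_rfl h3]
    exact Nat.gcd_dvd_right _ _
  obtain ⟨k, hk⟩ : ∃ k, β = 2 * k + 1 := by
    obtain ⟨d, hd⟩ := hdiv
    exact (Nat.odd_mul.1 (hd ▸ ⟨m, rfl⟩ : Odd (β * d))).1
  subst hk
  have hk1 : 1 ≤ k := by omega
  haveI : Fintype (GaloisField 2 (2 * k + 1)) := Fintype.ofFinite _
  have hK : Fintype.card (GaloisField 2 (2 * k + 1)) = 2 ^ (2 * k + 1) := by
    rw [← Nat.card_eq_fintype_card, GaloisField.card 2 (2 * k + 1) (by omega)]
  obtain ⟨ι⟩ := exists_ringHom (by omega) hK hF hdiv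
  obtain ⟨φ, hφinj, hφT, hφH, hφW⟩ := exists_subfieldHom hm hF hk1 hK hdiv ι
  -- the torus part
  have hKu : Nat.card (GaloisField 2 (2 * k + 1))ˣ = e := by
    rw [Nat.card_units, Nat.card_eq_fintype_card, hK]
    omega
  let f := Units.map (ι.toMonoidHom)
  have hL : ∀ u, hS hF (f u) ∈ M := by
    intro u
    set L : Set Fˣ := {v | hS hF v ∈ M} with hLdef
    have hLcard : L.ncard = e := by
      rw [← Nat.card_coe_set_eq, he]
      refine Nat.card_eq_of_bijective
        (fun u => ⟨⟨hS hF u.1, u.2⟩, (mem_hGrp hF).2 ⟨u.1, rfl⟩⟩)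
        ⟨fun u v h => Subtype.ext (H_inj (congrArg (fun z : (hGrp hF).subgroupOf M => z.1.1.1) h)),
          fun x => ?_⟩
      obtain ⟨u, hu⟩ := (mem_hGrp hF).1 (Subgroup.mem_subgroupOf.1 x.2)
      exact ⟨⟨u, by show hS hF u ∈ M; rw [hu]; exact x.1.2⟩, Subtype.ext (Subtype.ext hu)⟩
    let Lg : Subgroup Fˣ :=
      { carrier := L
        mul_mem' := fun {a b} ha hb => by show hS hF (a * b) ∈ M; rw [hS_mul_units]; exact mul_mem ha hb
        one_mem' := by show hS hF 1 ∈ M; rw [hS_one]; exact one_mem _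
        inv_mem' := fun {a} ha => by show hS hF a⁻¹ ∈ M; rw [← hS_inv]; exact inv_mem ha }
    have hsubL : L ⊆ {x : Fˣ | x ^ e = 1} := by
      intro v hv
      have h := pow_card_eq_one' (G := Lg) (x := ⟨v, hv⟩)
      rw [show Nat.card Lg = e from (Nat.card_coe_set_eq L).trans hLcard] at h
      exact congrArg Subtype.val h
    have hle : ({x : Fˣ | x ^ e = 1} : Set Fˣ).ncard ≤ e := by
      rw [Set.ncard_eq_toFinset_card']
      refine le_trans (le_of_eq ?_) (IsCyclic.card_pow_eq_one_le (α := Fˣ) (n := e) (by omega))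
      congr 1
      ext x
      simp
    have heq := Set.eq_of_subset_of_ncard_le hsubL (hLcard.symm ▸ hle) (Set.toFinite _)
    show f u ∈ L
    rw [heq]
    show f u ^ e = 1
    rw [← map_pow, ← hKu, pow_card_eq_one', map_one]
  -- the involution interchanging the two points
  obtain ⟨v, hv⟩ := (mem_hGrp hF).1 (mem_hGrp_of_fix hm hF (g := wS hF * n)
    (by show (W * n.1) • _ = _; rw [mul_smul, h0, W_smul_zero])
    (by show (W * n.1) • _ = _; rw [mul_smul, h1, W_smul_inf]))
  have hnv : wS hF * hS hF v = n := by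
    rw [hv, ← mul_assoc, show wS hF * wS hF = 1 from Subtype.ext W_mul_W, one_mul]
  obtain ⟨r, hr⟩ := exists_sqrt hF v
  obtain ⟨c, hc, hcM⟩ := hpos.invol
  set R' : Set F := {b | tS hF 0 b ∈ M} with hR'
  have hR'card : R'.ncard = 2 ^ (2 * k + 1) := by
    rw [← Nat.card_coe_set_eq, ← hR]
    refine Nat.card_eq_of_bijective
      (fun b => ⟨⟨tS hF 0 b.1, b.2⟩, (mem_zGrp hF).2 ⟨b.1, rfl⟩⟩)
      ⟨fun b c h => Subtype.ext (tS_params_inj hF
        (congrArg (fun z : (zGrp hF).subgroupOf M => z.1.1) h)).2, fun x => ?_⟩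
    obtain ⟨b, hb⟩ := (mem_zGrp hF).1 (Subgroup.mem_subgroupOf.1 x.2)
    exact ⟨⟨b, by show tS hF 0 b ∈ M; rw [hb]; exact x.1.2⟩, Subtype.ext (Subtype.ext hb)⟩
  have hR'eq : R' = Set.range fun x => ι x * c := by
    refine (Set.eq_of_subset_of_ncard_le ?_ ?_ (Set.toFinite _)).symm
    · rintro _ ⟨x, rfl⟩
      show tS hF 0 (ι x * c) ∈ M
      rcases eq_or_ne x 0 with rfl | hx
      · rw [map_zero, zero_mul, tS_zero]; exact one_mem _
      · obtain ⟨y, hy⟩ := exists_th_eq hK x
        have hy0 : y ≠ 0 := fun e => hx (by rw [← hy, e, th_zero])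
        have h := mul_mem (mul_mem (hL (Units.mk0 y hy0)) hcM) (inv_mem (hL (Units.mk0 y hy0)))
        rw [hS_conj_tS, mul_zero] at h
        have hth : th m ((f (Units.mk0 y hy0) : Fˣ) : F) = ι x := by
          show th m (ι y) = ι x
          rw [th_map hK hdiv ι, hy]
        rwa [hth] at h
    · rw [hR'card, ← Nat.card_coe_set_eq, Nat.card_range_of_injective
        (fun x y h => ι.injective (mul_right_cancel₀ hc h)), Nat.card_eq_fintype_card, hK]
  -- the point image lies in the orbit of `0` under `U ∩ M`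
  have hmove : ∀ b, tS hF 0 b ∈ M → b ≠ 0 →
      ∃ a d, tS hF a d ∈ M ∧ a = th m (v : F) * b / th m (th m (v : F) * b) := by
    intro b hb hb0
    have hz : th m (v : F) * b ≠ 0 := mul_ne_zero (fun e => v.ne_zero (th_eq_zero.1 e)) hb0
    set Orb : Set (Projectivization F (Fin 4 → F)) :=
      Set.range fun y : M => y.1.1 • suzukiPointInfinity F with hOrb
    have hOrb' : Orb = MulAction.orbit M (suzukiPointInfinity F) := by
      ext z
      simp only [hOrb, MulAction.orbit, Set.mem_range, Subgroup.smul_def]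
    have hcard : Orb.ncard = 1 + 2 ^ (2 * k + 1) * 2 ^ (2 * k + 1) := by
      rw [hOrb', ← MulAction.index_stabilizer, ← hO]
      rfl
    set img : Set (Projectivization F (Fin 4 → F)) :=
      Set.range fun y : (uGrp hF).subgroupOf M => y.1.1.1 • suzukiPointZero F with himg
    have hne0 : suzukiPointZero F ≠ suzukiPointInfinity F := by
      rw [zero_eq_aff (m := m)]; exact aff_ne_inf 0 0
    have hnot : suzukiPointInfinity F ∉ img := by
      rintro ⟨y, hy⟩
      exact hne0 (MulAction.injective y.1.1.1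
        (hy.trans (uGrp_le_stab hF (Subgroup.mem_subgroupOf.1 y.2)).symm))
    have himgcard : img.ncard = 2 ^ (2 * k + 1) * 2 ^ (2 * k + 1) := by
      rw [← Nat.card_coe_set_eq, ← hA]
      refine Nat.card_range_of_injective fun y z h => ?_
      have hd : y.1.1.1 • suzukiPointZero F ≠ suzukiPointInfinity F := fun e => hnot ⟨y, e⟩
      exact Subtype.ext (Subtype.ext (congrArg (fun w : uGrp hF => (w : Sz F m))
        ((uGrp_regular hF zero_mem (smul_mem y.1.1.2 zero_mem) hne0 hd).unique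
          (y₁ := ⟨y.1.1, Subgroup.mem_subgroupOf.1 y.2⟩) (y₂ := ⟨z.1.1, Subgroup.mem_subgroupOf.1 z.2⟩)
          rfl h.symm)))
    have hsub : insert (suzukiPointInfinity F) img ⊆ Orb := by
      rintro _ (rfl | ⟨y, rfl⟩)
      · exact ⟨1, one_smul _ _⟩
      · refine ⟨y.1 * ⟨n, hn⟩, ?_⟩
        show (y.1.1.1 * n.1) • _ = _
        rw [mul_smul, h0]
    have heq := Set.eq_of_subset_of_ncard_le hsub (by
      rw [hcard, Set.ncard_insert_of_notMem hnot (Set.toFinite _), himgcard, add_comm]) (Set.toFinite _)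
    have hmem : (n * tS hF 0 b * n).1 • suzukiPointInfinity F ∈ Orb :=
      ⟨⟨_, mul_mem (mul_mem hn hb) hn⟩, rfl⟩
    have hpt : (n * tS hF 0 b * n).1 • suzukiPointInfinity F =
        aff m (th m (v : F) * b / th m (th m (v : F) * b)) 0 := by
      have hzf : zf m (0 : F) (th m (v : F) * b) = th m (th m (v : F) * b) := by simp [zf]
      show (n.1 * T m 0 b * n.1) • _ = _
      rw [mul_smul, mul_smul, h0, zero_eq_aff (m := m), T_smul_aff hF,
        show (0 : F) + 0 = 0 from add_zero 0, show (0 : F) + b + th m (0 : F) * 0 = b by simp,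
        ← hnv]
      show (W * H m v) • _ = _
      rw [mul_smul, H_smul_aff hF, mul_zero,
        W_smul_aff hF 0 _ (by rw [hzf]; exact fun e => hz (th_eq_zero.1 e)), hzf, zero_div]
    rw [← heq, hpt] at hmem
    rcases hmem with hmem | ⟨y, hy⟩
    · exact absurd hmem (aff_ne_inf _ _)
    · obtain ⟨a, d, had⟩ := (mem_uGrp hF).1 (Subgroup.mem_subgroupOf.1 y.2)
      have hy' : y.1.1.1 • suzukiPointZero F = aff m a d := by
        show (M.subtype y.1).1 • _ = _
        rw [show M.subtype y.1 = tS hF a d from had.symm]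
        show T m a d • _ = _
        rw [zero_eq_aff (m := m), T_smul_aff hF]
        simp
      refine ⟨a, d, ?_, (aff_inj (hy'.symm.trans hy)).1⟩
      rw [had]
      exact y.1.2
  obtain ⟨a, d, hadM, ha⟩ := hmove c hcM hc
  have hthr : th m (r : F) ≠ 0 := fun e => r.ne_zero (th_eq_zero.1 e)
  have hthv : th m (v : F) = th m (r : F) * th m (r : F) := by
    rw [← hr, Units.val_mul, th_mul]
  obtain ⟨x, hx⟩ : th m a * a ∈ Set.range fun x => ι x * c := by
    rw [← hR'eq]
    have h := mul_mem hadM hadM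
    rwa [tS_sq] at h
  have hx' : ι x * c * (th m (v : F) * c) = 1 := by
    simp only at hx
    have hz : th m (v : F) * c ≠ 0 := mul_ne_zero (fun e => v.ne_zero (th_eq_zero.1 e)) hc
    have hzz : th m (th m (v : F) * c) ≠ 0 := fun e => hz (th_eq_zero.1 e)
    rw [hx, ha, th_div, th_th hF]
    field_simp
    exact div_self (fun e => v.ne_zero (th_eq_zero.1 e))
  obtain ⟨c₀, hc₀⟩ : ∃ c₀, ι c₀ = th m (r : F) * c := by
    have hx0 : x ≠ 0 := fun e => by simp [e] at hx'
    haveI := charTwo hK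
    obtain ⟨y, hy⟩ := FiniteField.isSquare_of_char_two
      (ringChar.eq (GaloisField 2 (2 * k + 1)) 2) x⁻¹
    refine ⟨y, sq_inj hF ?_⟩
    rw [← map_pow, sq, ← hy, map_inv₀]
    rw [hthv] at hx'
    refine inv_eq_of_mul_eq_one_right ?_
    linear_combination hx'
  have hc₀0 : c₀ ≠ 0 := fun e => by
    rw [e, map_zero] at hc₀
    exact mul_ne_zero hthr hc hc₀.symm
  -- the subfield group is contained in a conjugate of `M`
  have hle : φ.range.map (MulAut.conj (hS hF r)⁻¹).toMonoidHom ≤ M := by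
    rw [MonoidHom.range_eq_map, ← closure_gens hk1 hK, MonoidHom.map_closure, MonoidHom.map_closure,
      Subgroup.closure_le]
    rintro _ ⟨_, ⟨z, (⟨b, rfl⟩ | ⟨u, rfl⟩) | hz, rfl⟩, rfl⟩
    · show (hS hF r)⁻¹ * φ (tS hK 0 b) * (hS hF r)⁻¹⁻¹ ∈ M
      rw [hφT, map_zero, hS_inv, hS_conj_tS, mul_zero]
      show _ ∈ R'
      rw [hR'eq]
      refine ⟨b / c₀, ?_⟩
      show ι (b / c₀) * c = th m ((r⁻¹ : Fˣ) : F) * ι b
      rw [map_div₀, hc₀, Units.val_inv_eq_inv_val, th_inv]
      field_simp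
    · show (hS hF r)⁻¹ * φ (hS hK u) * (hS hF r)⁻¹⁻¹ ∈ M
      rw [hφH, inv_inv, hS_inv, ← hS_mul_units, ← hS_mul_units, mul_comm r⁻¹, inv_mul_cancel_right]
      exact hL u
    · show (hS hF r)⁻¹ * φ z * (hS hF r)⁻¹⁻¹ ∈ M
      rw [Set.mem_singleton_iff] at hz
      rw [hz, hφW, inv_inv, hS_inv]
      have : hS hF r⁻¹ * wS hF * hS hF r = n := by
        rw [← hnv, ← hr, hS_mul_units, ← mul_assoc]
        congr 1
        exact Subtype.ext (W_conj_H r).symm
      rw [this]
      exact hn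
  have hcardK : Nat.card (Sz (GaloisField 2 (2 * k + 1)) k) = Nat.card M := by
    rw [card_Sz hk1 hK, hK, hg]
    have : e = 2 ^ (2 * k + 1) - 1 := by omega
    rw [this]
    ring
  have heqM : φ.range.map (MulAut.conj (hS hF r)⁻¹).toMonoidHom = M := by
    refine Subgroup.eq_of_le_of_card_ge hle ?_
    rw [Subgroup.card_map_of_injective (MulEquiv.injective _),
      Nat.card_congr (MonoidHom.ofInjective hφinj).toEquiv.symm, hcardK]
  have hkm : k < m := by
    rcases Nat.lt_or_ge k m with h | h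
    · exact h
    · exfalso
      obtain rfl : k = m := by
        have := Nat.le_of_dvd (by omega) hdiv
        omega
      refine hne (Subgroup.eq_top_of_card_eq _ ?_)
      rw [← hcardK, card_Sz hm hF, card_Sz hm hK, hF, hK]
  refine Or.inr (Or.inr ⟨GaloisField 2 (2 * k + 1), inferInstance, inferInstance, k, hk1, hkm, hK,
    hdiv, _, ⟨?_⟩, le_rfl⟩)
  exact (MulEquiv.subgroupCongr heqM.symm).trans
    ((φ.range.equivMapOfInjective _ (MulEquiv.injective _)).symm.trans
      (MonoidHom.ofInjective hφinj).symm)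

/-- One split and one further dihedral cell is impossible. -/
theorem no_dihedral {O A e b β : ℕ} (hO : Odd O) (he : 7 ≤ e) (hβ : e + 1 = 2 ^ β)
    (hA : A = 2 ^ β ∨ A = 2 ^ β * 2 ^ β) (hb : Odd b) (hb3 : ¬ 3 ∣ b) (he3 : ¬ 3 ∣ e)
    (hbO : b ∣ O) (h : b * (O * A * (e - 1) + 2 * O) = O * A * e * (b - 1) + 2 * b) : False := by
  obtain ⟨k, rfl⟩ := hbO
  have hk : Odd k := (Nat.odd_mul.1 hO).2
  have hb0 : 0 < b := hb.pos
  obtain ⟨e', rfl⟩ := Nat.exists_eq_add_of_le (show 1 ≤ e by omega)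
  obtain ⟨b', rfl⟩ := Nat.exists_eq_add_of_le (show 1 ≤ b by omega)
  simp only [Nat.add_sub_cancel_left] at h
  have h' : k * ((A : ℤ) * (1 + e') + 2 * (1 + b') - A * (1 + b')) = 2 := by
    have hc : ((1 + b' : ℕ) : ℤ) * (((1 + b' : ℕ) : ℤ) * k * A * e' + 2 * (((1 + b' : ℕ) : ℤ) * k)) =
        ((1 + b' : ℕ) : ℤ) * k * A * ((1 + e' : ℕ) : ℤ) * b' + 2 * ((1 + b' : ℕ) : ℤ) := by
      exact_mod_cast h
    push_cast at hc
    refine mul_left_cancel₀ (show ((1 : ℤ) + b') ≠ 0 by positivity) ?_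
    linear_combination hc
  have hk1 : k = 1 := by
    have hd : (k : ℤ) ∣ 2 := ⟨_, h'.symm⟩
    have hd' : k ∣ 2 := by exact_mod_cast hd
    have := Nat.le_of_dvd (by norm_num) hd'
    rw [Nat.odd_iff] at hk
    omega
  subst hk1
  simp only [Nat.cast_one, one_mul] at h'
  have hbe : 1 + e' < 1 + b' := by
    by_contra hle
    have : (A : ℤ) * (1 + b') ≤ A * (1 + e') := by
      apply mul_le_mul_of_nonneg_left
      · push_cast; omega
      · positivity
    have h3 : (0 : ℤ) < 1 + b' := by positivity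
    have h8 : (6 : ℤ) ≤ e' := by exact_mod_cast (show 6 ≤ e' by omega)
    have h10 : (b' : ℤ) ≤ 0 := by linarith
    have h11 : (b' : ℤ) = 0 := le_antisymm h10 (Int.natCast_nonneg _)
    rw [h11] at h'
    have hA1 : (1 : ℤ) ≤ A := by
      have : 1 ≤ A := by rcases hA with rfl | rfl <;> exact Nat.one_le_iff_ne_zero.2 (by positivity)
      exact_mod_cast this
    nlinarith
  obtain ⟨d, hd⟩ := Nat.exists_eq_add_of_le hbe.le
  have hdpos : 2 ≤ d := by
    rw [Nat.odd_iff] at hb
    have : (1 + e') % 2 = 1 := by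
      have : 2 ∣ 2 ^ β := dvd_pow_self 2 (by rintro rfl; simp at hβ)
      omega
    omega
  have h2 : (d : ℤ) * ((A : ℤ) - 2) = 2 * (1 + e') - 2 := by
    have hd' : (1 : ℤ) + b' = 1 + e' + d := by exact_mod_cast hd
    linear_combination -h' - ((A : ℤ) - 2) * hd'
  have hA2 : 1 + e' + 1 ≤ A := by
    rcases hA with rfl | rfl
    · omega
    · have : 2 ^ β ≤ 2 ^ β * 2 ^ β := Nat.le_mul_of_pos_left _ (by positivity)
      omega
  have hA2' : (1 : ℤ) + e' + 1 ≤ A := by exact_mod_cast hA2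
  have h5 : (2 : ℤ) * ((A : ℤ) - 2) ≤ (d : ℤ) * ((A : ℤ) - 2) :=
    mul_le_mul_of_nonneg_right (by exact_mod_cast hdpos) (by omega)
  have hAe : A = 1 + e' + 1 := by omega
  have hd2 : d = 2 := by
    subst hAe
    push_cast at h2
    have h6 : ((d : ℤ) - 2) * (e' : ℤ) = 0 := by linear_combination h2
    rcases mul_eq_zero.1 h6 with h7 | h7 <;> omega
  have hAs : A = 2 ^ β := by omega
  have hA3 : ¬ 3 ∣ A := by
    rw [hAs]
    exact fun h => absurd (Nat.prime_three.dvd_of_dvd_pow h) (by norm_num)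
  omega

/-- Subgroups of even order in standard position. -/
theorem concl_of_isPos (hm : 1 ≤ m) (hF : Fintype.card F = 2 ^ (2 * m + 1)) (hpos : IsPos hF M)
    (hMB : ¬ M ≤ MulAction.stabilizer (Sz F m) (suzukiPointInfinity F)) (hne : M ≠ ⊤) :
    Concl m M := by
  classical
  obtain ⟨β, O, hβ1, hOodd, hO1, hC, hR, -, hAsize, hg, htor, hAcard, hJ, hJcard, hOidx⟩ :=
    pos_data hm hF hpos hMB
  set A := Nat.card ((uGrp hF).subgroupOf M) with hAdef
  set e := Nat.card ((hGrp hF).subgroupOf M) with hedef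
  have he0 : 0 < e := Nat.card_pos
  have hA0 : 2 ≤ A := by
    have : 2 ^ 1 ≤ 2 ^ β := Nat.pow_le_pow_right (by norm_num) hβ1
    rcases hAsize with h | h
    · omega
    · have := Nat.le_mul_of_pos_left (2 ^ β) (show 0 < 2 ^ β by positivity)
      omega
  have hTor : (Tor hF M).ncard + 1 + O * (A - 1) = Nat.card M := by
    have h1 : (1 : M) ∉ conjSet ((uGrp hF).subgroupOf M) := fun h => h.1 rfl
    rw [htor, ← hAcard, ← Set.ncard_add_ncard_compl ({1} ∪ conjSet ((uGrp hF).subgroupOf M)),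
      Set.ncard_union_eq (Set.disjoint_singleton_left.2 h1) (Set.toFinite _) (Set.toFinite _),
      Set.ncard_singleton]
    ring
  rw [hg] at hTor
  have hOA : O * (A - 1) + O = O * A := by
    rw [← Nat.mul_succ]
    congr 1
    omega
  -- the torus cells
  have hodd_dvd : ∀ x : M, x ∈ Tor hF M →
      Odd (Nat.card (Subgroup.centralizer ({x} : Set M))) ∧
      ¬ 3 ∣ Nat.card (Subgroup.centralizer ({x} : Set M)) ∧
      Nat.card (Subgroup.centralizer ({x} : Set M)) ∣ O * A * e := by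
    intro x hx
    obtain ⟨X, hX⟩ := exists_isCell hm hx
    exact ⟨hX.odd, fun h => not_three_dvd_card hm hF ((h.trans (Subgroup.card_subgroup_dvd_card _)).trans
      M.card_subgroup_dvd_card), hg ▸ Subgroup.card_subgroup_dvd_card _⟩
  have hsubTor : ∀ {x : M} {X : Subgroup (Sz F m)}, IsCell (hF := hF) x X →
      (conjSet (Subgroup.centralizer ({x} : Set M))).ncard ≤ (Tor hF M).ncard :=
    fun hX => Set.ncard_le_ncard hX.subset (Set.toFinite _)
  rcases eq_or_ne e 1 with he1 | he1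
  · -- trivial torus part
    have hs2 : 2 ^ β = 2 := by omega
    have hA24 : A = 2 ∨ A = 4 := by rcases hAsize with h | h <;> rw [hs2] at h <;> omega
    rw [he1, mul_one] at hTor
    have hT1 : (Tor hF M).ncard + 1 = O := by omega
    obtain ⟨x, hx⟩ : (Tor hF M).Nonempty := by
      by_contra h
      rw [Set.not_nonempty_iff_eq_empty.1 h, Set.ncard_empty] at hT1
      omega
    obtain ⟨X, hX⟩ := exists_isCell hm hx
    obtain ⟨n, hn, hN, hw, h5⟩ := hX.ncard hx.1
    rw [hg, he1, mul_one] at h5 hw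
    set a := Nat.card (Subgroup.centralizer ({x} : Set M))
    set w := (conjSet (Subgroup.centralizer ({x} : Set M))).ncard with hwdef
    have hwT := hsubTor hX
    rw [← hwdef] at hwT
    have hnA : n = A := by
      have hd : n * a ∣ O * A := by
        have := hN ▸ Subgroup.card_subgroup_dvd_card
          (Subgroup.normalizer (Subgroup.centralizer ({x} : Set M) : Set M))
        rwa [hg, he1, mul_one] at this
      rw [Nat.odd_iff] at hOodd
      rcases hn with rfl | rfl | rfl <;> rcases hA24 with hA | hA <;> rw [hA] at h5 hd ⊢ <;>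
        first
          | omega
          | (exfalso
             have h4 : 4 ∣ O * 2 := (dvd_mul_right 4 a).trans hd
             omega)
    subst hnA
    by_cases hall : Tor hF M ⊆ conjSet (Subgroup.centralizer ({x} : Set M))
    · have heq := Set.Subset.antisymm hX.subset hall
      have hwO : w + 1 = O := by rw [hwdef, heq]; exact hT1
      refine hX.concl hx.1 hN ?_
      rw [hg, he1, mul_one]
      have ha := hX.five_le
      have hA2 : (w : ℤ) * ((A : ℤ) * a) = O * A * ((a : ℤ) - 1) := by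
        have h' : ((w * (A * a) : ℕ) : ℤ) = ((O * A * (a - 1) : ℕ) : ℤ) := by exact_mod_cast hw
        push_cast [Nat.cast_sub (show 1 ≤ a by omega)] at h'
        exact h'
      have hwO' : (w : ℤ) + 1 = O := by exact_mod_cast hwO
      have : (O : ℤ) * A = A * a := by linear_combination hA2 - (A : ℤ) * a * hwO'
      exact_mod_cast this
    · exfalso
      obtain ⟨y, hy, hyn⟩ := Set.not_subset.1 hall
      obtain ⟨Y, hY⟩ := exists_isCell hm hy
      obtain ⟨n', hn', hN', -, h5'⟩ := hY.ncard hy.1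
      rw [hg, he1, mul_one] at h5'
      have hle := Set.ncard_le_ncard (Set.union_subset hX.subset hY.subset) (Set.toFinite _)
      rw [Set.ncard_union_eq (hX.disjoint hY hy.1 hyn) (Set.toFinite _) (Set.toFinite _)] at hle
      have hn'A : n' ≤ A := by
        rcases hA24 with hA | hA
        · have hd : n' * Nat.card (Subgroup.centralizer ({y} : Set M)) ∣ O * A := by
            have := hN' ▸ Subgroup.card_subgroup_dvd_card
              (Subgroup.normalizer (Subgroup.centralizer ({y} : Set M) : Set M))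
            rwa [hg, he1, mul_one] at this
          rcases hn' with rfl | rfl | rfl
          · omega
          · omega
          · exfalso
            have h4 : 4 ∣ O * A := (dvd_mul_right 4 _).trans hd
            rw [hA] at h4
            rw [Nat.odd_iff] at hOodd
            omega
        · omega
      set w' := (conjSet (Subgroup.centralizer ({y} : Set M))).ncard
      have h6 : 5 * n' * w' ≤ 5 * A * w' := Nat.mul_le_mul_right _ (Nat.mul_le_mul_left _ hn'A)
      rcases hA24 with hA | hA <;> rw [hA] at h5 h5' h6 <;> omega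
  -- the split torus part has order at least seven
  have he7 : 7 ≤ e := by
    have h3 : ¬ 3 ∣ e := fun h => not_three_dvd_card hm hF ((h.trans (Subgroup.card_subgroup_dvd_card _)).trans
      M.card_subgroup_dvd_card)
    rcases lt_or_ge β 3 with h | h
    · interval_cases β <;> omega
    · have : 8 ≤ 2 ^ β := le_trans (by norm_num) (Nat.pow_le_pow_right (by norm_num) h)
      omega
  have hβ3 : 3 ≤ β := by
    by_contra h
    have : 2 ^ β ≤ 2 ^ 2 := Nat.pow_le_pow_right (by norm_num) (by omega)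
    omega
  obtain ⟨⟨x₀, hx₀C⟩, hx₀ne⟩ := haveI : Nontrivial ((hGrp hF).subgroupOf M) :=
    Finite.one_lt_card_iff_nontrivial.1 (by omega); exists_ne (1 : (hGrp hF).subgroupOf M)
  have hx₀1 : x₀ ≠ 1 := fun h => hx₀ne (Subtype.ext h)
  have hx₀H : x₀.1 ∈ hGrp hF := Subgroup.mem_subgroupOf.1 hx₀C
  have hCeq : Subgroup.centralizer ({x₀} : Set M) = (hGrp hF).subgroupOf M := by
    ext y
    rw [Subgroup.mem_centralizer_singleton_iff, Subgroup.mem_subgroupOf,
      ← centralizer_hS hm hF hx₀H (fun h => hx₀1 (Subtype.ext h)),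
      Subgroup.mem_centralizer_singleton_iff]
    exact Subtype.ext_iff
  have hx₀T : x₀ ∈ Tor hF M := by
    refine ⟨hx₀1, fun hU => hx₀1 ?_⟩
    have h4 : orderOf x₀ ∣ 2 ^ 2 := by rw [← Subgroup.orderOf_coe]; exact orderOf_dvd_four hF hU
    have hd : orderOf x₀ ∣ Nat.card (hGrp hF : Subgroup (Sz F m)) := by
      rw [← Subgroup.orderOf_coe, ← Subgroup.orderOf_mk x₀.1 hx₀H]
      exact orderOf_dvd_natCard _
    exact orderOf_eq_one_iff.1 (((Nat.coprime_two_right.2
      ((isTorusLike_hGrp hm hF).odd.of_dvd_nat hd)).pow_right 2).eq_one_of_dvd h4)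
  obtain ⟨X₀, hX₀⟩ := exists_isCell hm hx₀T
  have hX₀H : X₀ = hGrp hF := by
    rw [← hX₀.torus.cent x₀.1 hX₀.mem (fun h => hx₀1 (Subtype.ext h)),
      centralizer_hS hm hF hx₀H (fun h => hx₀1 (Subtype.ext h))]
  obtain ⟨n₀, hn₀, hN₀, hw₀, -⟩ := hX₀.ncard hx₀1
  obtain ⟨n₀', hn₀', hN₀'⟩ := hX₀.exists_index hx₀1 (ν := 2) (by
    rw [hX₀H, card_hGrp]
    obtain ⟨-, -, -, -, hN, -⟩ := partition hm hF
    exact hN)
  obtain rfl : n₀ = n₀' := by
    refine Nat.eq_of_mul_eq_mul_right ?_ (hN₀.symm.trans hN₀')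
    exact Nat.card_pos
  have he₀ : Nat.card (Subgroup.centralizer ({x₀} : Set M)) = e := by rw [hCeq]
  rw [he₀, hg] at hw₀
  set w₀ := (conjSet (Subgroup.centralizer ({x₀} : Set M))).ncard with hw₀def
  have hn₀12 : n₀ = 1 ∨ n₀ = 2 := by
    have := Nat.le_of_dvd (by norm_num) hn₀'
    rcases hn₀ with h | h | h <;> omega
  have hw₀' : n₀ * w₀ = O * A * (e - 1) := by
    refine Nat.eq_of_mul_eq_mul_right he0 ?_
    calc n₀ * w₀ * e = w₀ * (n₀ * e) := by ring
      _ = O * A * e * (e - 1) := hw₀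
      _ = _ := by ring
  have hOAe : O * A * (e - 1) + O * A = O * A * e := by
    rw [← Nat.mul_succ]
    congr 1
    omega
  have hunit : ∀ y ∈ Tor hF M, ∃ Y n, IsCell (hF := hF) y Y ∧ (n = 1 ∨ n = 2 ∨ n = 4) ∧
      Nat.card (Subgroup.normalizer (Subgroup.centralizer ({y} : Set M) : Set M)) =
        n * Nat.card (Subgroup.centralizer ({y} : Set M)) ∧
      n * (conjSet (Subgroup.centralizer ({y} : Set M))).ncard *
        Nat.card (Subgroup.centralizer ({y} : Set M)) =
          O * A * e * (Nat.card (Subgroup.centralizer ({y} : Set M)) - 1) ∧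
      4 * (O * A * e) ≤ 5 * n * (conjSet (Subgroup.centralizer ({y} : Set M))).ncard := by
    intro y hy
    obtain ⟨Y, hY⟩ := exists_isCell hm hy
    obtain ⟨n, hn, hN, hw, h5⟩ := hY.ncard hy.1
    rw [hg] at hw h5
    exact ⟨Y, n, hY, hn, hN, by rw [← hw]; ring, h5⟩
  have hOA2 : 2 * O ≤ O * A := by rw [mul_comm 2 O]; exact Nat.mul_le_mul_left _ hA0
  have hOAe7 : 7 * (O * A) ≤ O * A * e := by rw [mul_comm 7]; exact Nat.mul_le_mul_left _ he7
  -- a further cell exists
  obtain ⟨x₁, hx₁, hx₁n⟩ : ∃ y ∈ Tor hF M, y ∉ conjSet (Subgroup.centralizer ({x₀} : Set M)) := by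
    refine Set.not_subset.1 fun h => ?_
    have heq : w₀ = (Tor hF M).ncard := by rw [hw₀def, Set.Subset.antisymm hX₀.subset h]
    rcases hn₀12 with h' | h' <;> rw [h'] at hw₀' <;> omega
  obtain ⟨X₁, n₁, hX₁, hn₁, hN₁, hw₁, h₁5⟩ := hunit x₁ hx₁
  have hd01 := hX₀.disjoint hX₁ hx₁.1 hx₁n
  set w₁ := (conjSet (Subgroup.centralizer ({x₁} : Set M))).ncard with hw₁def
  have hle1 : w₀ + w₁ ≤ (Tor hF M).ncard := by
    rw [hw₀def, hw₁def, ← Set.ncard_union_eq hd01 (Set.toFinite _) (Set.toFinite _)]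
    exact Set.ncard_le_ncard (Set.union_subset hX₀.subset hX₁.subset) (Set.toFinite _)
  obtain rfl : n₀ = 2 := by
    rcases hn₀12 with h | h
    · exfalso
      rw [h] at hw₀'
      have h6 : 5 * n₁ * w₁ ≤ 5 * 4 * w₁ :=
        Nat.mul_le_mul_right _ (Nat.mul_le_mul_left _ (by omega))
      omega
    · exact h
  -- an element interchanging the two fixed points
  obtain ⟨y₀, hy₀N, hy₀C⟩ : ∃ y ∈ Subgroup.normalizer (Subgroup.centralizer ({x₀} : Set M) : Set M),
      y ∉ Subgroup.centralizer ({x₀} : Set M) := by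
    refine SetLike.not_le_iff_exists.1 fun h => ?_
    have := Nat.le_of_dvd Nat.card_pos (Subgroup.card_dvd_of_le h)
    rw [hN₀, he₀] at this
    omega
  rw [hX₀.normalizer_eq hx₀1, hX₀H, Subgroup.mem_subgroupOf] at hy₀N
  rw [hCeq, Subgroup.mem_subgroupOf] at hy₀C
  obtain ⟨p1, p2⟩ := normalizer_hGrp hm hF (x := y₀.1) ⟨x₀.1, hx₀H, fun h => hx₀1 (Subtype.ext h),
    (Subgroup.mem_normalizer_iff.1 hy₀N _).1 hx₀H⟩
  have hne0 : suzukiPointZero F ≠ suzukiPointInfinity F := by
    rw [zero_eq_aff (m := m)]; exact aff_ne_inf 0 0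
  have hswap : y₀.1.1 • suzukiPointInfinity F = suzukiPointZero F ∧
      y₀.1.1 • suzukiPointZero F = suzukiPointInfinity F := by
    rcases p1 with p1 | p1 <;> rcases p2 with p2 | p2
    · exact absurd (MulAction.injective y₀.1.1 (p2.trans p1.symm)) hne0
    · exact absurd (mem_hGrp_of_fix hm hF p1 p2) hy₀C
    · exact ⟨p1, p2⟩
    · exact absurd (MulAction.injective y₀.1.1 (p2.trans p1.symm)) hne0
  by_cases hall : Tor hF M ⊆ conjSet (Subgroup.centralizer ({x₀} : Set M)) ∪
      conjSet (Subgroup.centralizer ({x₁} : Set M))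
  · exfalso
    have heq : w₀ + w₁ = (Tor hF M).ncard := by
      refine le_antisymm hle1 ?_
      rw [hw₀def, hw₁def, ← Set.ncard_union_eq hd01 (Set.toFinite _) (Set.toFinite _)]
      exact Set.ncard_le_ncard hall (Set.toFinite _)
    obtain ⟨hb, hb3, hbd⟩ := hodd_dvd x₁ hx₁
    have hbe := hX₀.coprime hm hX₁ hd01
    rw [he₀] at hbe
    have hb5 := hX₁.five_le
    set b := Nat.card (Subgroup.centralizer ({x₁} : Set M)) with hbdef
    have hbO : b ∣ O := by
      have h1 : b ∣ O * A := (hbe.symm).dvd_of_dvd_mul_right hbd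
      refine Nat.Coprime.dvd_of_dvd_mul_right ?_ h1
      rcases hAsize with h | h <;> rw [h]
      · exact Nat.Coprime.pow_right _ (Nat.coprime_two_right.2 hb)
      · rw [← pow_add]
        exact Nat.Coprime.pow_right _ (Nat.coprime_two_right.2 hb)
    have hlt : n₁ * w₁ * b < O * A * e * b := by
      rw [hw₁]
      exact Nat.mul_lt_mul_of_pos_left (by omega) (by positivity)
    have hlt' : n₁ * w₁ < O * A * e := Nat.lt_of_mul_lt_mul_right hlt
    obtain rfl : n₁ = 2 := by
      rcases hn₁ with rfl | rfl | rfl <;> omega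
    have h3e : ¬ 3 ∣ e := fun h => not_three_dvd_card hm hF ((h.trans (Subgroup.card_subgroup_dvd_card _)).trans
      M.card_subgroup_dvd_card)
    refine no_dihedral hOodd he7 hC hAsize hb hb3 h3e hbO ?_
    have h2 : 2 * w₁ + 2 = O * A * (e - 1) + 2 * O := by omega
    rw [← h2, ← hw₁]
    ring
  -- exactly two further cells, both of index four
  obtain ⟨x₂, hx₂, hx₂n⟩ := Set.not_subset.1 hall
  rw [Set.mem_union, not_or] at hx₂n
  obtain ⟨X₂, n₂, hX₂, hn₂, hN₂, hw₂, h₂5⟩ := hunit x₂ hx₂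
  have hd02 := hX₀.disjoint hX₂ hx₂.1 hx₂n.1
  have hd12 := hX₁.disjoint hX₂ hx₂.1 hx₂n.2
  set w₂ := (conjSet (Subgroup.centralizer ({x₂} : Set M))).ncard with hw₂def
  set S₀ := conjSet (Subgroup.centralizer ({x₀} : Set M)) with hS₀
  set S₁ := conjSet (Subgroup.centralizer ({x₁} : Set M)) with hS₁
  set S₂ := conjSet (Subgroup.centralizer ({x₂} : Set M)) with hS₂
  have hd012 : Disjoint (S₀ ∪ S₁) S₂ := Set.disjoint_union_left.2 ⟨hd02, hd12⟩
  have hcard3 : (S₀ ∪ S₁ ∪ S₂).ncard = w₀ + w₁ + w₂ := by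
    rw [Set.ncard_union_eq hd012 (Set.toFinite _) (Set.toFinite _),
      Set.ncard_union_eq hd01 (Set.toFinite _) (Set.toFinite _)]
  have hsub3 : S₀ ∪ S₁ ∪ S₂ ⊆ Tor hF M :=
    Set.union_subset (Set.union_subset hX₀.subset hX₁.subset) hX₂.subset
  have hle2 : w₀ + w₁ + w₂ ≤ (Tor hF M).ncard := hcard3 ▸ Set.ncard_le_ncard hsub3 (Set.toFinite _)
  obtain ⟨rfl, rfl⟩ : n₁ = 4 ∧ n₂ = 4 := by
    rcases hn₁ with rfl | rfl | rfl <;> rcases hn₂ with rfl | rfl | rfl <;>
      first
        | exact ⟨rfl, rfl⟩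
        | (exfalso; omega)
  have hall2 : Tor hF M ⊆ S₀ ∪ S₁ ∪ S₂ := by
    intro y hy
    by_contra hyn
    simp only [Set.mem_union, not_or] at hyn
    obtain ⟨Y, n₃, hY, hn₃, -, -, h₃5⟩ := hunit y hy
    have hd3 : Disjoint (S₀ ∪ S₁ ∪ S₂) (conjSet (Subgroup.centralizer ({y} : Set M))) :=
      Set.disjoint_union_left.2 ⟨Set.disjoint_union_left.2
        ⟨hX₀.disjoint hY hy.1 hyn.1.1, hX₁.disjoint hY hy.1 hyn.1.2⟩, hX₂.disjoint hY hy.1 hyn.2⟩
    have hle3 := Set.ncard_le_ncard (Set.union_subset hsub3 hY.subset) (Set.toFinite _)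
    rw [Set.ncard_union_eq hd3 (Set.toFinite _) (Set.toFinite _), hcard3] at hle3
    rcases hn₃ with rfl | rfl | rfl <;> omega
  have heq : w₀ + w₁ + w₂ = (Tor hF M).ncard :=
    le_antisymm hle2 (hcard3 ▸ Set.ncard_le_ncard hall2 (Set.toFinite _))
  obtain ⟨hb, -, hbd⟩ := hodd_dvd x₁ hx₁
  obtain ⟨hc, -, hcd⟩ := hodd_dvd x₂ hx₂
  have hbc := hX₁.coprime hm hX₂ hd12
  have hbe := hX₀.coprime hm hX₁ hd01
  have hce := hX₀.coprime hm hX₂ hd02
  rw [he₀] at hbe hce
  have hb5 := hX₁.five_le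
  have hc5 := hX₂.five_le
  set b := Nat.card (Subgroup.centralizer ({x₁} : Set M)) with hbdef
  set c := Nat.card (Subgroup.centralizer ({x₂} : Set M)) with hcdef
  have hA2c : ∀ t : ℕ, Odd t → t.Coprime A := by
    intro t ht
    rcases hAsize with h | h <;> rw [h]
    · exact Nat.Coprime.pow_right _ (Nat.coprime_two_right.2 ht)
    · rw [← pow_add]
      exact Nat.Coprime.pow_right _ (Nat.coprime_two_right.2 ht)
  obtain ⟨k, hk⟩ : b * c ∣ O :=
    hbc.mul_dvd_of_dvd_of_dvd ((hA2c b hb).dvd_of_dvd_mul_right (hbe.symm.dvd_of_dvd_mul_right hbd))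
      ((hA2c c hc).dvd_of_dvd_mul_right (hce.symm.dvd_of_dvd_mul_right hcd))
  -- counting pairs of involutions
  have hpairs := pairs_eq hm htor hJ hJcard (by omega)
  have hfib : ∀ {x : M} {X : Subgroup (Sz F m)} {n : ℕ}, IsCell (hF := hF) x X → Even n →
      Nat.card (Subgroup.normalizer (Subgroup.centralizer ({x} : Set M) : Set M)) =
        n * Nat.card (Subgroup.centralizer ({x} : Set M)) →
      ∑ z ∈ (Set.toFinite (conjSet (Subgroup.centralizer ({x} : Set M)))).toFinset,
        {u : M | u ≠ 1 ∧ u * u = 1 ∧ u * z * u⁻¹ = z⁻¹}.ncard =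
      (conjSet (Subgroup.centralizer ({x} : Set M))).ncard *
        Nat.card (Subgroup.centralizer ({x} : Set M)) := by
    intro x X n hX hn hN
    rw [Finset.sum_congr rfl (fun z hz => hX.ncard_inverting hn hN
      ((Set.Finite.mem_toFinset _).1 hz)), Finset.sum_const, smul_eq_mul,
      Set.ncard_eq_toFinset_card _ (Set.toFinite _)]
  have hsum : O * e * (O * e - e) = w₀ * e + w₁ * b + w₂ * c := by
    rw [hpairs]
    have e3 : (Set.toFinite (Tor hF M)).toFinset =
        (Set.toFinite S₀).toFinset ∪ (Set.toFinite S₁).toFinset ∪ (Set.toFinite S₂).toFinset := by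
      ext z
      simp only [Set.Finite.mem_toFinset, Finset.mem_union]
      exact ⟨fun hz => hall2 hz, fun hz => hsub3 hz⟩
    rw [e3, Finset.sum_union, Finset.sum_union, hfib hX₀ even_two hN₀,
      hfib hX₁ ⟨2, rfl⟩ hN₁, hfib hX₂ ⟨2, rfl⟩ hN₂, he₀]
    · rw [Finset.disjoint_left]
      intro z hz hz'
      simp only [Set.Finite.mem_toFinset] at hz hz'
      exact Set.disjoint_left.1 hd01 hz hz'
    · rw [Finset.disjoint_left]
      intro z hz hz'
      simp only [Set.Finite.mem_toFinset, Finset.mem_union] at hz hz'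
      exact Set.disjoint_left.1 hd012 hz hz'
  -- pass to the integers
  have hw₁' : 4 * ((w₁ : ℤ) * b) = O * A * e * ((b : ℤ) - 1) := by
    have h' : ((4 * w₁ * b : ℕ) : ℤ) = ((O * A * e * (b - 1) : ℕ) : ℤ) := by exact_mod_cast hw₁
    push_cast [Nat.cast_sub (show 1 ≤ b by omega)] at h'
    linear_combination h'
  have hw₂' : 4 * ((w₂ : ℤ) * c) = O * A * e * ((c : ℤ) - 1) := by
    have h' : ((4 * w₂ * c : ℕ) : ℤ) = ((O * A * e * (c - 1) : ℕ) : ℤ) := by exact_mod_cast hw₂
    push_cast [Nat.cast_sub (show 1 ≤ c by omega)] at h'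
    linear_combination h'
  have hw₀'' : 2 * (w₀ : ℤ) = O * A * ((e : ℤ) - 1) := by
    have h' : ((2 * w₀ : ℕ) : ℤ) = ((O * A * (e - 1) : ℕ) : ℤ) := by exact_mod_cast hw₀'
    push_cast [Nat.cast_sub (show 1 ≤ e by omega)] at h'
    exact h'
  have hT' : (w₀ : ℤ) + w₁ + w₂ + 1 + O * ((A : ℤ) - 1) = O * A * e := by
    have h' : (((Tor hF M).ncard + 1 + O * (A - 1) : ℕ) : ℤ) = ((O * A * e : ℕ) : ℤ) := by
      exact_mod_cast hTor
    rw [← heq] at h'
    push_cast [Nat.cast_sub (show 1 ≤ A by omega)] at h'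
    exact h'
  have hO' : (O : ℤ) = b * c * k := by exact_mod_cast hk
  have hb0 : (0 : ℤ) < b := by exact_mod_cast (show 0 < b by omega)
  have hc0 : (0 : ℤ) < c := by exact_mod_cast (show 0 < c by omega)
  have hk4 : (k : ℤ) * ((A : ℤ) * e * ((b : ℤ) + c) - (2 * A - 4) * (b * c)) = 4 := by
    refine mul_left_cancel₀ (show (b : ℤ) * c ≠ 0 by positivity) ?_
    linear_combination -(4 * (b : ℤ) * c) * hT' + (c : ℤ) * hw₁' + (b : ℤ) * hw₂' +
      2 * (b : ℤ) * c * hw₀'' - ((A : ℤ) * e * ((b : ℤ) + c) - (2 * (A : ℤ) - 4) * (b * c)) * hO'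
  have hk1 : k = 1 := by
    have hd : (k : ℤ) ∣ (4 : ℤ) := ⟨_, hk4.symm⟩
    have hd' : k ∣ 4 := by exact_mod_cast hd
    have := Nat.le_of_dvd (by norm_num) hd'
    have hko : Odd k := (Nat.odd_mul.1 (hk ▸ hOodd)).2
    rw [Nat.odd_iff] at hko
    interval_cases k <;> omega
  subst hk1
  have hσ : 4 * (e : ℤ) * ((O : ℤ) - 1) = A * (((b : ℤ) + c) + 2 * e - 4) := by
    have hsum' : (O : ℤ) * e * (O * e - e) = w₀ * e + w₁ * b + w₂ * c := by
      have h1 : e ≤ O * e := Nat.le_mul_of_pos_left _ (by omega)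
      have h' : ((O * e * (O * e - e) : ℕ) : ℤ) = ((w₀ * e + w₁ * b + w₂ * c : ℕ) : ℤ) := by
        exact_mod_cast hsum
      push_cast [Nat.cast_sub h1] at h'
      exact h'
    refine mul_left_cancel₀ (show (O : ℤ) * e ≠ 0 by positivity) ?_
    linear_combination 4 * hsum' + 2 * (e : ℤ) * hw₀'' + hw₁' + hw₂'
  simp only [Nat.cast_one, mul_one, one_mul] at hk4 hO'
  rw [← hO'] at hk4
  have hP : ((O : ℤ) - 1) * (4 * (e : ℤ) * e - 2 * A + 4) = 2 * A * ((e : ℤ) - 1) * ((e : ℤ) - 1) := by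
    linear_combination hk4 + (e : ℤ) * hσ
  have heZ : (e : ℤ) = 2 ^ β - 1 := by
    have : (e : ℤ) + 1 = 2 ^ β := by exact_mod_cast hC
    linarith
  have hs8 : (8 : ℤ) ≤ 2 ^ β := by
    have : 8 ≤ 2 ^ β := le_trans (by norm_num) (Nat.pow_le_pow_right (by norm_num) hβ3)
    exact_mod_cast this
  set s : ℤ := 2 ^ β with hs
  rcases hAsize with hAs | hAs
  · -- the elementary abelian case is impossible
    exfalso
    have hAZ : (A : ℤ) = s := by rw [hs]; exact_mod_cast hAs
    rw [heZ, hAZ] at hP hk4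
    set σ : ℤ := (b : ℤ) + c with hσdef
    have hσ10 : (10 : ℤ) ≤ σ := by
      have : 10 ≤ b + c := by omega
      rw [hσdef]; exact_mod_cast this
    have hss : 8 * s ≤ s * s := mul_le_mul_of_nonneg_right hs8 (by omega)
    have hP2 : ((O : ℤ) - 1) < s := by
      by_contra hge
      push Not at hge
      have hY : 0 ≤ 4 * (s - 1) * (s - 1) - 2 * s + 4 := by linarith
      have h1 : s * (4 * (s - 1) * (s - 1) - 2 * s + 4) ≤ ((O : ℤ) - 1) * (4 * (s - 1) * (s - 1) - 2 * s + 4) :=
        mul_le_mul_of_nonneg_right hge hY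
      have h2 : 0 < s * (s * (s - 1)) := mul_pos (by omega) (mul_pos (by omega) (by omega))
      linarith
    have hcontra : s * (s - 1) * 10 ≤ s * (s - 1) * σ :=
      mul_le_mul_of_nonneg_left hσ10 (mul_nonneg (by omega) (by omega))
    have : (2 * s - 4) * (O : ℤ) ≤ (2 * s - 4) * s := mul_le_mul_of_nonneg_left (by omega) (by omega)
    linarith
  · have hAZ : (A : ℤ) = s * s := by rw [hs]; exact_mod_cast hAs
    rw [heZ, hAZ] at hP
    have hO2 : (O : ℤ) - 1 = s * s := by
      refine mul_right_cancel₀ (show 2 * (s - 2) * (s - 2) ≠ 0 from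
        mul_ne_zero (mul_ne_zero two_ne_zero (by omega)) (by omega)) ?_
      linear_combination hP
    have hON : O = 1 + 2 ^ β * 2 ^ β := by
      have : (O : ℤ) = ((1 + 2 ^ β * 2 ^ β : ℕ) : ℤ) := by push_cast; linarith
      exact_mod_cast this
    exact exists_subfield_le hm hF hpos hβ3 hC hR hAs (hOidx.trans hON)
      (by rw [hg, hON, hAs]) y₀.2 hswap.1 hswap.2 hne

/-- Suzuki's subgroup theorem. -/
theorem subgroup_classification (hm : 1 ≤ m) (hF : Fintype.card F = 2 ^ (2 * m + 1))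
    (M : Subgroup (Sz F m)) (hM : M ≠ ⊤) : Concl m M := by
  rcases Nat.even_or_odd (Nat.card M) with hev | hodd
  · obtain ⟨g, hpos⟩ := exists_isPos hm hF hev
    refine Concl.of_conj (g := g) ?_
    by_cases hB : M.map (MulAut.conj g).toMonoidHom ≤
        MulAction.stabilizer (Sz F m) (suzukiPointInfinity F)
    · refine Or.inl ⟨uSylow hm hF, ?_⟩
      rw [coe_uSylow, normalizer_uGrp hm hF]
      exact hB
    · refine concl_of_isPos hm hF hpos hB fun h => hM ?_
      exact Subgroup.map_injective (MulAut.conj g).injective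
        (h.trans (Subgroup.map_top_of_surjective _ (MulAut.conj g).surjective).symm)
  · exact concl_of_odd hm hF hodd

end Cfsg.Agent.SZ
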