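/-
Suzuki groups, part 16: torus normalisers and solubilisers, prime degree field.
-/
import Cfsg.Agent.Lib.Sz.Subgroups

set_option autoImplicit false

namespace Cfsg.Agent.SZ

open Cfsg Matrix
open scoped Pointwise

variable {F : Type*} [Field F] [Fintype F] {m : ℕ}

/-- The elements generating a solvable subgroup together with `x`. -/
def solSet {G : Type*} [Group G] (x : G) : Set G :=
  {y | Group.IsSolvable ↥(Subgroup.closure ({x, y} : Set G))}

theorem ncard_solSet_map {G H : Type*} [Group G] [Group H] (e : G ≃* H) (x : G) :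
    (solSet (e x)).ncard = (solSet x).ncard := by
  have himg : solSet (e x) = e '' solSet x := by
    ext y
    obtain ⟨z, rfl⟩ := e.surjective y
    rw [Function.Injective.mem_set_image e.injective]
    have hmap : (Subgroup.closure ({x, z} : Set G)).map e.toMonoidHom =
        Subgroup.closure ({e x, e z} : Set H) := by
      rw [MonoidHom.map_closure, Set.image_pair]; rfl
    let E := ((Subgroup.closure ({x, z} : Set G)).equivMapOfInjective e.toMonoidHom e.injective).trans
      (MulEquiv.subgroupCongr hmap)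
    constructor
    · intro (h : Group.IsSolvable ↥(Subgroup.closure ({e x, e z} : Set H)))
      haveI := h
      exact solvable_of_solvable_injective (f := E.toMonoidHom) E.injective
    · intro (h : Group.IsSolvable ↥(Subgroup.closure ({x, z} : Set G)))
      haveI := h
      exact solvable_of_solvable_injective (f := E.symm.toMonoidHom) E.symm.injective
  rw [himg, Set.ncard_image_of_injective _ e.injective]

theorem ncard_solSet_conj {G : Type*} [Group G] (x g : G) :
    (solSet (g * x * g⁻¹)).ncard = (solSet x).ncard :=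
  ncard_solSet_map (MulAut.conj g) x

section Torus

variable {X : Subgroup (Sz F m)}

theorem IsTorusLike.comm (hX : IsTorusLike X) {a b : Sz F m} (ha : a ∈ X) (hb : b ∈ X) :
    a * b = b * a := by
  rcases eq_or_ne a 1 with rfl | ha1
  · simp
  · rw [← hX.cent a ha ha1, Subgroup.mem_centralizer_singleton_iff] at hb
    exact hb.symm

theorem IsTorusLike.ne_bot (hX : IsTorusLike X) (hm : 1 ≤ m) : X ≠ ⊥ := by
  intro h
  have hc := hX.card_mem
  rw [h, Subgroup.card_bot] at hc
  have hq : 8 ≤ 2 ^ (2 * m + 1) :=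
    le_trans (by norm_num) (Nat.pow_le_pow_right (by norm_num) (show 3 ≤ 2 * m + 1 by omega))
  have hle : 2 * 2 ^ (m + 1) ≤ 2 ^ (2 * m + 1) := by
    rw [← pow_succ']
    exact Nat.pow_le_pow_right (by norm_num) (by omega)
  have hr : 4 ≤ 2 ^ (m + 1) :=
    le_trans (by norm_num) (Nat.pow_le_pow_right (by norm_num) (show 2 ≤ m + 1 by omega))
  simp only [Set.mem_insert_iff, Set.mem_singleton_iff] at hc
  rcases hc with h | h | h <;> omega

theorem IsTorusLike.pow_mem (hX : IsTorusLike X) {z : Sz F m}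
    (hz : z ∈ Subgroup.normalizer (X : Set (Sz F m))) {ν : ℕ}
    (hν : Nat.card (Subgroup.normalizer (X : Set (Sz F m))) = ν * Nat.card X) : z ^ ν ∈ X := by
  set K := Subgroup.normalizer (X : Set (Sz F m))
  haveI : (X.subgroupOf K).Normal := Subgroup.normal_in_normalizer
  have hquot : Nat.card (K ⧸ X.subgroupOf K) = ν := by
    refine Nat.eq_of_mul_eq_mul_right (Nat.card_pos (α := X)) ?_
    rw [← hν, Subgroup.card_eq_card_quotient_mul_card_subgroup (X.subgroupOf K),
      Nat.card_congr (Subgroup.subgroupOfEquivOfLe (Subgroup.le_normalizer (H := X))).toEquiv]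
  have h := pow_card_eq_one' (G := K ⧸ X.subgroupOf K) (x := ((⟨z, hz⟩ : K) : K ⧸ X.subgroupOf K))
  rw [hquot, ← QuotientGroup.mk_pow, QuotientGroup.eq_one_iff] at h
  exact h

theorem IsTorusLike.mem_of_odd (hX : IsTorusLike X) {z : Sz F m}
    (hz : z ∈ Subgroup.normalizer (X : Set (Sz F m))) (hodd : Odd (orderOf z)) : z ∈ X := by
  obtain ⟨ν, hν, hN⟩ := hX.normalizer
  have h := hX.pow_mem hz hN
  have hc : (orderOf z).Coprime ν := by
    rcases hν with rfl | rfl
    · exact Nat.coprime_two_right.2 hodd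
    · exact (Nat.coprime_two_right.2 hodd).pow_right 2
  have hgen : z ∈ Subgroup.zpowers (z ^ ν) := by
    obtain ⟨j, hj⟩ := exists_pow_eq_self_of_coprime hc.symm
    exact Subgroup.mem_zpowers_iff.2 ⟨j, by rw [zpow_natCast, hj]⟩
  exact Subgroup.zpowers_le.2 h hgen

theorem IsTorusLike.not_mem_of_even (hX : IsTorusLike X) {z : Sz F m} (h : Even (orderOf z)) :
    z ∉ X := fun hz => Nat.not_even_iff_odd.2 hX.odd (by
  have hd : orderOf z ∣ Nat.card X := by
    rw [← Subgroup.orderOf_mk z hz]; exact orderOf_dvd_natCard _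
  exact h.trans_dvd hd)

/-- An involution normalising a torus inverts it. -/
theorem IsTorusLike.inverts (hX : IsTorusLike X) {y : Sz F m}
    (hy : y ∈ Subgroup.normalizer (X : Set (Sz F m))) (hy1 : y ≠ 1) (hy2 : y * y = 1)
    {a : Sz F m} (ha : a ∈ X) : y * a * y = a⁻¹ := by
  have hyinv : y⁻¹ = y := inv_eq_of_mul_eq_one_right hy2
  have hyX : y ∉ X := hX.not_mem_of_even (by
    rw [orderOf_eq_prime (by rw [sq, hy2]) hy1]; exact even_two)
  have ha' : y * a * y ∈ X := by
    have := (Subgroup.mem_normalizer_iff.1 hy a).1 ha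
    rwa [hyinv] at this
  set p := a * (y * a * y) with hp
  have hpy : y * p * y = p := by
    calc y * p * y = (y * a * y) * a * (y * y) := by rw [hp]; group
      _ = p := by rw [hy2, mul_one, ← hX.comm ha ha', hp]
  by_contra hne
  have hp1 : p ≠ 1 := fun e => hne (eq_inv_of_mul_eq_one_right e)
  apply hyX
  rw [← hX.cent p (mul_mem ha ha') hp1, Subgroup.mem_centralizer_singleton_iff]
  calc y * p = y * p * y * y := by rw [mul_assoc (y * p), hy2, mul_one]
    _ = p * y := by rw [hpy]

theorem IsTorusLike.mul_mem_of_involutions (hX : IsTorusLike X) (hm : 1 ≤ m) {y w : Sz F m}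
    (hy : y ∈ Subgroup.normalizer (X : Set (Sz F m))) (hy1 : y ≠ 1) (hy2 : y * y = 1)
    (hw : w ∈ Subgroup.normalizer (X : Set (Sz F m))) (hw1 : w ≠ 1) (hw2 : w * w = 1) :
    y * w ∈ X := by
  obtain ⟨p, hp, hp1⟩ := (Subgroup.bot_or_exists_ne_one X).resolve_left (hX.ne_bot hm)
  rw [← hX.cent p hp hp1, Subgroup.mem_centralizer_singleton_iff]
  calc y * w * p = y * (w * p * w) * w⁻¹ := by group
    _ = y * p⁻¹ * w⁻¹ := by rw [hX.inverts hw hw1 hw2 hp]
    _ = (y * p⁻¹ * y) * (y⁻¹ * w⁻¹) := by group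
    _ = p * (y * w) := by
      rw [hX.inverts hy hy1 hy2 (inv_mem hp), inv_inv, inv_eq_of_mul_eq_one_right hy2,
        inv_eq_of_mul_eq_one_right hw2]

theorem IsTorusLike.exists_involution (hX : IsTorusLike X) :
    ∃ y ∈ Subgroup.normalizer (X : Set (Sz F m)), y ≠ 1 ∧ y * y = 1 := by
  refine exists_involution_of_even _ ?_
  obtain ⟨ν, hν, hN⟩ := hX.normalizer
  rw [hN]
  rcases hν with rfl | rfl
  · exact even_two.mul_right _
  · exact (show Even 4 from ⟨2, rfl⟩).mul_right _

theorem IsTorusLike.involutions_eq (hX : IsTorusLike X) (hm : 1 ≤ m) {y : Sz F m}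
    (hy : y ∈ Subgroup.normalizer (X : Set (Sz F m))) (hy1 : y ≠ 1) (hy2 : y * y = 1) :
    {u | u ∈ Subgroup.normalizer (X : Set (Sz F m)) ∧ orderOf u = 2} =
      (fun a => y * a) '' (X : Set (Sz F m)) := by
  ext u
  constructor
  · rintro ⟨hu, hu2⟩
    have hu1 : u ≠ 1 := fun e => by rw [e, orderOf_one] at hu2; omega
    have hu2' : u * u = 1 := by rw [← sq, ← hu2, pow_orderOf_eq_one]
    exact ⟨y * u, hX.mul_mem_of_involutions hm hy hy1 hy2 hu hu1 hu2',
      by show y * (y * u) = u; rw [← mul_assoc, hy2, one_mul]⟩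
  · rintro ⟨a, ha, rfl⟩
    refine ⟨mul_mem hy (Subgroup.le_normalizer ha), orderOf_eq_prime ?_ fun e => ?_⟩
    · rw [sq]
      calc y * a * (y * a) = (y * a * y) * a := by group
        _ = 1 := by rw [hX.inverts hy hy1 hy2 ha, inv_mul_cancel]
    · apply hX.not_mem_of_even (z := y) (by
        rw [orderOf_eq_prime (by rw [sq, hy2]) hy1]; exact even_two)
      rw [eq_inv_of_mul_eq_one_left e]
      exact inv_mem ha

theorem IsTorusLike.ncard_involutions (hX : IsTorusLike X) (hm : 1 ≤ m) :
    {u | u ∈ Subgroup.normalizer (X : Set (Sz F m)) ∧ orderOf u = 2}.ncard = Nat.card X := by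
  obtain ⟨y, hy, hy1, hy2⟩ := hX.exists_involution
  rw [hX.involutions_eq hm hy hy1 hy2, Set.ncard_image_of_injective _ (mul_right_injective y),
    ← Nat.card_coe_set_eq]
  rfl

theorem IsTorusLike.orderOf_of_not_mem (hX : IsTorusLike X) {z : Sz F m}
    (hz : z ∈ Subgroup.normalizer (X : Set (Sz F m))) (hzX : z ∉ X) {ν : ℕ}
    (hν : Nat.card (Subgroup.normalizer (X : Set (Sz F m))) = ν * Nat.card X) : z ^ ν = 1 := by
  by_contra h
  apply hzX
  rw [← hX.cent _ (hX.pow_mem hz hν) h, Subgroup.mem_centralizer_singleton_iff]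
  exact (Commute.refl z).pow_right ν

theorem IsTorusLike.ncard_order_four (hX : IsTorusLike X) (hm : 1 ≤ m)
    (hν : Nat.card (Subgroup.normalizer (X : Set (Sz F m))) = 4 * Nat.card X) :
    {u | u ∈ Subgroup.normalizer (X : Set (Sz F m)) ∧ orderOf u = 4}.ncard = 2 * Nat.card X := by
  set N : Set (Sz F m) := (Subgroup.normalizer (X : Set (Sz F m)) : Set (Sz F m)) with hN
  set I := {u | u ∈ Subgroup.normalizer (X : Set (Sz F m)) ∧ orderOf u = 2} with hI
  have hdis : Disjoint (X : Set (Sz F m)) I := by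
    rw [Set.disjoint_left]
    intro a ha ha'
    exact hX.not_mem_of_even (by rw [ha'.2]; exact even_two) ha
  have heq : {u | u ∈ Subgroup.normalizer (X : Set (Sz F m)) ∧ orderOf u = 4} =
      N \ ((X : Set (Sz F m)) ∪ I) := by
    ext u
    constructor
    · rintro ⟨hu, hu4⟩
      refine ⟨hu, fun h => ?_⟩
      rcases h with h | h
      · exact hX.not_mem_of_even (by rw [hu4]; exact ⟨2, rfl⟩) h
      · rw [h.2] at hu4; omega
    · rintro ⟨hu, hun⟩
      rw [Set.mem_union, not_or] at hun
      refine ⟨hu, ?_⟩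
      have hd : orderOf u ∣ 2 ^ 2 := orderOf_dvd_of_pow_eq_one (hX.orderOf_of_not_mem hu hun.1 hν)
      obtain ⟨i, hi, hi'⟩ := (Nat.dvd_prime_pow Nat.prime_two).1 hd
      interval_cases i
      · exact absurd (orderOf_eq_one_iff.1 (hi'.trans (pow_zero 2))) (fun e => hun.1 (e ▸ one_mem X))
      · exact absurd ⟨hu, hi'.trans (pow_one 2)⟩ hun.2
      · exact hi'
  have hsub : (X : Set (Sz F m)) ∪ I ⊆ N :=
    Set.union_subset (fun a ha => Subgroup.le_normalizer ha) fun a ha => ha.1
  rw [heq, Set.ncard_sdiff hsub (Set.toFinite _), Set.ncard_union_eq hdis (Set.toFinite _) (Set.toFinite _),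
    hI, hX.ncard_involutions hm, hN, ← Nat.card_coe_set_eq, ← Nat.card_coe_set_eq]
  simp only [SetLike.coe_sort_coe]
  omega

theorem IsTorusLike.isSolvable_normalizer (hX : IsTorusLike X) :
    Group.IsSolvable (Subgroup.normalizer (X : Set (Sz F m))) := by
  haveI : Fact (Nat.Prime 2) := ⟨Nat.prime_two⟩
  set K := Subgroup.normalizer (X : Set (Sz F m))
  haveI : (X.subgroupOf K).Normal := Subgroup.normal_in_normalizer
  haveI := hX.cyclic
  haveI : IsCyclic (X.subgroupOf K) :=
    isCyclic_of_surjective (Subgroup.subgroupOfEquivOfLe (Subgroup.le_normalizer (H := X))).symm.toMonoidHom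
      (MulEquiv.surjective _)
  haveI : Group.IsSolvable (X.subgroupOf K) := by
    letI : CommGroup (X.subgroupOf K) := IsCyclic.commGroup
    infer_instance
  obtain ⟨ν, hν, hN⟩ := hX.normalizer
  have hquot : Nat.card (K ⧸ X.subgroupOf K) = ν := by
    refine Nat.eq_of_mul_eq_mul_right (Nat.card_pos (α := X)) ?_
    rw [← hN, Subgroup.card_eq_card_quotient_mul_card_subgroup (X.subgroupOf K),
      Nat.card_congr (Subgroup.subgroupOfEquivOfLe (Subgroup.le_normalizer (H := X))).toEquiv]
  haveI : Group.IsNilpotent (K ⧸ X.subgroupOf K) := by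
    rcases hν with rfl | rfl
    · exact (IsPGroup.of_card (p := 2) (n := 1) (by rw [hquot, pow_one])).isNilpotent
    · exact (IsPGroup.of_card (p := 2) (n := 2) (by rw [hquot]; norm_num)).isNilpotent
  exact solvable_of_ker_le_range (X.subgroupOf K).subtype (QuotientGroup.mk' (X.subgroupOf K))
    (by rw [QuotientGroup.ker_mk', Subgroup.range_subtype])

end Torus

/-- The torus-like subgroups of a given order form one conjugacy class. -/
theorem exists_conj_torusLike (hm : 1 ≤ m) (hF : Fintype.card F = 2 ^ (2 * m + 1))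
    {X Y : Subgroup (Sz F m)} (hX : IsTorusLike X) (hY : IsTorusLike Y)
    (h : Nat.card X = Nat.card Y) : ∃ g, Y = X.map (MulAut.conj g).toMonoidHom := by
  obtain ⟨Up, Um, hp, hn, -, hcov⟩ := partition hm hF
  have hle : 2 * 2 ^ (m + 1) ≤ 2 ^ (2 * m + 1) := by
    rw [← pow_succ']
    exact Nat.pow_le_pow_right (by norm_num) (by omega)
  have hq : 4 ≤ 2 ^ (m + 1) := le_trans (by norm_num) (Nat.pow_le_pow_right (by norm_num) (show 2 ≤ m + 1 by omega))
  obtain ⟨A, hA, x, rfl⟩ := exists_conj_of_cyclic hm hF hp hn hcov hX.cyclic hX.card_mem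
  obtain ⟨B, hB, y, rfl⟩ := exists_conj_of_cyclic hm hF hp hn hcov hY.cyclic hY.card_mem
  rw [Subgroup.card_map_of_injective (MulEquiv.injective _),
    Subgroup.card_map_of_injective (MulEquiv.injective _)] at h
  obtain rfl : A = B := by
    rcases hA with rfl | rfl | rfl <;> rcases hB with rfl | rfl | rfl <;>
      first
        | rfl
        | (exfalso; simp only [card_hGrp, hF, hp.card, hn.card] at h; omega)
  refine ⟨y * x⁻¹, ?_⟩
  rw [Subgroup.map_map]
  congr 1
  ext z
  simp [mul_assoc]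

theorem torusLike_normalizer_card (hm : 1 ≤ m) (hF : Fintype.card F = 2 ^ (2 * m + 1))
    {X : Subgroup (Sz F m)} (hX : IsTorusLike X) :
    Nat.card (Subgroup.normalizer (X : Set (Sz F m))) =
      (if Nat.card X = 2 ^ (2 * m + 1) - 1 then 2 else 4) * Nat.card X := by
  obtain ⟨Up, Um, hp, hn, hN, hcov⟩ := partition hm hF
  obtain ⟨A, hA, x, rfl⟩ := exists_conj_of_cyclic hm hF hp hn hcov hX.cyclic hX.card_mem
  have hle : 2 * 2 ^ (m + 1) ≤ 2 ^ (2 * m + 1) := by
    rw [← pow_succ']
    exact Nat.pow_le_pow_right (by norm_num) (by omega)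
  have hq : 4 ≤ 2 ^ (m + 1) := le_trans (by norm_num) (Nat.pow_le_pow_right (by norm_num) (show 2 ≤ m + 1 by omega))
  rw [← Subgroup.map_equiv_normalizer_eq, Subgroup.card_map_of_injective (MulEquiv.injective _),
    Subgroup.card_map_of_injective (MulEquiv.injective _)]
  rcases hA with rfl | rfl | rfl
  · rw [hN, card_hGrp, hF, if_pos rfl]
  · rw [hp.normalizer, hp.card, if_neg (by omega)]
  · rw [hn.normalizer, hn.card, if_neg (by omega)]

/-- The tori of order `k` normalised by `x`. -/
def normTori (k : ℕ) (x : Sz F m) : Set (Subgroup (Sz F m)) :=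
  {X | IsTorusLike X ∧ Nat.card X = k ∧ x ∈ Subgroup.normalizer (X : Set (Sz F m))}

theorem ncard_normTori_conj (k : ℕ) (x g : Sz F m) :
    (normTori k (g * x * g⁻¹)).ncard = (normTori k x).ncard := by
  have himg : normTori k (g * x * g⁻¹) =
      (fun X : Subgroup (Sz F m) => X.map (MulAut.conj g).toMonoidHom) '' normTori k x := by
    ext Y
    constructor
    · rintro ⟨hY, hc, hx⟩
      refine ⟨Y.map (MulAut.conj g⁻¹).toMonoidHom, ⟨hY.map _, ?_, ?_⟩, ?_⟩
      · rw [Subgroup.card_map_of_injective (MulEquiv.injective _), hc]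
      · rw [← Subgroup.map_equiv_normalizer_eq]
        exact ⟨g * x * g⁻¹, hx, by show g⁻¹ * (g * x * g⁻¹) * g⁻¹⁻¹ = x; group⟩
      · show (Y.map _).map _ = Y
        rw [Subgroup.map_map]
        convert Subgroup.map_id Y using 2
        ext z
        simp [mul_assoc]
    · rintro ⟨X, ⟨hX, hc, hx⟩, rfl⟩
      refine ⟨hX.map g, by rw [Subgroup.card_map_of_injective (MulEquiv.injective _), hc], ?_⟩
      rw [← Subgroup.map_equiv_normalizer_eq]
      exact ⟨x, hx, rfl⟩
  rw [himg, Set.ncard_image_of_injective _ (Subgroup.map_injective (MulEquiv.injective _))]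

theorem normTori_inv (k : ℕ) (x : Sz F m) : normTori k x⁻¹ = normTori k x := by
  ext X
  simp [normTori]

/-- Double counting of torus normalisers. -/
theorem ncard_normTori_mul (hm : 1 ≤ m) (hF : Fintype.card F = 2 ^ (2 * m + 1))
    {X₀ : Subgroup (Sz F m)} (hX₀ : IsTorusLike X₀) (P : Set (Sz F m)) {c d : ℕ}
    (hd : ∀ x ∈ P, (normTori (Nat.card X₀) x).ncard = d)
    (hc : ∀ X : Subgroup (Sz F m), IsTorusLike X → Nat.card X = Nat.card X₀ →
      {u | u ∈ Subgroup.normalizer (X : Set (Sz F m)) ∧ u ∈ P}.ncard = c) :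
    P.ncard * d = (Subgroup.normalizer (X₀ : Set (Sz F m))).index * c := by
  classical
  set 𝒯 : Set (Subgroup (Sz F m)) := {X | IsTorusLike X ∧ Nat.card X = Nat.card X₀} with h𝒯
  have hfin : 𝒯.Finite := Set.toFinite _
  have h𝒯card : 𝒯.ncard = (Subgroup.normalizer (X₀ : Set (Sz F m))).index := by
    have himg : 𝒯 = Set.range fun g : Sz F m => X₀.map (MulAut.conj g).toMonoidHom := by
      ext Y
      constructor
      · rintro ⟨hY, hc'⟩
        obtain ⟨g, rfl⟩ := exists_conj_torusLike hm hF hX₀ hY hc'.symm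
        exact ⟨g, rfl⟩
      · rintro ⟨g, rfl⟩
        exact ⟨hX₀.map g, Subgroup.card_map_of_injective (MulEquiv.injective _)⟩
    set N := Subgroup.normalizer (X₀ : Set (Sz F m))
    have hiff : ∀ g h : Sz F m, X₀.map (MulAut.conj g).toMonoidHom = X₀.map (MulAut.conj h).toMonoidHom ↔
        g⁻¹ * h ∈ N := by
      intro g h
      rw [Subgroup.mem_normalizer_iff]
      constructor
      · intro e a
        have h1 : h * a * h⁻¹ ∈ X₀.map (MulAut.conj g).toMonoidHom ↔
            h * a * h⁻¹ ∈ X₀.map (MulAut.conj h).toMonoidHom := by rw [e]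
        simp only [Subgroup.mem_map_equiv, MulAut.conj_symm_apply] at h1
        rw [show h⁻¹ * (h * a * h⁻¹) * h = a by group,
          show g⁻¹ * (h * a * h⁻¹) * g = g⁻¹ * h * a * (g⁻¹ * h)⁻¹ by group] at h1
        exact h1.symm
      · intro e
        ext z
        simp only [Subgroup.mem_map_equiv, MulAut.conj_symm_apply]
        have h1 := e (h⁻¹ * z * h)
        rw [show g⁻¹ * h * (h⁻¹ * z * h) * (g⁻¹ * h)⁻¹ = g⁻¹ * z * g by group] at h1
        exact h1.symm
    let f : Sz F m ⧸ N → Subgroup (Sz F m) :=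
      Quotient.lift (fun g => X₀.map (MulAut.conj g).toMonoidHom)
        (fun g h r => (hiff g h).2 (QuotientGroup.leftRel_apply.1 r))
    rw [himg, ← Nat.card_coe_set_eq, Subgroup.index]
    have hmem : ∀ q : Sz F m ⧸ N,
        f q ∈ Set.range fun g : Sz F m => X₀.map (MulAut.conj g).toMonoidHom := by
      intro q
      obtain ⟨g, rfl⟩ := QuotientGroup.mk_surjective q
      exact ⟨g, rfl⟩
    refine (Nat.card_eq_of_bijective (fun q => (⟨f q, hmem q⟩ :
      Set.range fun g : Sz F m => X₀.map (MulAut.conj g).toMonoidHom)) ⟨?_, ?_⟩).symm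
    · intro p q e
      obtain ⟨g, rfl⟩ := QuotientGroup.mk_surjective p
      obtain ⟨h, rfl⟩ := QuotientGroup.mk_surjective q
      exact QuotientGroup.eq.2 ((hiff g h).1 (congrArg Subtype.val e))
    · rintro ⟨_, g, rfl⟩
      exact ⟨QuotientGroup.mk g, rfl⟩
  have key := Finset.sum_card_bipartiteAbove_eq_sum_card_bipartiteBelow
    (fun (x : Sz F m) (X : Subgroup (Sz F m)) => x ∈ Subgroup.normalizer (X : Set (Sz F m)))
    (s := (Set.toFinite P).toFinset) (t := hfin.toFinset)
  have hl : ∀ x ∈ (Set.toFinite P).toFinset, (Finset.bipartiteAbove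
      (fun (x : Sz F m) (X : Subgroup (Sz F m)) => x ∈ Subgroup.normalizer (X : Set (Sz F m)))
      hfin.toFinset x).card = d := by
    intro x hx
    rw [Set.Finite.mem_toFinset] at hx
    rw [← hd x hx, ← Set.ncard_coe_finset]
    congr 1
    ext X
    simp [Finset.bipartiteAbove, normTori, h𝒯, and_assoc]
  have hr : ∀ X ∈ hfin.toFinset, (Finset.bipartiteBelow
      (fun (x : Sz F m) (X : Subgroup (Sz F m)) => x ∈ Subgroup.normalizer (X : Set (Sz F m)))
      (Set.toFinite P).toFinset X).card = c := by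
    intro X hX
    rw [Set.Finite.mem_toFinset] at hX
    rw [← hc X hX.1 hX.2, ← Set.ncard_coe_finset]
    congr 1
    ext u
    simp [Finset.bipartiteBelow, and_comm]
  rw [Finset.sum_congr rfl hl, Finset.sum_congr rfl hr, Finset.sum_const, Finset.sum_const,
    smul_eq_mul, smul_eq_mul, ← Set.ncard_eq_toFinset_card, ← Set.ncard_eq_toFinset_card,
    h𝒯card] at key
  exact key

theorem not_isSolvable (hm : 1 ≤ m) (hF : Fintype.card F = 2 ^ (2 * m + 1)) :
    ¬ Group.IsSolvable (Sz F m) := by
  intro h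
  haveI := isSimple hm hF
  refine (Group.IsSolvable.commutator_lt_top_of_nontrivial (Sz F m)).ne (perfect hm hF)

/-- With prime field degree the solubiliser is covered by Borel subgroups and torus normalisers. -/
theorem mem_solSet_iff (hm : 1 ≤ m) (hp : (2 * m + 1).Prime) (hF : Fintype.card F = 2 ^ (2 * m + 1))
    {x y : Sz F m} :
    y ∈ solSet x ↔
      (∃ p ∈ suzukiOvoid F m, x.1 • p = p ∧ y.1 • p = p) ∨
      (∃ X : Subgroup (Sz F m), IsTorusLike X ∧ x ∈ Subgroup.normalizer (X : Set (Sz F m)) ∧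
        y ∈ Subgroup.normalizer (X : Set (Sz F m))) := by
  constructor
  · intro hy
    have hne : Subgroup.closure ({x, y} : Set (Sz F m)) ≠ ⊤ := by
      intro e
      have h : Group.IsSolvable ↥(Subgroup.closure ({x, y} : Set (Sz F m))) := hy
      rw [e] at h
      haveI := h
      exact not_isSolvable hm hF
        (solvable_of_solvable_injective (f := (Subgroup.topEquiv (G := Sz F m)).symm.toMonoidHom)
          (MulEquiv.injective _))
    have hxc : x ∈ Subgroup.closure ({x, y} : Set (Sz F m)) := Subgroup.subset_closure (Or.inl rfl)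
    have hyc : y ∈ Subgroup.closure ({x, y} : Set (Sz F m)) := Subgroup.subset_closure (Or.inr rfl)
    rcases subgroup_classification hm hF _ hne with ⟨P, hP⟩ | ⟨U, hU, hc, hle⟩ |
      ⟨K, _, _, k, hk1, hkm, -, hdvd, -⟩
    · obtain ⟨g, hg⟩ := exists_conj_eq_uGrp hm hF P
      left
      rw [← hg, ← Subgroup.map_equiv_normalizer_eq, normalizer_uGrp hm hF] at hP
      refine ⟨g.1 • suzukiPointInfinity F, smul_mem g.2 inf_mem, ?_⟩
      have key : ∀ z ∈ Subgroup.closure ({x, y} : Set (Sz F m)),
          z.1 • g.1 • suzukiPointInfinity F = g.1 • suzukiPointInfinity F := by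
        intro z hz
        obtain ⟨w, hw, rfl⟩ := hP hz
        show (g.1 * w.1 * g.1⁻¹) • g.1 • suzukiPointInfinity F = _
        rw [mul_smul, mul_smul, inv_smul_smul]
        exact congrArg (g.1 • ·) hw
      exact ⟨key x hxc, key y hyc⟩
    · right
      obtain ⟨Up, Um, hp', hn, -, hcov⟩ := partition hm hF
      obtain ⟨A, hA, g, hUA⟩ := exists_conj_of_cyclic hm hF hp' hn hcov hU hc
      refine ⟨U, ?_, hle hxc, hle hyc⟩
      rw [hUA]
      refine IsTorusLike.map ?_ g
      have he : ∀ k, Even (2 ^ (k + 1)) := fun k => Nat.even_pow.2 ⟨even_two, by omega⟩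
      rcases hA with rfl | rfl | rfl
      · exact isTorusLike_hGrp hm hF
      · refine ⟨hp'.cyclic, Or.inr (Or.inl hp'.card), ?_, hp'.cent, 4, Or.inr rfl,
          by rw [hp'.normalizer, hp'.card]⟩
        rw [hp'.card]
        exact ((he (2 * m)).add (he m)).add_one
      · refine ⟨hn.cyclic, Or.inr (Or.inr hn.card), ?_, hn.cent, 4, Or.inr rfl,
          by rw [hn.normalizer, hn.card]⟩
        rw [hn.card]
        refine Even.add_one ?_
        rw [Nat.even_sub (Nat.pow_le_pow_right (by norm_num) (by omega))]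
        exact iff_of_true (he (2 * m)) (he m)
    · exfalso
      rcases hp.eq_one_or_self_of_dvd _ hdvd with h | h <;> omega
  · intro h
    rcases h with ⟨p, hp', hxp, hyp⟩ | ⟨X, hX, hxX, hyX⟩
    · obtain ⟨g, hg⟩ : ∃ g : Sz F m, g.1 • suzukiPointInfinity F = p := by
        have : p ∈ MulAction.orbit (Sz F m) (suzukiPointInfinity F) := by rw [orbit_inf hF]; exact hp'
        exact this
      set S := (MulAction.stabilizer (Sz F m) (suzukiPointInfinity F)).map
        (MulAut.conj g).toMonoidHom with hS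
      haveI := isSolvable_stab hm hF
      haveI : Group.IsSolvable S :=
        solvable_of_solvable_injective
          (f := ((MulAction.stabilizer (Sz F m) (suzukiPointInfinity F)).equivMapOfInjective
            (MulAut.conj g).toMonoidHom (MulEquiv.injective _)).symm.toMonoidHom) (MulEquiv.injective _)
      have key : ∀ z : Sz F m, z.1 • p = p → z ∈ S := by
        intro z hz
        refine ⟨g⁻¹ * z * g, ?_, by show g * (g⁻¹ * z * g) * g⁻¹ = z; group⟩
        show (g.1⁻¹ * z.1 * g.1) • suzukiPointInfinity F = suzukiPointInfinity F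
        rw [mul_smul, mul_smul, hg, hz, inv_smul_eq_iff, hg]
      have hle : Subgroup.closure ({x, y} : Set (Sz F m)) ≤ S := (Subgroup.closure_le _).2
        (Set.insert_subset (key x hxp) (Set.singleton_subset_iff.2 (key y hyp)))
      exact solvable_of_solvable_injective (f := Subgroup.inclusion hle)
        (Subgroup.inclusion_injective hle)
    · haveI := hX.isSolvable_normalizer
      have hle : Subgroup.closure ({x, y} : Set (Sz F m)) ≤ Subgroup.normalizer (X : Set (Sz F m)) :=
        (Subgroup.closure_le _).2 (Set.insert_subset hxX (Set.singleton_subset_iff.2 hyX))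
      exact solvable_of_solvable_injective (f := Subgroup.inclusion hle)
        (Subgroup.inclusion_injective hle)

theorem card_stab_coprime (hm : 1 ≤ m) {k : ℕ}
    (hk : k = 2 ^ (2 * m + 1) + 2 ^ (m + 1) + 1 ∨ k = 2 ^ (2 * m + 1) - 2 ^ (m + 1) + 1) :
    k.Coprime ((2 ^ (2 * m + 1)) ^ 2 * (2 ^ (2 * m + 1) - 1)) := by
  obtain ⟨-, c2, c3, c4, c5, -⟩ := coprime_facts hm
  rcases hk with rfl | rfl
  · exact Nat.Coprime.mul_right c2.symm c4.symm
  · exact Nat.Coprime.mul_right c3.symm c5.symm

/-- The solubiliser of an element of an anisotropic torus. -/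
theorem ncard_solSet_anisotropic (hm : 1 ≤ m) (hp : (2 * m + 1).Prime)
    (hF : Fintype.card F = 2 ^ (2 * m + 1)) {x : Sz F m} (hx : x ≠ 1) {k : ℕ}
    (hk : k = 2 ^ (2 * m + 1) + 2 ^ (m + 1) + 1 ∨ k = 2 ^ (2 * m + 1) - 2 ^ (m + 1) + 1)
    (hdvd : orderOf x ∣ k) : (solSet x).ncard = 4 * k := by
  obtain ⟨-, c2, c3, c4, c5, c6⟩ := coprime_facts hm
  have hcop := card_stab_coprime hm hk
  have hne1 : ∀ n, k.Coprime n → ¬ orderOf x ∣ n := fun n hn h =>
    hx (orderOf_eq_one_iff.1 (Nat.eq_one_of_dvd_coprimes hn hdvd h))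
  have hfix : ∀ p ∈ suzukiOvoid F m, x.1 • p ≠ p := by
    intro p hp' hxp
    obtain ⟨g, hg⟩ : ∃ g : Sz F m, g.1 • suzukiPointInfinity F = p := by
      have : p ∈ MulAction.orbit (Sz F m) (suzukiPointInfinity F) := by rw [orbit_inf hF]; exact hp'
      exact this
    have hmem : g⁻¹ * x * g ∈ MulAction.stabilizer (Sz F m) (suzukiPointInfinity F) := by
      show (g.1⁻¹ * x.1 * g.1) • suzukiPointInfinity F = suzukiPointInfinity F
      rw [mul_smul, mul_smul, hg, hxp, inv_smul_eq_iff, hg]
    refine hne1 _ hcop ?_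
    rw [← hF, ← card_stab_inf hm hF, ← orderOf_injective (MulAut.conj g⁻¹).toMonoidHom
      (MulEquiv.injective _) x]
    have e : (MulAut.conj g⁻¹).toMonoidHom x = g⁻¹ * x * g := by simp
    rw [e, ← Subgroup.orderOf_mk _ hmem]
    exact orderOf_dvd_natCard _
  have hxU : x ∉ conjSet (uGrp hF) := by
    intro h
    obtain ⟨-, g, hg⟩ := h
    refine hfix (g.1 • suzukiPointInfinity F) (smul_mem g.2 inf_mem) ?_
    have := uGrp_le_stab hF hg
    change (g.1⁻¹ * x.1 * g.1) • suzukiPointInfinity F = suzukiPointInfinity F at this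
    rw [mul_smul, mul_smul, inv_smul_eq_iff] at this
    exact this
  obtain ⟨X, hX, hxX⟩ := exists_torusLike hm hF hx hxU
  have hXk : Nat.card X = k := by
    have hd : orderOf x ∣ Nat.card X := by
      rw [← Subgroup.orderOf_mk x hxX]; exact orderOf_dvd_natCard _
    rcases hX.card_mem with h | h | h <;> rw [h] at hd ⊢
    · exact absurd hd (hne1 _ (hcop.coprime_dvd_right (dvd_mul_left _ _)))
    · rcases hk with rfl | rfl
      · rfl
      · exact absurd hd (hne1 _ c6.symm)
    · rcases hk with rfl | rfl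
      · exact absurd hd (hne1 _ c6)
      · rfl
  have hodd : Odd (orderOf x) := hX.odd.of_dvd_nat (by
    rw [← Subgroup.orderOf_mk x hxX]; exact orderOf_dvd_natCard _)
  have heq : solSet x = (Subgroup.normalizer (X : Set (Sz F m)) : Set (Sz F m)) := by
    ext y
    rw [mem_solSet_iff hm hp hF]
    constructor
    · rintro (⟨p, hp', hxp, -⟩ | ⟨Y, hY, hxY, hyY⟩)
      · exact absurd hxp (hfix p hp')
      · have : Y = X := by
          rw [← hY.cent x (hY.mem_of_odd hxY hodd) hx, hX.cent x hxX hx]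
        exact this ▸ hyY
    · exact fun hy => Or.inr ⟨X, hX, Subgroup.le_normalizer hxX, hy⟩
  have hle : 2 * 2 ^ (m + 1) ≤ 2 ^ (2 * m + 1) := by
    rw [← pow_succ']
    exact Nat.pow_le_pow_right (by norm_num) (by omega)
  have hq : 4 ≤ 2 ^ (m + 1) := le_trans (by norm_num) (Nat.pow_le_pow_right (by norm_num) (show 2 ≤ m + 1 by omega))
  rw [heq, ← Nat.card_coe_set_eq]
  show Nat.card (Subgroup.normalizer (X : Set (Sz F m))) = _
  rw [torusLike_normalizer_card hm hF hX, hXk, if_neg (by rcases hk with rfl | rfl <;> omega)]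

/-- The solubiliser of an element of a split torus. -/
theorem ncard_solSet_hS (hm : 1 ≤ m) (hp : (2 * m + 1).Prime)
    (hF : Fintype.card F = 2 ^ (2 * m + 1)) {u : Fˣ} (hu : hS hF u ≠ (1 : Sz F m)) :
    (solSet (hS hF u : Sz F m)).ncard =
      2 * (2 ^ (2 * m + 1)) ^ 2 * (2 ^ (2 * m + 1) - 1) := by
  have hu1 : u ≠ 1 := fun e => hu (by rw [e, hS_one])
  set x : Sz F m := hS hF u with hx
  have hxH : x ∈ hGrp hF := (mem_hGrp hF).2 ⟨u, rfl⟩
  set B := MulAction.stabilizer (Sz F m) (suzukiPointInfinity F) with hB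
  set B₀ := MulAction.stabilizer (Sz F m) (suzukiPointZero F) with hB₀
  set N := Subgroup.normalizer (hGrp hF : Set (Sz F m)) with hN
  have hodd : Odd (orderOf x) := (isTorusLike_hGrp hm hF).odd.of_dvd_nat (by
    rw [← Subgroup.orderOf_mk x hxH]; exact orderOf_dvd_natCard _)
  have hxinf : x.1 • suzukiPointInfinity F = suzukiPointInfinity F := H_smul_inf u
  have hxz : x.1 • suzukiPointZero F = suzukiPointZero F := by
    show H m u • _ = _
    rw [zero_eq_aff (m := m), H_smul_aff hF, mul_zero, mul_zero]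
  have heq : solSet x = (B : Set (Sz F m)) ∪ B₀ ∪ N := by
    ext y
    rw [mem_solSet_iff hm hp hF]
    constructor
    · rintro (⟨p, hp', hxp, hyp⟩ | ⟨Y, hY, hxY, hyY⟩)
      · rcases fix_eq_or hm hF hu1 hp' hxp with rfl | rfl
        · exact Or.inl (Or.inl hyp)
        · exact Or.inl (Or.inr hyp)
      · have : Y = hGrp hF := by
          rw [← hY.cent x (hY.mem_of_odd hxY hodd) hu, centralizer_hS hm hF hxH hu]
        refine Or.inr ?_
        rw [this] at hyY
        exact hyY
    · rintro ((hy | hy) | hy)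
      · exact Or.inl ⟨_, inf_mem, hxinf, hy⟩
      · exact Or.inl ⟨_, zero_mem, hxz, hy⟩
      · exact Or.inr ⟨_, isTorusLike_hGrp hm hF, Subgroup.le_normalizer hxH, hy⟩
  have hBB : (B : Set (Sz F m)) ∩ B₀ = hGrp hF := by
    ext y
    constructor
    · rintro ⟨h1, h2⟩
      exact mem_hGrp_of_fix hm hF h1 h2
    · intro hy
      obtain ⟨v, rfl⟩ := (mem_hGrp hF).1 hy
      refine ⟨H_smul_inf v, ?_⟩
      show H m v • suzukiPointZero F = suzukiPointZero F
      rw [zero_eq_aff (m := m), H_smul_aff hF, mul_zero, mul_zero]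
  have hNB : ((B : Set (Sz F m)) ∪ B₀) ∩ N = hGrp hF := by
    ext y
    constructor
    · rintro ⟨h, hy⟩
      obtain ⟨p1, p2⟩ := normalizer_hGrp hm hF (x := y)
        ⟨x, hxH, hu, (Subgroup.mem_normalizer_iff.1 hy x).1 hxH⟩
      have hne : suzukiPointZero F ≠ suzukiPointInfinity F := by
        rw [zero_eq_aff (m := m)]; exact aff_ne_inf 0 0
      rcases h with h | h
      · have h' : y.1 • suzukiPointInfinity F = suzukiPointInfinity F := h
        rcases p2 with p2 | p2
        · exact absurd (MulAction.injective y.1 (p2.trans h'.symm)) hne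
        · exact mem_hGrp_of_fix hm hF h' p2
      · have h' : y.1 • suzukiPointZero F = suzukiPointZero F := h
        rcases p1 with p1 | p1
        · exact mem_hGrp_of_fix hm hF p1 h'
        · exact absurd (MulAction.injective y.1 (h'.trans p1.symm)) hne
    · intro hy
      refine ⟨Or.inl ?_, Subgroup.le_normalizer hy⟩
      rw [← hBB] at hy
      exact hy.1
  have hWW : (wS hF : Sz F m)⁻¹ = wS hF := inv_eq_of_mul_eq_one_right (Subtype.ext W_mul_W)
  have hB₀card : Nat.card B₀ = Nat.card B := by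
    have hmap : B₀ = B.map (MulAut.conj (wS hF)).toMonoidHom := by
      ext y
      rw [Subgroup.mem_map_equiv, MulAut.conj_symm_apply, hWW]
      show y.1 • suzukiPointZero F = suzukiPointZero F ↔
        (W * y.1 * W) • suzukiPointInfinity F = suzukiPointInfinity F
      rw [mul_smul, mul_smul, W_smul_inf]
      constructor
      · intro h; rw [h, W_smul_zero]
      · intro h
        have h' := congrArg (fun z => (W : SpecialLinearGroup (Fin 4) F) • z) h
        simp only [← mul_smul] at h'
        rwa [← mul_assoc, W_mul_W, one_mul, W_smul_inf] at h'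
    rw [hmap, Subgroup.card_map_of_injective (MulEquiv.injective _)]
  have h1 := Set.ncard_union_add_ncard_inter (B : Set (Sz F m)) (B₀ : Set (Sz F m))
  have h2 := Set.ncard_union_add_ncard_inter ((B : Set (Sz F m)) ∪ B₀) (N : Set (Sz F m))
  rw [hBB] at h1
  rw [hNB, ← heq] at h2
  have hc : ∀ S : Subgroup (Sz F m), (S : Set (Sz F m)).ncard = Nat.card S := fun S =>
    (Nat.card_coe_set_eq _).symm
  obtain ⟨-, -, -, -, hNc, -⟩ := partition hm hF
  rw [hc, hc, hc, hB₀card, card_hGrp, card_stab_inf hm hF, hF] at h1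
  rw [hc, hc, hNc, card_hGrp, hF] at h2
  have hq1 : 1 ≤ 2 ^ (2 * m + 1) := Nat.one_le_two_pow
  have hdist : 2 * (2 ^ (2 * m + 1)) ^ 2 * (2 ^ (2 * m + 1) - 1) =
      (2 ^ (2 * m + 1)) ^ 2 * (2 ^ (2 * m + 1) - 1) + (2 ^ (2 * m + 1)) ^ 2 * (2 ^ (2 * m + 1) - 1) := by
    ring
  omega

end Cfsg.Agent.SZ
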