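/-
Suzuki groups, part 17: solubilisers of 2-elements, prime degree field.
-/
import Cfsg.Agent.Lib.Sz.Solubilizer

set_option autoImplicit false

namespace Cfsg.Agent.SZ

open Cfsg Matrix
open scoped Pointwise

variable {F : Type*} [Field F] [Fintype F] {m : ℕ}

theorem mem_conjSet_uGrp_of_even (hm : 1 ≤ m) (hF : Fintype.card F = 2 ^ (2 * m + 1)) {g : Sz F m}
    (h : Even (orderOf g)) : g ∈ conjSet (uGrp hF) := by
  by_contra hU
  have hg : g ≠ 1 := fun e => by rw [e, orderOf_one] at h; exact absurd h (by decide)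
  obtain ⟨X, hX, hgX⟩ := exists_torusLike hm hF hg hU
  exact hX.not_mem_of_even h hgX

theorem orderOf_two_eq_conjSet (hm : 1 ≤ m) (hF : Fintype.card F = 2 ^ (2 * m + 1)) :
    {g : Sz F m | orderOf g = 2} = conjSet (zGrp hF) := by
  haveI : Fact (Nat.Prime 2) := ⟨Nat.prime_two⟩
  ext g
  constructor
  · intro h
    have h' : orderOf g = 2 := h
    have h2 : g * g = 1 := by rw [← sq, ← h', pow_orderOf_eq_one]
    obtain ⟨hg, x, hx⟩ := mem_conjSet_uGrp_of_even hm hF (g := g) (by rw [h']; exact even_two)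
    refine ⟨hg, x, involution_mem_zGrp hm hF ?_ (uGrp_le_stab hF hx)⟩
    calc x⁻¹ * g * x * (x⁻¹ * g * x) = x⁻¹ * (g * g) * x := by group
      _ = 1 := by rw [h2]; group
  · rintro ⟨hg, x, hx⟩
    obtain ⟨b, hb⟩ := (mem_zGrp hF).1 hx
    show orderOf g = 2
    refine orderOf_eq_prime ?_ hg
    rw [sq]
    calc g * g = x * ((x⁻¹ * g * x) * (x⁻¹ * g * x)) * x⁻¹ := by group
      _ = 1 := by rw [← hb, tS_sq, mul_zero, tS_zero]; group

theorem exists_conj_tS01 (hm : 1 ≤ m) (hF : Fintype.card F = 2 ^ (2 * m + 1)) {g : Sz F m}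
    (h : orderOf g = 2) : ∃ x, g = x * tS hF 0 1 * x⁻¹ := by
  have hmem : g ∈ conjSet (zGrp hF) := by rw [← orderOf_two_eq_conjSet hm hF]; exact h
  obtain ⟨hg, x, hx⟩ := hmem
  obtain ⟨b, hb⟩ := (mem_zGrp hF).1 hx
  have hb0 : b ≠ 0 := fun e => hg (by
    calc g = x * (x⁻¹ * g * x) * x⁻¹ := by group
      _ = 1 := by rw [← hb, e, tS_zero]; group)
  obtain ⟨y, hy⟩ := exists_th_eq hF b
  have hy0 : y ≠ 0 := fun e => hb0 (by rw [← hy, e, th_zero])
  refine ⟨x * hS hF (Units.mk0 y hy0), ?_⟩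
  have e : hS hF (Units.mk0 y hy0) * tS hF 0 1 * (hS hF (Units.mk0 y hy0))⁻¹ = tS hF 0 b := by
    rw [hS_conj_tS, mul_zero, mul_one]
    exact congrArg (tS hF 0) hy
  calc g = x * (x⁻¹ * g * x) * x⁻¹ := by group
    _ = x * tS hF 0 b * x⁻¹ := by rw [hb]
    _ = _ := by rw [← e]; group

theorem exists_conj_four (hm : 1 ≤ m) (hF : Fintype.card F = 2 ^ (2 * m + 1)) {g : Sz F m}
    (h : orderOf g = 4) : ∃ x, g = x * tS hF 1 0 * x⁻¹ ∨ g = x * (tS hF 1 0)⁻¹ * x⁻¹ := by
  classical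
  obtain ⟨hg, x, hx⟩ := mem_conjSet_uGrp_of_even hm hF (g := g) (by rw [h]; exact ⟨2, rfl⟩)
  obtain ⟨a, b, hab⟩ := (mem_uGrp hF).1 hx
  have ha : a ≠ 0 := by
    intro e
    have h2 : g * g = 1 := by
      calc g * g = x * ((x⁻¹ * g * x) * (x⁻¹ * g * x)) * x⁻¹ := by group
        _ = 1 := by rw [← hab, e, tS_sq, mul_zero, tS_zero]; group
    have := orderOf_dvd_of_pow_eq_one (x := g) (n := 2) (by rw [sq, h2])
    rw [h] at this
    exact absurd this (by decide)
  obtain ⟨u, hu⟩ := exists_kappa hF ha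
  set b' := b / th m (u : F)
  have hthu : th m (u : F) ≠ 0 := fun e => u.ne_zero (th_eq_zero.1 e)
  -- the additive map `c ↦ c + th c` has image of index two, missing `1`
  set D : Set F := Set.range fun c => c + th m c with hD
  have h1D : (1 : F) ∉ D := by
    rintro ⟨c, hc⟩
    have hc' : c + th m c = 1 := hc
    have h3 : th m (c + th m c) = 1 := by rw [hc', th_one]
    rw [th_add hF, th_th hF] at h3
    have h4 : c * (c - 1) = 0 := by linear_combination h3 - hc'
    rcases mul_eq_zero.1 h4 with h5 | h5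
    · rw [h5, th_zero, add_zero] at hc'
      exact zero_ne_one hc'
    · rw [sub_eq_zero.1 h5, th_one, add_self hF] at hc'
      exact zero_ne_one hc'
  have hcover : b' ∈ D ∨ b' + 1 ∈ D := by
    have hfib : ∀ c d : F, c + th m c = d + th m d → d = c ∨ d = c + 1 := by
      intro c d e
      have e2 : th m (c + d) = c + d := by
        rw [th_add hF]
        linear_combination e + (th m d - c) * two_zero hF
      rcases eq_or_ne (c + d) 0 with h0 | h0
      · left; linear_combination h0 - c * two_zero hF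
      · right; linear_combination th_eq_self hF e2 h0 - c * two_zero hF
    have hcard : Fintype.card F ≤ 2 * D.ncard := by
      have h1 : (Finset.univ : Finset F).card ≤ 2 * (Finset.univ.image fun c : F => c + th m c).card := by
        refine Finset.card_le_mul_card_image _ 2 fun z hz => ?_
        obtain ⟨c, -, rfl⟩ := Finset.mem_image.1 hz
        refine le_trans (Finset.card_le_card (t := {c, c + 1}) fun d hd => ?_) Finset.card_le_two
        simp only [Finset.mem_filter, Finset.mem_univ, true_and] at hd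
        rcases hfib c d hd.symm with rfl | rfl <;> simp
      rw [Finset.card_univ, ← Set.ncard_coe_finset, Finset.coe_image, Finset.coe_univ,
        Set.image_univ] at h1
      exact h1
    by_contra hne
    rw [not_or] at hne
    set D' : Set F := (fun d => d + 1) '' D with hD'
    have hdis : Disjoint D D' := by
      rw [Set.disjoint_left]
      rintro _ ⟨c, hc⟩ ⟨_, ⟨d, rfl⟩, hd⟩
      refine h1D ⟨c + d, ?_⟩
      show c + d + th m (c + d) = 1
      rw [th_add hF]
      have hd' : d + th m d + 1 = c + th m c := hd.trans hc.symm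
      linear_combination -hd' + (d + th m d) * two_zero hF
    have hb'D : b' ∉ D ∪ D' := by
      rintro (h' | ⟨d, hd, hde⟩)
      · exact hne.1 h'
      · refine hne.2 ?_
        have : b' + 1 = d := by
          have hde' : d + 1 = b' := hde
          linear_combination -hde' + two_zero hF
        rw [this]; exact hd
    have hlt : (D ∪ D').ncard < (Set.univ : Set F).ncard :=
      Set.ncard_lt_ncard ((Set.ssubset_iff_of_subset (Set.subset_univ _)).2
        ⟨b', Set.mem_univ _, hb'D⟩) (Set.toFinite _)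
    rw [Set.ncard_union_eq hdis (Set.toFinite _) (Set.toFinite _), hD',
      Set.ncard_image_of_injective _ (add_left_injective 1), Set.ncard_univ,
      Nat.card_eq_fintype_card] at hlt
    omega
  have hconj : ∀ c e : F, tS hF c 0 * tS hF 1 e * (tS hF c 0)⁻¹ = tS hF 1 (e + c + th m c) := by
    intro c e
    rw [mul_inv_eq_iff_eq_mul]
    apply Subtype.ext
    show T m c 0 * T m 1 e = T m 1 (e + c + th m c) * T m c 0
    rw [T_mul hF, T_mul hF, th_one, mul_one, one_mul, add_comm c 1]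
    congr 1
    linear_combination -c * two_zero hF
  have hinv : (tS hF (1 : F) 0)⁻¹ = (tS hF 1 1 : Sz F m) := by
    apply Subtype.ext
    show (T m (1 : F) 0)⁻¹ = T m 1 1
    rw [T_inv hF, th_one, mul_one, zero_add]
  have hh : hS hF u * tS hF 1 b' * (hS hF u)⁻¹ = tS hF a b := by
    rw [hS_conj_tS, mul_one, hu, mul_div_cancel₀ _ hthu]
  have hg' : g = x * tS hF a b * x⁻¹ := by rw [hab]; group
  rcases hcover with ⟨c, hc⟩ | ⟨c, hc⟩
  · refine ⟨x * hS hF u * tS hF c 0, Or.inl ?_⟩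
    have e : tS hF c 0 * tS hF 1 0 * (tS hF c 0)⁻¹ = tS hF 1 b' := by
      rw [hconj, zero_add]
      exact congrArg _ hc
    rw [hg', ← hh, ← e]
    group
  · refine ⟨x * hS hF u * tS hF c 0, Or.inr ?_⟩
    have hc' : c + th m c = b' + 1 := hc
    have e : tS hF c 0 * tS hF 1 1 * (tS hF c 0)⁻¹ = tS hF 1 b' := by
      rw [hconj]
      congr 1
      linear_combination hc' + two_zero hF
    rw [hg', ← hh, ← e, hinv]
    group

theorem index_stab_inf (hm : 1 ≤ m) (hF : Fintype.card F = 2 ^ (2 * m + 1)) :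
    (Subgroup.normalizer (zGrp hF : Set (Sz F m))).index = Fintype.card F ^ 2 + 1 ∧
      IsTI (zGrp (m := m) hF) := by
  have hne : (tS hF (0 : F) 1 : Sz F m) ≠ 1 := fun e =>
    one_ne_zero (tS_params_inj hF (e.trans (tS_zero hF).symm)).2
  have hN : Subgroup.normalizer (zGrp hF : Set (Sz F m)) = Subgroup.normalizer (uGrp hF : Set (Sz F m)) := by
    apply le_antisymm
    · intro x hx
      refine isTI_uGrp hm hF x _ ((mem_uGrp hF).2 ⟨0, 1, rfl⟩) hne ?_
      exact zGrp_le hF ((Subgroup.mem_normalizer_iff.1 hx _).1 ((mem_zGrp hF).2 ⟨1, rfl⟩))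
    · intro x hx
      rw [normalizer_uGrp hm hF] at hx
      rw [Subgroup.mem_normalizer_iff]
      intro k
      constructor
      · intro hk
        obtain ⟨b, rfl⟩ := (mem_zGrp hF).1 hk
        obtain ⟨b', hb'⟩ := tS_zero_conj hm hF hx b
        exact (mem_zGrp hF).2 ⟨b', hb'.symm⟩
      · intro hk
        obtain ⟨b, hb⟩ := (mem_zGrp hF).1 hk
        obtain ⟨b', hb'⟩ := tS_zero_conj hm hF (inv_mem hx) b
        refine (mem_zGrp hF).2 ⟨b', ?_⟩
        rw [← hb', hb]
        group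
  refine ⟨by rw [hN, index_normalizer_uGrp hm hF], fun x a ha ha1 hxa => ?_⟩
  rw [hN]
  exact isTI_uGrp hm hF x a (zGrp_le hF ha) ha1 (zGrp_le hF hxa)

theorem ncard_orderOf_two (hm : 1 ≤ m) (hF : Fintype.card F = 2 ^ (2 * m + 1)) :
    {g : Sz F m | orderOf g = 2}.ncard = (Fintype.card F ^ 2 + 1) * (Fintype.card F - 1) := by
  obtain ⟨hidx, hTI⟩ := index_stab_inf hm hF
  rw [orderOf_two_eq_conjSet hm hF, ncard_conjSet hTI, hidx]
  congr 1
  rw [← Nat.card_eq_fintype_card]
  congr 1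
  refine (Nat.card_eq_of_bijective (fun b : F => (⟨tS hF 0 b, (mem_zGrp hF).2 ⟨b, rfl⟩⟩ : zGrp hF))
    ⟨fun b c h => (tS_params_inj hF (congrArg (fun z : zGrp hF => (z : Sz F m)) h)).2, fun x => ?_⟩).symm
  obtain ⟨b, hb⟩ := (mem_zGrp hF).1 x.2
  exact ⟨b, Subtype.ext hb⟩

theorem ncard_orderOf_four (hm : 1 ≤ m) (hF : Fintype.card F = 2 ^ (2 * m + 1)) :
    {g : Sz F m | orderOf g = 4}.ncard =
      (Fintype.card F ^ 2 + 1) * (Fintype.card F ^ 2 - Fintype.card F) := by
  have hsplit : conjSet (uGrp hF) = {g : Sz F m | orderOf g = 4} ∪ {g : Sz F m | orderOf g = 2} := by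
    ext g
    constructor
    · intro hg
      obtain ⟨i, hi, hi'⟩ := (Nat.dvd_prime_pow Nat.prime_two).1
        (show orderOf g ∣ 2 ^ 2 from orderOf_dvd_four hF hg)
      interval_cases i
      · exact absurd (orderOf_eq_one_iff.1 (hi'.trans (pow_zero 2))) hg.1
      · exact Or.inr (hi'.trans (pow_one 2))
      · exact Or.inl hi'
    · rintro (h | h)
      · exact mem_conjSet_uGrp_of_even hm hF (by rw [show orderOf g = 4 from h]; exact ⟨2, rfl⟩)
      · exact mem_conjSet_uGrp_of_even hm hF (by rw [show orderOf g = 2 from h]; exact even_two)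
  have hdis : Disjoint {g : Sz F m | orderOf g = 4} {g : Sz F m | orderOf g = 2} := by
    rw [Set.disjoint_left]
    intro g h h'
    have h1 : orderOf g = 4 := h
    have h2 : orderOf g = 2 := h'
    omega
  have h1 := ncard_conjSet (isTI_uGrp hm hF)
  rw [hsplit, Set.ncard_union_eq hdis (Set.toFinite _) (Set.toFinite _), ncard_orderOf_two hm hF,
    index_normalizer_uGrp hm hF, card_uGrp] at h1
  set q := Fintype.card F
  have hq : 2 ≤ q := Fintype.one_lt_card
  have h2 : q ≤ q ^ 2 := Nat.le_self_pow two_ne_zero q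
  have h3 : (q ^ 2 + 1) * (q ^ 2 - 1) = (q ^ 2 + 1) * (q ^ 2 - q) + (q ^ 2 + 1) * (q - 1) := by
    rw [← Nat.mul_add]
    congr 1
    omega
  omega

/-- The number of tori of each order normalised by a 2-element. -/
theorem ncard_normTori_two (hm : 1 ≤ m) (hF : Fintype.card F = 2 ^ (2 * m + 1))
    {X₀ : Subgroup (Sz F m)} (hX₀ : IsTorusLike X₀) {ν : ℕ}
    (hν : Nat.card (Subgroup.normalizer (X₀ : Set (Sz F m))) = ν * Nat.card X₀) :
    ν * (normTori (Nat.card X₀) (tS hF (0 : F) 1)).ncard = Fintype.card F ^ 2 := by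
  have hd : ∀ x ∈ {g : Sz F m | orderOf g = 2},
      (normTori (Nat.card X₀) x).ncard = (normTori (Nat.card X₀) (tS hF (0 : F) 1)).ncard := by
    intro x hx
    obtain ⟨y, rfl⟩ := exists_conj_tS01 hm hF hx
    exact ncard_normTori_conj _ _ _
  have key := ncard_normTori_mul hm hF hX₀ _ hd (c := Nat.card X₀)
    (fun X hX hc => (hX.ncard_involutions hm).trans hc)
  rw [ncard_orderOf_two hm hF] at key
  have hidx := Subgroup.card_mul_index (Subgroup.normalizer (X₀ : Set (Sz F m)))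
  rw [hν, card_Sz hm hF] at hidx
  set q := Fintype.card F
  set i := (Subgroup.normalizer (X₀ : Set (Sz F m))).index
  set d := (normTori (Nat.card X₀) (tS hF (0 : F) 1)).ncard
  have hq : 2 ≤ q := Fintype.one_lt_card
  refine Nat.eq_of_mul_eq_mul_left (show 0 < (q ^ 2 + 1) * (q - 1) from
    Nat.mul_pos (by positivity) (by omega)) ?_
  calc (q ^ 2 + 1) * (q - 1) * (ν * d) = ν * ((q ^ 2 + 1) * (q - 1) * d) := by ring
    _ = ν * (i * Nat.card X₀) := by rw [key]
    _ = q ^ 2 * (q ^ 2 + 1) * (q - 1) := by rw [← hidx]; ring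
    _ = _ := by ring

theorem ncard_normTori_four (hm : 1 ≤ m) (hF : Fintype.card F = 2 ^ (2 * m + 1))
    {X₀ : Subgroup (Sz F m)} (hX₀ : IsTorusLike X₀) {ν : ℕ} (hν4 : ν = 2 ∨ ν = 4)
    (hν : Nat.card (Subgroup.normalizer (X₀ : Set (Sz F m))) = ν * Nat.card X₀) :
    2 * (normTori (Nat.card X₀) (tS hF (1 : F) 0)).ncard = if ν = 4 then Fintype.card F else 0 := by
  have hd : ∀ x ∈ {g : Sz F m | orderOf g = 4},
      (normTori (Nat.card X₀) x).ncard = (normTori (Nat.card X₀) (tS hF (1 : F) 0)).ncard := by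
    intro x hx
    obtain ⟨y, rfl | rfl⟩ := exists_conj_four hm hF hx
    · exact ncard_normTori_conj _ _ _
    · rw [ncard_normTori_conj, normTori_inv]
  have hall : ∀ X : Subgroup (Sz F m), IsTorusLike X → Nat.card X = Nat.card X₀ →
      Nat.card (Subgroup.normalizer (X : Set (Sz F m))) = ν * Nat.card X := by
    intro X hX hc
    have h1 := torusLike_normalizer_card hm hF hX₀
    have h2 := torusLike_normalizer_card hm hF hX
    rw [hν] at h1
    rw [hc] at h2
    rw [h2, hc, h1]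
  have key := ncard_normTori_mul hm hF hX₀ _ hd (c := if ν = 4 then 2 * Nat.card X₀ else 0)
    (fun X hX hc => by
      have hN := hall X hX hc
      rcases hν4 with rfl | rfl
      · rw [if_neg (by norm_num), Set.ncard_eq_zero (Set.toFinite _), Set.eq_empty_iff_forall_notMem]
        rintro z ⟨hz, hz4⟩
        have hz4' : orderOf z = 4 := hz4
        have hzX : z ∉ X := hX.not_mem_of_even (by rw [hz4']; exact ⟨2, rfl⟩)
        have := orderOf_dvd_of_pow_eq_one (hX.orderOf_of_not_mem hz hzX hN)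
        rw [hz4'] at this
        exact absurd this (by decide)
      · rw [if_pos rfl]
        exact (hX.ncard_order_four hm hN).trans (by rw [hc]))
  rw [ncard_orderOf_four hm hF] at key
  have hidx := Subgroup.card_mul_index (Subgroup.normalizer (X₀ : Set (Sz F m)))
  rw [hν, card_Sz hm hF] at hidx
  set q := Fintype.card F
  set i := (Subgroup.normalizer (X₀ : Set (Sz F m))).index
  set d := (normTori (Nat.card X₀) (tS hF (1 : F) 0)).ncard
  have hq : 2 ≤ q := Fintype.one_lt_card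
  have hqq : q ^ 2 - q = q * (q - 1) := by rw [Nat.mul_sub, mul_one, sq]
  rw [hqq] at key
  have hpos : 0 < (q ^ 2 + 1) * (q * (q - 1)) :=
    Nat.mul_pos (by positivity) (Nat.mul_pos (by omega) (by omega))
  rcases hν4 with rfl | rfl
  · rw [if_neg (by norm_num), mul_zero] at key
    rw [if_neg (by norm_num)]
    have : d = 0 := by
      rcases Nat.mul_eq_zero.1 key with h | h
      · omega
      · exact h
    omega
  · rw [if_pos rfl] at key ⊢
    refine Nat.eq_of_mul_eq_mul_left hpos ?_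
    calc (q ^ 2 + 1) * (q * (q - 1)) * (2 * d) = 2 * ((q ^ 2 + 1) * (q * (q - 1)) * d) := by ring
      _ = 2 * (i * (2 * Nat.card X₀)) := by rw [key]
      _ = q ^ 2 * (q ^ 2 + 1) * (q - 1) := by rw [← hidx]; ring
      _ = _ := by ring

/-- A torus normaliser meets the Borel subgroup of a normalising 2-element in a small group. -/
theorem ncard_normalizer_inter (hm : 1 ≤ m) (hF : Fintype.card F = 2 ^ (2 * m + 1))
    {x : Sz F m} (hxU : x ∈ uGrp hF) (hx : x ≠ 1) {X : Subgroup (Sz F m)} (hX : IsTorusLike X)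
    (hxN : x ∈ Subgroup.normalizer (X : Set (Sz F m))) {ν : ℕ}
    (hν : Nat.card (Subgroup.normalizer (X : Set (Sz F m))) = ν * Nat.card X) (hν4 : ν = 2 ∨ ν = 4) :
    ((Subgroup.normalizer (X : Set (Sz F m)) : Set (Sz F m)) ∩
      (MulAction.stabilizer (Sz F m) (suzukiPointInfinity F) : Set (Sz F m))).ncard = ν := by
  classical
  set B := MulAction.stabilizer (Sz F m) (suzukiPointInfinity F) with hB
  set N := Subgroup.normalizer (X : Set (Sz F m)) with hN
  have hXB : ∀ h ∈ X, h ∈ B → h = 1 := by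
    intro h hh hhB
    have hU : x * h * x⁻¹ * h⁻¹ ∈ uGrp hF := by
      have h1 : h * x⁻¹ * h⁻¹ ∈ uGrp hF := by
        rw [hB, ← normalizer_uGrp hm hF] at hhB
        exact (Subgroup.mem_normalizer_iff.1 hhB _).1 (inv_mem hxU)
      rw [show x * h * x⁻¹ * h⁻¹ = x * (h * x⁻¹ * h⁻¹) by group]
      exact mul_mem hxU h1
    have hXm : x * h * x⁻¹ * h⁻¹ ∈ X :=
      mul_mem ((Subgroup.mem_normalizer_iff.1 hxN h).1 hh) (inv_mem hh)
    have h1 : x * h * x⁻¹ * h⁻¹ = 1 := by
      by_contra hne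
      have h4 : orderOf (x * h * x⁻¹ * h⁻¹) ∣ 2 ^ 2 :=
        orderOf_dvd_four hF ⟨hne, 1, by simpa using hU⟩
      have h5 : orderOf (x * h * x⁻¹ * h⁻¹) ∣ Nat.card X := by
        rw [← Subgroup.orderOf_mk _ hXm]; exact orderOf_dvd_natCard _
      exact hne (orderOf_eq_one_iff.1
        (((Nat.coprime_two_right.2 (hX.odd.of_dvd_nat h5)).pow_right 2).eq_one_of_dvd h4))
    by_contra hne
    have hxC : x ∈ Subgroup.centralizer ({h} : Set (Sz F m)) := by
      rw [Subgroup.mem_centralizer_singleton_iff]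
      calc x * h = (x * h * x⁻¹ * h⁻¹) * h * x := by group
        _ = h * x := by rw [h1, one_mul]
    rw [hX.cent h hh hne] at hxC
    have h4 : orderOf x ∣ 2 ^ 2 := orderOf_dvd_four hF ⟨hx, 1, by simpa using hxU⟩
    have h5 : orderOf x ∣ Nat.card X := by
      rw [← Subgroup.orderOf_mk _ hxC]; exact orderOf_dvd_natCard _
    exact hx (orderOf_eq_one_iff.1
      (((Nat.coprime_two_right.2 (hX.odd.of_dvd_nat h5)).pow_right 2).eq_one_of_dvd h4))
  have hle : ((N : Set (Sz F m)) ∩ B).ncard ≤ ν := by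
    haveI : (X.subgroupOf N).Normal := Subgroup.normal_in_normalizer
    have hquot : Nat.card (N ⧸ X.subgroupOf N) = ν := by
      refine Nat.eq_of_mul_eq_mul_right (Nat.card_pos (α := X)) ?_
      rw [← hν, Subgroup.card_eq_card_quotient_mul_card_subgroup (X.subgroupOf N),
        Nat.card_congr (Subgroup.subgroupOfEquivOfLe (Subgroup.le_normalizer (H := X))).toEquiv]
    rw [← hquot, ← Nat.card_coe_set_eq]
    refine Nat.card_le_card_of_injective
      (fun z => QuotientGroup.mk (s := X.subgroupOf N) (⟨z.1, z.2.1⟩ : N)) ?_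
    intro z w h
    have h0 : QuotientGroup.mk (s := X.subgroupOf N) (⟨z.1, z.2.1⟩ : N) =
        QuotientGroup.mk (s := X.subgroupOf N) (⟨w.1, w.2.1⟩ : N) := h
    have h1 : (⟨z.1, z.2.1⟩ : N)⁻¹ * ⟨w.1, w.2.1⟩ ∈ X.subgroupOf N := QuotientGroup.eq.1 h0
    have h' : z.1⁻¹ * w.1 ∈ X := h1
    have := hXB _ h' (mul_mem (inv_mem z.2.2) w.2.2)
    exact Subtype.ext (inv_mul_eq_one.1 this)
  refine le_antisymm hle ?_
  have h4 : orderOf x ∣ 2 ^ 2 := orderOf_dvd_four hF ⟨hx, 1, by simpa using hxU⟩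
  -- a cyclic subgroup of order `ν` inside the intersection
  obtain ⟨z, hzN, hzB, hzν⟩ : ∃ z ∈ N, z ∈ B ∧ ν ≤ orderOf z := by
    obtain ⟨i, hi, hi'⟩ := (Nat.dvd_prime_pow Nat.prime_two).1 h4
    interval_cases i
    · exact absurd (orderOf_eq_one_iff.1 (hi'.trans (pow_zero 2))) hx
    · rcases hν4 with rfl | rfl
      · exact ⟨x, hxN, uGrp_le_stab hF hxU, by rw [hi', pow_one]⟩
      · -- a square root of the involution
        have hx2 : x * x = 1 := by rw [← sq, ← pow_one 2, ← hi']; simpa using pow_orderOf_eq_one x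
        have h4N : {u | u ∈ N ∧ orderOf u = 4}.Nonempty := by
          rw [← Set.ncard_pos (Set.toFinite _), hX.ncard_order_four hm hν]
          have : 0 < Nat.card X := Nat.card_pos
          omega
        obtain ⟨z₀, hz₀N, hz₀⟩ := h4N
        have hw : orderOf (z₀ * z₀) = 2 := by
          rw [← sq, orderOf_pow, hz₀]
          norm_num
        have hw1 : z₀ * z₀ ≠ 1 := fun e => by rw [e, orderOf_one] at hw; omega
        have hw2 : z₀ * z₀ * (z₀ * z₀) = 1 := by rw [← sq, ← hw, pow_orderOf_eq_one]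
        have hd : x * (z₀ * z₀) ∈ X :=
          hX.mul_mem_of_involutions hm hxN hx hx2 (mul_mem hz₀N hz₀N) hw1 hw2
        obtain ⟨j, hj⟩ := hX.odd.of_dvd_nat (show orderOf (x * (z₀ * z₀)) ∣ Nat.card X by
          rw [← Subgroup.orderOf_mk _ hd]; exact orderOf_dvd_natCard _)
        obtain ⟨g, hg, hgx⟩ := involutions_conj hx2 hw2 ⟨j, hj⟩
        have hgN : g ∈ N := (Subgroup.zpowers_le.2 (Subgroup.le_normalizer hd)) hg
        refine ⟨g⁻¹ * z₀ * g, mul_mem (mul_mem (inv_mem hgN) hz₀N) hgN, ?_, ?_⟩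
        · refine uGrp_le_stab hF (centralizer_uGrp_le hm hF hxU hx ?_)
          rw [Subgroup.mem_centralizer_singleton_iff]
          have ex : x = g⁻¹ * (z₀ * z₀) * g := by rw [← hgx]; group
          rw [ex]
          group
        · have e : g⁻¹ * z₀ * g = (MulAut.conj g⁻¹).toMonoidHom z₀ := by simp
          rw [e, orderOf_injective (MulAut.conj g⁻¹).toMonoidHom (MulEquiv.injective _) z₀, hz₀]
    · exact ⟨x, hxN, uGrp_le_stab hF hxU, by rcases hν4 with rfl | rfl <;> rw [hi'] <;> norm_num⟩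
  calc ν ≤ Nat.card (Subgroup.zpowers z) := by rwa [Nat.card_zpowers]
    _ ≤ _ := by
      rw [← SetLike.coe_sort_coe, Nat.card_coe_set_eq]
      refine Set.ncard_le_ncard ?_ (Set.toFinite _)
      intro w hw
      exact ⟨Subgroup.zpowers_le.2 hzN hw, Subgroup.zpowers_le.2 hzB hw⟩

/-- Outside the Borel subgroup the torus normalisers through a 2-element are disjoint. -/
theorem torus_unique (hm : 1 ≤ m) (hF : Fintype.card F = 2 ^ (2 * m + 1))
    {x : Sz F m} (hxU : x ∈ uGrp hF) (hx : x ≠ 1) {X Y : Subgroup (Sz F m)} (hX : IsTorusLike X)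
    (hY : IsTorusLike Y) (hxX : x ∈ Subgroup.normalizer (X : Set (Sz F m)))
    (hxY : x ∈ Subgroup.normalizer (Y : Set (Sz F m))) {y : Sz F m}
    (hyX : y ∈ Subgroup.normalizer (X : Set (Sz F m))) (hyY : y ∈ Subgroup.normalizer (Y : Set (Sz F m)))
    (hyB : y ∉ MulAction.stabilizer (Sz F m) (suzukiPointInfinity F)) : X = Y := by
  have hy1 : y ≠ 1 := fun e => hyB (e ▸ one_mem _)
  -- the involution among the powers of `x`
  obtain ⟨t, htU, ht1, ht2, htX, htY⟩ : ∃ t ∈ uGrp hF, t ≠ 1 ∧ t * t = 1 ∧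
      t ∈ Subgroup.normalizer (X : Set (Sz F m)) ∧ t ∈ Subgroup.normalizer (Y : Set (Sz F m)) := by
    by_cases h : x * x = 1
    · exact ⟨x, hxU, hx, h, hxX, hxY⟩
    · refine ⟨x * x, mul_mem hxU hxU, h, ?_, mul_mem hxX hxX, mul_mem hxY hxY⟩
      obtain ⟨a, b, rfl⟩ := (mem_uGrp hF).1 hxU
      rw [tS_sq, tS_sq, mul_zero, tS_zero]
  by_cases hyXmem : y ∈ X
  · have hodd : Odd (orderOf y) := hX.odd.of_dvd_nat (by
      rw [← Subgroup.orderOf_mk y hyXmem]; exact orderOf_dvd_natCard _)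
    rw [← hX.cent y hyXmem hy1, hY.cent y (hY.mem_of_odd hyY hodd) hy1]
  -- `y` is a 2-element; pass to its involution
  obtain ⟨ν, hν, hνN⟩ := hX.normalizer
  have h4 : y ^ 4 = 1 := by
    have := hX.orderOf_of_not_mem hyX hyXmem hνN
    rcases hν with rfl | rfl
    · calc y ^ 4 = (y ^ 2) ^ 2 := pow_mul y 2 2
        _ = 1 := by rw [this, one_pow]
    · exact this
  obtain ⟨w, hw1, hw2, hwX, hwY, hwne⟩ : ∃ w, w ≠ 1 ∧ w * w = 1 ∧
      w ∈ Subgroup.normalizer (X : Set (Sz F m)) ∧ w ∈ Subgroup.normalizer (Y : Set (Sz F m)) ∧ w ≠ t := by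
    by_cases h : y * y = 1
    · exact ⟨y, hy1, h, hyX, hyY, fun e => hyB (e ▸ uGrp_le_stab hF htU)⟩
    · refine ⟨y * y, h, ?_, mul_mem hyX hyX, mul_mem hyY hyY, fun e => hyB ?_⟩
      · calc y * y * (y * y) = y ^ 4 := by rw [pow_succ, pow_succ, sq]; group
          _ = 1 := h4
      · refine uGrp_le_stab hF (centralizer_uGrp_le hm hF htU ht1 ?_)
        rw [Subgroup.mem_centralizer_singleton_iff, ← e, mul_assoc]
  have hp : t * w ≠ 1 := fun e => hwne ((eq_inv_of_mul_eq_one_right e).trans (inv_eq_of_mul_eq_one_right ht2))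
  rw [← hX.cent _ (hX.mul_mem_of_involutions hm htX ht1 ht2 hwX hw1 hw2) hp,
    hY.cent _ (hY.mul_mem_of_involutions hm htY ht1 ht2 hwY hw1 hw2) hp]

/-- The solubiliser of a 2-element in terms of the torus counts. -/
theorem ncard_solSet_uGrp (hm : 1 ≤ m) (hp : (2 * m + 1).Prime)
    (hF : Fintype.card F = 2 ^ (2 * m + 1)) {x : Sz F m} (hxU : x ∈ uGrp hF) (hx : x ≠ 1) :
    (solSet x).ncard = Fintype.card F ^ 2 * (Fintype.card F - 1) +
      ((normTori (2 ^ (2 * m + 1) - 1) x).ncard * (2 * (2 ^ (2 * m + 1) - 1) - 2) +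
       (normTori (2 ^ (2 * m + 1) + 2 ^ (m + 1) + 1) x).ncard *
          (4 * (2 ^ (2 * m + 1) + 2 ^ (m + 1) + 1) - 4) +
       (normTori (2 ^ (2 * m + 1) - 2 ^ (m + 1) + 1) x).ncard *
          (4 * (2 ^ (2 * m + 1) - 2 ^ (m + 1) + 1) - 4)) := by
  classical
  set B := MulAction.stabilizer (Sz F m) (suzukiPointInfinity F) with hB
  set k0 := 2 ^ (2 * m + 1) - 1 with hk0
  set kp := 2 ^ (2 * m + 1) + 2 ^ (m + 1) + 1 with hkp
  set km := 2 ^ (2 * m + 1) - 2 ^ (m + 1) + 1 with hkm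
  let out : Subgroup (Sz F m) → Finset (Sz F m) := fun X =>
    (Set.toFinite ((Subgroup.normalizer (X : Set (Sz F m)) : Set (Sz F m)) \ B)).toFinset
  set T0 := (Set.toFinite (normTori k0 x)).toFinset with hT0
  set Tp := (Set.toFinite (normTori kp x)).toFinset with hTp
  set Tm := (Set.toFinite (normTori km x)).toFinset with hTm
  have hr : 4 ≤ 2 ^ (m + 1) :=
    le_trans (by norm_num) (Nat.pow_le_pow_right (by norm_num) (show 2 ≤ m + 1 by omega))
  have hle : 2 * 2 ^ (m + 1) ≤ 2 ^ (2 * m + 1) := by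
    rw [← pow_succ']
    exact Nat.pow_le_pow_right (by norm_num) (by omega)
  have hmemT : ∀ X, X ∈ T0 ∪ Tp ∪ Tm ↔
      IsTorusLike X ∧ x ∈ Subgroup.normalizer (X : Set (Sz F m)) := by
    intro X
    simp only [hT0, hTp, hTm, Finset.mem_union, Set.Finite.mem_toFinset, normTori]
    constructor
    · rintro ((h | h) | h) <;> exact ⟨h.1, h.2.2⟩
    · rintro ⟨h1, h2⟩
      rcases h1.card_mem with h | h | h
      · exact Or.inl (Or.inl ⟨h1, h, h2⟩)
      · exact Or.inl (Or.inr ⟨h1, h, h2⟩)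
      · exact Or.inr ⟨h1, h, h2⟩
  have hxB : x.1 • suzukiPointInfinity F = suzukiPointInfinity F := uGrp_le_stab hF hxU
  have heq : solSet x = (B : Set (Sz F m)) ∪ ↑((T0 ∪ Tp ∪ Tm).biUnion out) := by
    ext y
    rw [mem_solSet_iff hm hp hF, Set.mem_union, Finset.mem_coe, Finset.mem_biUnion]
    constructor
    · rintro (⟨p, hp', hxp, hyp⟩ | ⟨Y, hY, hxY, hyY⟩)
      · rw [tS_fix_unique hF hxU hx hp' hxp] at hyp
        exact Or.inl hyp
      · by_cases hyB : y ∈ B
        · exact Or.inl hyB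
        · exact Or.inr ⟨Y, (hmemT Y).2 ⟨hY, hxY⟩, (Set.Finite.mem_toFinset _).2 ⟨hyY, hyB⟩⟩
    · rintro (hy | ⟨Y, hY, hy⟩)
      · exact Or.inl ⟨_, inf_mem, hxB, hy⟩
      · obtain ⟨h1, h2⟩ := (hmemT Y).1 hY
        exact Or.inr ⟨Y, h1, h2, ((Set.Finite.mem_toFinset _).1 hy).1⟩
  have hdis : Disjoint (B : Set (Sz F m)) ↑((T0 ∪ Tp ∪ Tm).biUnion out) := by
    rw [Set.disjoint_left]
    intro y hy hy'
    rw [Finset.mem_coe, Finset.mem_biUnion] at hy'
    obtain ⟨Y, -, hy'⟩ := hy'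
    exact ((Set.Finite.mem_toFinset _).1 hy').2 hy
  rw [heq, Set.ncard_union_eq hdis (Set.toFinite _) (Set.toFinite _), Set.ncard_coe_finset,
    Finset.card_biUnion, show ((B : Set (Sz F m))).ncard = Nat.card B from (Nat.card_coe_set_eq _).symm,
    hB, card_stab_inf hm hF]
  swap
  · intro X hX Y hY hne
    rw [Function.onFun, Finset.disjoint_left]
    intro y hy hy'
    obtain ⟨h1, h2⟩ := (hmemT X).1 hX
    obtain ⟨h3, h4⟩ := (hmemT Y).1 hY
    have hy1 := (Set.Finite.mem_toFinset _).1 hy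
    exact hne (torus_unique hm hF hxU hx h1 h3 h2 h4 hy1.1 ((Set.Finite.mem_toFinset _).1 hy').1 hy1.2)
  congr 1
  have hout : ∀ k, ∀ X ∈ (Set.toFinite (normTori k x)).toFinset,
      (out X).card = (if k = k0 then 2 else 4) * k - (if k = k0 then 2 else 4) := by
    intro k X hX
    obtain ⟨hX1, hX2, hX3⟩ := (Set.Finite.mem_toFinset _).1 hX
    have hN := torusLike_normalizer_card hm hF hX1
    rw [hX2] at hN
    set ν := if k = k0 then 2 else 4 with hν
    have hν4 : ν = 2 ∨ ν = 4 := by rw [hν]; split_ifs <;> simp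
    have hint := ncard_normalizer_inter hm hF hxU hx hX1 hX3 (ν := ν) (by rw [hN, hX2]) hν4
    show ((Set.toFinite ((Subgroup.normalizer (X : Set (Sz F m)) : Set (Sz F m)) \ B)).toFinset).card = _
    rw [← Set.ncard_eq_toFinset_card]
    have h' := Set.ncard_inter_add_ncard_sdiff_eq_ncard
      (Subgroup.normalizer (X : Set (Sz F m)) : Set (Sz F m)) (B : Set (Sz F m)) (Set.toFinite _)
    rw [hint, show ((Subgroup.normalizer (X : Set (Sz F m)) : Set (Sz F m))).ncard =
      Nat.card (Subgroup.normalizer (X : Set (Sz F m))) from (Nat.card_coe_set_eq _).symm, hN] at h'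
    omega
  have hd1 : Disjoint T0 Tp := by
    rw [Finset.disjoint_left]
    intro X h h'
    have a1 := ((Set.Finite.mem_toFinset _).1 h).2.1
    have a2 := ((Set.Finite.mem_toFinset _).1 h').2.1
    omega
  have hd2 : Disjoint (T0 ∪ Tp) Tm := by
    rw [Finset.disjoint_left]
    intro X h h'
    have a2 := ((Set.Finite.mem_toFinset _).1 h').2.1
    rcases Finset.mem_union.1 h with h | h
    · have a1 := ((Set.Finite.mem_toFinset _).1 h).2.1
      omega
    · have a1 := ((Set.Finite.mem_toFinset _).1 h).2.1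
      omega
  rw [Finset.sum_union hd2, Finset.sum_union hd1, Finset.sum_congr rfl (hout k0),
    Finset.sum_congr rfl (hout kp), Finset.sum_congr rfl (hout km), if_pos rfl,
    if_neg (by omega), if_neg (by omega), Finset.sum_const, Finset.sum_const, Finset.sum_const,
    smul_eq_mul, smul_eq_mul, smul_eq_mul, ← Set.ncard_eq_toFinset_card, ← Set.ncard_eq_toFinset_card,
    ← Set.ncard_eq_toFinset_card]

theorem exists_torusLike_card (hm : 1 ≤ m) (hF : Fintype.card F = 2 ^ (2 * m + 1)) :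
    ∃ X₀ Xp Xm : Subgroup (Sz F m), IsTorusLike X₀ ∧ IsTorusLike Xp ∧ IsTorusLike Xm ∧
      Nat.card X₀ = 2 ^ (2 * m + 1) - 1 ∧ Nat.card Xp = 2 ^ (2 * m + 1) + 2 ^ (m + 1) + 1 ∧
      Nat.card Xm = 2 ^ (2 * m + 1) - 2 ^ (m + 1) + 1 := by
  obtain ⟨Up, Um, hp', hn, -, -⟩ := partition hm hF
  have he : ∀ k, Even (2 ^ (k + 1)) := fun k => Nat.even_pow.2 ⟨even_two, by omega⟩
  refine ⟨hGrp hF, Up, Um, isTorusLike_hGrp hm hF, ?_, ?_, by rw [card_hGrp, hF], hp'.card, hn.card⟩
  · refine ⟨hp'.cyclic, Or.inr (Or.inl hp'.card), ?_, hp'.cent, 4, Or.inr rfl,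
      by rw [hp'.normalizer, hp'.card]⟩
    rw [hp'.card]
    exact ((he (2 * m)).add (he m)).add_one
  · refine ⟨hn.cyclic, Or.inr (Or.inr hn.card), ?_, hn.cent, 4, Or.inr rfl,
      by rw [hn.normalizer, hn.card]⟩
    rw [hn.card]
    refine Even.add_one ?_
    rw [Nat.even_sub (Nat.pow_le_pow_right (by norm_num) (by omega))]
    exact iff_of_true (he (2 * m)) (he m)

theorem ncard_solSet_two (hm : 1 ≤ m) (hp : (2 * m + 1).Prime)
    (hF : Fintype.card F = 2 ^ (2 * m + 1)) {x : Sz F m} (hx : orderOf x = 2) :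
    (solSet x).ncard = (2 ^ (2 * m + 1)) ^ 2 * (4 * 2 ^ (2 * m + 1) - 3) := by
  obtain ⟨g, rfl⟩ := exists_conj_tS01 hm hF hx
  obtain ⟨X₀, Xp, Xm, h0, hp', hn, c0, cp, cm⟩ := exists_torusLike_card hm hF
  have hr : 4 ≤ 2 ^ (m + 1) :=
    le_trans (by norm_num) (Nat.pow_le_pow_right (by norm_num) (show 2 ≤ m + 1 by omega))
  have hle : 2 * 2 ^ (m + 1) ≤ 2 ^ (2 * m + 1) := by
    rw [← pow_succ']
    exact Nat.pow_le_pow_right (by norm_num) (by omega)
  have hN : ∀ X : Subgroup (Sz F m), IsTorusLike X → Nat.card (Subgroup.normalizer (X : Set (Sz F m))) =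
      (if Nat.card X = 2 ^ (2 * m + 1) - 1 then 2 else 4) * Nat.card X := fun X hX =>
    torusLike_normalizer_card hm hF hX
  have e0 := ncard_normTori_two hm hF h0 (hN _ h0)
  have ep := ncard_normTori_two hm hF hp' (hN _ hp')
  have em := ncard_normTori_two hm hF hn (hN _ hn)
  rw [c0, if_pos rfl] at e0
  rw [cp, if_neg (by omega)] at ep
  rw [cm, if_neg (by omega)] at em
  rw [ncard_solSet_conj, ncard_solSet_uGrp hm hp hF ((mem_uGrp hF).2 ⟨0, 1, rfl⟩)
    (fun e => one_ne_zero (tS_params_inj hF (e.trans (tS_zero hF).symm)).2)]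
  rw [hF] at e0 ep em ⊢
  set q := 2 ^ (2 * m + 1)
  set r := 2 ^ (m + 1)
  set d0 := (normTori (q - 1) (tS hF (0 : F) 1)).ncard
  set dp := (normTori (q + r + 1) (tS hF (0 : F) 1)).ncard
  set dm := (normTori (q - r + 1) (tS hF (0 : F) 1)).ncard
  have f0 : d0 * (2 * (q - 1) - 2) = q ^ 2 * (q - 2) := by
    rw [← e0, show 2 * (q - 1) - 2 = 2 * (q - 2) by omega]; ring
  have fp : dp * (4 * (q + r + 1) - 4) = q ^ 2 * (q + r) := by
    rw [← ep, show 4 * (q + r + 1) - 4 = 4 * (q + r) by omega]; ring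
  have fm : dm * (4 * (q - r + 1) - 4) = q ^ 2 * (q - r) := by
    rw [← em, show 4 * (q - r + 1) - 4 = 4 * (q - r) by omega]; ring
  rw [f0, fp, fm, ← Nat.mul_add, ← Nat.mul_add, ← Nat.mul_add]
  congr 1
  omega

theorem ncard_solSet_four (hm : 1 ≤ m) (hp : (2 * m + 1).Prime)
    (hF : Fintype.card F = 2 ^ (2 * m + 1)) {x : Sz F m} (hx : orderOf x = 4) :
    (solSet x).ncard = (2 ^ (2 * m + 1)) ^ 2 * (2 ^ (2 * m + 1) + 3) := by
  have hinv : ∀ y : Sz F m, solSet y⁻¹ = solSet y := by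
    intro y
    ext z
    have e : Subgroup.closure ({y⁻¹, z} : Set (Sz F m)) = Subgroup.closure ({y, z} : Set (Sz F m)) := by
      apply le_antisymm <;> rw [Subgroup.closure_le] <;> rintro w (hw | hw)
      · rw [hw]; exact inv_mem (Subgroup.subset_closure (Or.inl rfl))
      · exact Subgroup.subset_closure (Or.inr hw)
      · rw [hw]
        have h := inv_mem (Subgroup.subset_closure (Or.inl rfl) : y⁻¹ ∈ Subgroup.closure ({y⁻¹, z} : Set (Sz F m)))
        rwa [inv_inv] at h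
      · exact Subgroup.subset_closure (Or.inr hw)
    show Group.IsSolvable _ ↔ Group.IsSolvable _
    rw [e]
  obtain ⟨X₀, Xp, Xm, h0, hp', hn, c0, cp, cm⟩ := exists_torusLike_card hm hF
  have hr : 4 ≤ 2 ^ (m + 1) :=
    le_trans (by norm_num) (Nat.pow_le_pow_right (by norm_num) (show 2 ≤ m + 1 by omega))
  have hle : 2 * 2 ^ (m + 1) ≤ 2 ^ (2 * m + 1) := by
    rw [← pow_succ']
    exact Nat.pow_le_pow_right (by norm_num) (by omega)
  have hN : ∀ X : Subgroup (Sz F m), IsTorusLike X → Nat.card (Subgroup.normalizer (X : Set (Sz F m))) =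
      (if Nat.card X = 2 ^ (2 * m + 1) - 1 then 2 else 4) * Nat.card X := fun X hX =>
    torusLike_normalizer_card hm hF hX
  have e0 := ncard_normTori_four hm hF h0 (ν := 2) (Or.inl rfl) (by rw [hN _ h0, c0, if_pos rfl])
  have ep := ncard_normTori_four hm hF hp' (ν := 4) (Or.inr rfl) (by rw [hN _ hp', cp, if_neg (by omega)])
  have em := ncard_normTori_four hm hF hn (ν := 4) (Or.inr rfl) (by rw [hN _ hn, cm, if_neg (by omega)])
  rw [c0, if_neg (by norm_num)] at e0
  rw [cp, if_pos rfl] at ep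
  rw [cm, if_pos rfl] at em
  have hne : (tS hF (1 : F) 0 : Sz F m) ≠ 1 := fun e =>
    one_ne_zero (tS_params_inj hF (e.trans (tS_zero hF).symm)).1
  have hval : (solSet (tS hF (1 : F) 0 : Sz F m)).ncard =
      (2 ^ (2 * m + 1)) ^ 2 * (2 ^ (2 * m + 1) + 3) := by
    rw [ncard_solSet_uGrp hm hp hF ((mem_uGrp hF).2 ⟨1, 0, rfl⟩) hne]
    rw [hF] at ep em ⊢
    set q := 2 ^ (2 * m + 1)
    set r := 2 ^ (m + 1)
    set d0 := (normTori (q - 1) (tS hF (1 : F) 0)).ncard
    set dp := (normTori (q + r + 1) (tS hF (1 : F) 0)).ncard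
    set dm := (normTori (q - r + 1) (tS hF (1 : F) 0)).ncard
    have f0 : d0 = 0 := by omega
    have fp : dp * (4 * (q + r + 1) - 4) = q * (2 * (q + r)) := by
      rw [show 4 * (q + r + 1) - 4 = 4 * (q + r) by omega, ← ep]; ring
    have fm : dm * (4 * (q - r + 1) - 4) = q * (2 * (q - r)) := by
      rw [show 4 * (q - r + 1) - 4 = 4 * (q - r) by omega, ← em]; ring
    rw [f0, zero_mul, zero_add, fp, fm, ← Nat.mul_add, show 2 * (q + r) + 2 * (q - r) = 4 * q by omega,
      show q * (4 * q) = q ^ 2 * 4 by ring, ← Nat.mul_add]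
    congr 1
    omega
  obtain ⟨g, rfl | rfl⟩ := exists_conj_four hm hF hx
  · rw [ncard_solSet_conj, hval]
  · rw [ncard_solSet_conj, hinv, hval]

end Cfsg.Agent.SZ
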