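/-
The binary actions of the Suzuki groups.
-/
import Cfsg.Agent.Lib.Sz.BinaryCriterion
import Cfsg.Agent.Lib.Sz.Subgroups
import Cfsg.Agent.Lib.Sz.SolubilizerEven
import Cfsg.Agent.Lib.Sz.Real
import Cfsg.Agent.S0331

set_option autoImplicit false

namespace Cfsg.Agent.SZ

open Cfsg Matrix
open scoped Pointwise

variable {F : Type*} [Field F] [Fintype F] {m : ℕ}

/-! ### Elements with entries in the prime field -/

/-- `T(0,1) W T(0,1) W` over the prime field. -/
def xTwo : Matrix (Fin 4) (Fin 4) (ZMod 2) := tMat 0 0 1 * wMat * tMat 0 0 1 * wMat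

theorem xTwo_checks : xTwo ^ 5 = 1 ∧
    tMat 0 1 1 * xTwo * tMat 0 1 0 = xTwo ^ 3 ∧ xTwo ≠ 1 := by
  decide +kernel

/-- The element `T(0,1) W T(0,1) W` of order five. -/
def xFive (hF : Fintype.card F = 2 ^ (2 * m + 1)) : Sz F m :=
  tS hF 0 1 * wS hF * tS hF 0 1 * wS hF

omit [Fintype F] in
theorem tMat_map [CharP F 2] (i j : ZMod 2) :
    (tMat 0 i j).map (ZMod.castHom (dvd_refl 2) F) =
      tMat m (ZMod.castHom (dvd_refl 2) F i) (ZMod.castHom (dvd_refl 2) F j) := by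
  have hi : i = 0 ∨ i = 1 := by revert i; decide
  have hj : j = 0 ∨ j = 1 := by revert j; decide
  ext r s
  rcases hi with rfl | rfl <;> rcases hj with rfl | rfl <;> fin_cases r <;> fin_cases s <;>
    simp [tMat, zf, th]

omit [Fintype F] in
theorem wMat_map [CharP F 2] :
    (wMat : Matrix (Fin 4) (Fin 4) (ZMod 2)).map (ZMod.castHom (dvd_refl 2) F) = wMat := by
  ext r s
  fin_cases r <;> fin_cases s <;> simp [wMat]

theorem xFive_props (hF : Fintype.card F = 2 ^ (2 * m + 1)) :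
    xFive (m := m) hF ^ 5 = 1 ∧ xFive (m := m) hF ≠ 1 ∧
      (tS hF 1 0)⁻¹ * xFive hF * ((tS hF 1 0)⁻¹)⁻¹ = (xFive hF : Sz F m) ^ 3 := by
  have := charTwo hF
  obtain ⟨c1, c2, c3⟩ := xTwo_checks
  let f := (ZMod.castHom (dvd_refl 2) F).mapMatrix (m := Fin 4)
  have hf : Function.Injective f := Matrix.map_injective (ZMod.castHom (dvd_refl 2) F).injective
  have ht : ∀ i j : ZMod 2, f (tMat 0 i j) =
      tMat m (ZMod.castHom (dvd_refl 2) F i) (ZMod.castHom (dvd_refl 2) F j) := tMat_map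
  have hw : f wMat = wMat := wMat_map
  have hx : f xTwo = (xFive (m := m) hF).1.1 := by
    rw [xTwo, map_mul, map_mul, map_mul, ht, hw, map_zero, map_one]
    rfl
  refine ⟨Subtype.ext (sl_ext ?_), fun e => c3 (hf ?_), Subtype.ext (sl_ext ?_)⟩
  · rw [SubmonoidClass.coe_pow, Matrix.SpecialLinearGroup.coe_pow, ← hx, ← map_pow, c1, map_one]
    rfl
  · rw [hx, e, map_one]; rfl
  · have hinv : (tS hF 1 0 : Sz F m)⁻¹ = tS hF 1 1 := by
      refine inv_eq_of_mul_eq_one_right (Subtype.ext ?_)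
      show T m (1 : F) 0 * T m 1 1 = 1
      rw [T_mul hF, ← T_zero (m := m), th_one, one_mul, zero_add, add_self hF]
    rw [inv_inv, hinv, SubmonoidClass.coe_pow, Matrix.SpecialLinearGroup.coe_pow, ← hx, ← map_pow,
      ← c2, map_mul, map_mul, ht, ht, map_one, map_zero]
    show tMat m (1 : F) 1 * (xFive (m := m) hF).1.1 * tMat m 1 0 = _
    rw [hx]

theorem orderOf_xFive (hF : Fintype.card F = 2 ^ (2 * m + 1)) :
    orderOf (xFive (m := m) hF) = 5 := by
  have : Fact (Nat.Prime 5) := ⟨by norm_num⟩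
  exact orderOf_eq_prime (xFive_props hF).1 (xFive_props hF).2.1

theorem xFive_smul_inf (hF : Fintype.card F = 2 ^ (2 * m + 1)) :
    (xFive (m := m) hF).1 • suzukiPointInfinity F = aff m 1 1 := by
  have h1 : zf m (0 : F) 1 ≠ 0 := by simp [zf]
  show (T m (0 : F) 1 * W * T m 0 1 * W) • suzukiPointInfinity F = _
  rw [mul_smul, mul_smul, mul_smul, W_smul_inf, zero_eq_aff (m := m), T_smul_aff hF,
    show (0 : F) + 0 = 0 from add_zero 0, show (0 : F) + 1 + th m 0 * 0 = 1 by simp,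
    W_smul_aff hF _ _ h1, T_smul_aff hF]
  congr 1 <;> simp [zf]

/-- The rational points: infinity and the affine points with coordinates in the prime field. -/
def IsRational (m : ℕ) (p : Projectivization F (Fin 4 → F)) : Prop :=
  p = suzukiPointInfinity F ∨ ∃ i j : F, (i = 0 ∨ i = 1) ∧ (j = 0 ∨ j = 1) ∧ p = aff m i j

theorem xFive_rational (hF : Fintype.card F = 2 ^ (2 * m + 1))
    {p : Projectivization F (Fin 4 → F)} (hp : IsRational m p) :
    IsRational m ((xFive (m := m) hF).1 • p) := by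
  have hT : ∀ {p : Projectivization F (Fin 4 → F)}, IsRational m p →
      IsRational m (T m (0 : F) 1 • p) := by
    rintro p (rfl | ⟨i, j, hi, hj, rfl⟩)
    · exact Or.inl (T_smul_inf _ _)
    · refine Or.inr ⟨i, j + 1, hi, ?_, by rw [T_smul_aff hF]; simp⟩
      rcases hj with rfl | rfl
      · exact Or.inr (zero_add 1)
      · exact Or.inl (add_self hF 1)
  have hW : ∀ {p : Projectivization F (Fin 4 → F)}, IsRational m p →
      IsRational m ((W : SpecialLinearGroup (Fin 4) F) • p) := by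
    rintro p (rfl | ⟨i, j, hi, hj, rfl⟩)
    · exact Or.inr ⟨0, 0, Or.inl rfl, Or.inl rfl, by rw [W_smul_inf, zero_eq_aff (m := m)]⟩
    · have h3 : (1 : F) + 1 + 1 = 1 := by rw [add_self hF, zero_add]
      rcases hi with rfl | rfl <;> rcases hj with rfl | rfl
      · exact Or.inl (by rw [← zero_eq_aff (m := m), W_smul_zero])
      · exact Or.inr ⟨1, 0, Or.inr rfl, Or.inl rfl, by
          rw [W_smul_aff hF _ _ (by simp [zf])]; simp [zf]⟩
      · exact Or.inr ⟨0, 1, Or.inl rfl, Or.inr rfl, by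
          rw [W_smul_aff hF _ _ (by simp [zf])]; simp [zf]⟩
      · exact Or.inr ⟨1, 1, Or.inr rfl, Or.inr rfl, by
          rw [W_smul_aff hF _ _ (by simp [zf, h3])]; simp [zf, h3]⟩
  show IsRational m ((T m (0 : F) 1 * W * T m 0 1 * W) • p)
  rw [mul_smul, mul_smul, mul_smul]
  exact hT (hW (hT (hW hp)))

/-! ### Involutions -/

theorem fix_conj_commute (hm : 1 ≤ m) (hF : Fintype.card F = 2 ^ (2 * m + 1)) {e f c : Sz F m}
    (he : e * e = 1) (hf : f * f = 1)
    (hce : c⁻¹ * e * c ∈ MulAction.stabilizer (Sz F m) (suzukiPointInfinity F))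
    (hcf : c⁻¹ * f * c ∈ MulAction.stabilizer (Sz F m) (suzukiPointInfinity F)) :
    e * f = f * e := by
  obtain ⟨b, hb⟩ := (mem_zGrp hF).1 (involution_mem_zGrp hm hF (by
    calc c⁻¹ * e * c * (c⁻¹ * e * c) = c⁻¹ * (e * e) * c := by group
      _ = 1 := by rw [he]; group) hce)
  obtain ⟨d, hd⟩ := (mem_zGrp hF).1 (involution_mem_zGrp hm hF (by
    calc c⁻¹ * f * c * (c⁻¹ * f * c) = c⁻¹ * (f * f) * c := by group
      _ = 1 := by rw [hf]; group) hcf)
  calc e * f = c * ((c⁻¹ * e * c) * (c⁻¹ * f * c)) * c⁻¹ := by group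
    _ = c * ((c⁻¹ * f * c) * (c⁻¹ * e * c)) * c⁻¹ := by
        rw [← hb, ← hd, (tS_central_iff hm hF 0 b).2 rfl 0 d]
    _ = f * e := by group

/-- A real element `x = y ^ 2` yields a triangle of involutions. -/
theorem exists_triangle (hm : 1 ≤ m) (hF : Fintype.card F = 2 ^ (2 * m + 1)) {t x y : Sz F m}
    (ht : t * t = 1) (ht1 : t ≠ 1) (hyx : y * y = x) (hty : t * y * t = y⁻¹)
    (hx2 : x * x ≠ 1) :
    ∃ u e : Sz F m, u ^ 4 = 1 ∧ e * e = 1 ∧ u * t = t * u ∧ e = t * (u * y * u⁻¹) ∧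
      t * x * e = e * (t * x) := by
  have htx : t * x * t = x⁻¹ := by
    rw [← hyx, show t * (y * y) * t = t * y * (t * t) * y * t by rw [ht]; group,
      show t * y * (t * t) * y * t = (t * y * t) * (t * y * t) by group, hty, ← _root_.mul_inv_rev]
  obtain ⟨c, hc⟩ := exists_conj_involution hm hF ht ht1
  have hinv : ∀ z : Sz F m, t * z * t = z⁻¹ → z * z ≠ 1 →
      t * z * (t * z) = 1 ∧ t * z ≠ 1 ∧ t * (t * z) ≠ t * z * t := by
    intro z hz hz2
    refine ⟨?_, ?_, ?_⟩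
    · rw [show t * z * (t * z) = (t * z * t) * z by group, hz, inv_mul_cancel]
    · intro e
      have : t = z⁻¹ := eq_inv_of_mul_eq_one_left e
      exact hz2 (by rw [← _root_.inv_inj, _root_.mul_inv_rev, ← this, ht, inv_one])
    · intro e
      rw [← mul_assoc, ht, one_mul, hz] at e
      exact hz2 (by nth_rewrite 1 [e]; exact inv_mul_cancel z)
  obtain ⟨hx_inv, hx_ne, hx_nc⟩ := hinv x htx hx2
  obtain ⟨hy_inv, hy_ne, hy_nc⟩ := hinv y hty (fun e => hx2 (by rw [← hyx, e, mul_one]))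
  obtain ⟨d₁, hd₁⟩ := exists_conj_involution hm hF hx_inv hx_ne
  obtain ⟨d₂, hd₂⟩ := exists_conj_involution hm hF hy_inv hy_ne
  have hz : (tS hF 0 1 : Sz F m) * tS hF 0 1 = 1 := by rw [tS_sq hF, mul_zero, tS_zero]
  have hzst : (tS hF 0 1 : Sz F m) ∈ MulAction.stabilizer (Sz F m) (suzukiPointInfinity F) :=
    uGrp_le_stab hF ((mem_uGrp hF).2 ⟨0, 1, rfl⟩)
  have hne : ∀ {d s : Sz F m}, d * tS hF 0 1 * d⁻¹ = s → s * s = 1 → t * s ≠ s * t →
      (c⁻¹ * d).1 • suzukiPointInfinity F ≠ suzukiPointInfinity F := by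
    intro d s hd hs hnc h
    have hmem : c⁻¹ * d ∈ MulAction.stabilizer (Sz F m) (suzukiPointInfinity F) := h
    refine hnc (fix_conj_commute hm hF (c := c) ht hs ?_ ?_)
    · rw [← hc, show c⁻¹ * (c * tS hF 0 1 * c⁻¹) * c = tS hF 0 1 by group]; exact hzst
    · rw [← hd, show c⁻¹ * (d * tS hF 0 1 * d⁻¹) * c = (c⁻¹ * d) * tS hF 0 1 * (c⁻¹ * d)⁻¹ by group]
      exact Subgroup.mul_mem _ (Subgroup.mul_mem _ hmem hzst) (Subgroup.inv_mem _ hmem)
  have hn1 := hne hd₁ hx_inv hx_nc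
  have hn2 := hne hd₂ hy_inv hy_nc
  obtain ⟨⟨u₀, hu₀⟩, hs, -⟩ := uGrp_regular hF (smul_mem (c⁻¹ * d₂).2 inf_mem)
    (smul_mem (c⁻¹ * d₁).2 inf_mem) hn2 hn1
  obtain ⟨a, b, hab⟩ := (mem_uGrp hF).1 hu₀
  set u := c * u₀ * c⁻¹ with hu
  have hut : u * t = t * u := by
    rw [hu, ← hc, ← hab]
    have := (tS_central_iff hm hF 0 1).2 rfl a b
    calc c * tS hF a b * c⁻¹ * (c * tS hF 0 1 * c⁻¹)
        = c * (tS hF a b * tS hF 0 1) * c⁻¹ := by group
      _ = c * (tS hF 0 1 * tS hF a b) * c⁻¹ := by rw [this]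
      _ = _ := by group
  have he : t * (u * y * u⁻¹) = u * (t * y) * u⁻¹ := by
    calc t * (u * y * u⁻¹) = (t * u) * y * u⁻¹ := by group
      _ = (u * t) * y * u⁻¹ := by rw [hut]
      _ = _ := by group
  have hu4 : u ^ 4 = 1 := by
    have h4 := Monoid.pow_exponent_eq_one (⟨u₀, hu₀⟩ : uGrp hF)
    rw [exponent_uGrp hF] at h4
    have h4' : u₀ ^ 4 = 1 := congrArg Subtype.val h4
    rw [hu, conj_pow, h4']
    group
  have hee : t * (u * y * u⁻¹) * (t * (u * y * u⁻¹)) = 1 := by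
    rw [he, show u * (t * y) * u⁻¹ * (u * (t * y) * u⁻¹) = u * (t * y * (t * y)) * u⁻¹ by group,
      hy_inv]
    group
  refine ⟨u, t * (u * y * u⁻¹), hu4, hee, hut, rfl, ?_⟩
  refine fix_conj_commute hm hF (c := d₁) hx_inv hee ?_ ?_
  · rw [← hd₁, show d₁⁻¹ * (d₁ * tS hF 0 1 * d₁⁻¹) * d₁ = tS hF 0 1 by group]; exact hzst
  · rw [he, ← hd₂]
    have hk : d₁⁻¹ * u * d₂ ∈ MulAction.stabilizer (Sz F m) (suzukiPointInfinity F) := by
      show (d₁⁻¹ * u * d₂).1 • suzukiPointInfinity F = suzukiPointInfinity F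
      have h' : (u₀ * (c⁻¹ * d₂)).1 • suzukiPointInfinity F =
          (c⁻¹ * d₁).1 • suzukiPointInfinity F := by
        rw [Subgroup.coe_mul, mul_smul]; exact hs
      rw [show d₁⁻¹ * u * d₂ = (c⁻¹ * d₁)⁻¹ * (u₀ * (c⁻¹ * d₂)) by rw [hu]; group,
        Subgroup.coe_mul, mul_smul, h', InvMemClass.coe_inv, inv_smul_smul]
    rw [show d₁⁻¹ * (u * (d₂ * tS hF 0 1 * d₂⁻¹) * u⁻¹) * d₁ =
      (d₁⁻¹ * u * d₂) * tS hF 0 1 * (d₁⁻¹ * u * d₂)⁻¹ by group]
    exact Subgroup.mul_mem _ (Subgroup.mul_mem _ hk hzst) (Subgroup.inv_mem _ hk)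

theorem eq_one_of_sq_mem_odd {G : Type*} [Group G] [Finite G] {M : Subgroup G}
    (hodd : Odd (Nat.card M)) {z : G} (hz : z ∈ M) (h2 : z * z = 1) : z = 1 := by
  have hd : orderOf z ∣ 2 := orderOf_dvd_of_pow_eq_one (by rw [sq, h2])
  have ho : Odd (orderOf z) := hodd.of_dvd_nat (by
    rw [← Subgroup.orderOf_mk z hz]; exact orderOf_dvd_natCard _)
  rcases (Nat.dvd_prime Nat.prime_two).1 hd with h | h
  · exact orderOf_eq_one_iff.1 h
  · rw [h] at ho; exact absurd ho (by decide)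

/-- A trivial intersection set of odd order with an element of prime order other than five. -/
theorem not_binary_of_prime (hm : 1 ≤ m) (hF : Fintype.card F = 2 ^ (2 * m + 1))
    {H : Subgroup (Sz F m)} [DecidableEq (Sz F m)] {S : Finset (Sz F m)}
    (hTI : ∀ g z : Sz F m, z ≠ 1 → z ∈ coreOn H S → g⁻¹ * z * g ∈ coreOn H S →
      ∀ y, y ∈ coreOn H S ↔ g⁻¹ * y * g ∈ coreOn H S)
    (hodd : Odd (Nat.card (coreOn H S))) {x : Sz F m} (hx : x ∈ coreOn H S) {p : ℕ} (hp : p.Prime)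
    (hxp : orderOf x = p) (hp5 : p ≠ 5) : ¬ BinaryCoset H := by
  have hp2 : p ≠ 2 := by
    rintro rfl
    have h1 := hodd.of_dvd_nat (show orderOf x ∣ Nat.card (coreOn H S) by
      rw [← Subgroup.orderOf_mk x hx]; exact orderOf_dvd_natCard _)
    rw [hxp] at h1
    exact absurd h1 (by decide)
  obtain ⟨t, ht, ht1, htx⟩ := exists_inverting hm hF hp hp2 hxp
  rw [inv_eq_of_mul_eq_one_right ht] at htx
  obtain ⟨j, hj⟩ := hp.odd_of_ne_two hp2
  set y := x ^ (j + 1) with hy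
  have hxpow : x ^ (2 * j + 1) = 1 := by rw [← hj, ← hxp, pow_orderOf_eq_one]
  have hyx : y * y = x := by
    rw [hy, ← pow_add, show j + 1 + (j + 1) = 2 * j + 1 + 1 by omega, pow_succ, hxpow, one_mul]
  have hty : t * y * t = y⁻¹ := by
    have e := conj_pow (i := j + 1) (a := t) (b := x)
    rw [inv_eq_of_mul_eq_one_right ht, htx] at e
    rw [hy, ← e, inv_pow]
  have hx2 : x * x ≠ 1 := fun e => by
    have := orderOf_dvd_of_pow_eq_one (x := x) (n := 2) (by rw [sq, e])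
    rw [hxp] at this
    exact hp2 ((Nat.prime_dvd_prime_iff_eq hp Nat.prime_two).1 this)
  obtain ⟨u, e, hu4, he, hut, hee, hcomm⟩ := exists_triangle hm hF ht ht1 hyx hty hx2
  have hb : u * x * u⁻¹ = t * e * (t * e) := by
    rw [hee, ← mul_assoc t t, ht, one_mul, ← hyx]
    group
  have heinv : e⁻¹ = e := inv_eq_of_mul_eq_one_right he
  have hx1 : x⁻¹ = t * x * t := htx.symm
  refine not_binary_of_TI hTI (a := x⁻¹) (b := u * x * u⁻¹) (g := u) (k := e)
    (inv_mem hx) (fun e' => hp.ne_one (by rw [← hxp, orderOf_eq_one_iff]; exact inv_eq_one.1 e'))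
    (by rw [show u⁻¹ * (u * x * u⁻¹) * u = x by group]; exact hx) ?_ ?_
  · suffices h : e⁻¹ * (x⁻¹ * (u * x * u⁻¹)) * e = x⁻¹ by rw [h]; exact inv_mem hx
    rw [hb, hx1, heinv]
    calc e * (t * x * t * (t * e * (t * e))) * e = e * (t * x * (t * t) * e * t) * (e * e) := by group
      _ = e * (t * x * e) * t := by rw [ht, he]; group
      _ = (e * e) * (t * x) * t := by rw [hcomm]; group
      _ = t * x * t := by rw [he, one_mul]
  · intro hmem
    set y' := u * y * u⁻¹ with hy'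
    have hy'm : y' ∈ coreOn H S := by
      rw [hy', hy, ← conj_pow]
      exact pow_mem hmem _
    have e2 : x⁻¹ * y' = y'⁻¹ * x := by
      have h := hcomm
      rw [hee] at h
      have e3 : t * y' * t = y'⁻¹ := by
        rw [eq_inv_iff_mul_eq_one]
        calc t * y' * t * y' = (t * y') * (t * y') := by group
          _ = 1 := by rw [← hee, he]
      calc x⁻¹ * y' = t * x * (t * y') := by rw [hx1]; group
        _ = t * y' * (t * x) := h
        _ = (t * y' * t) * x := by group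
        _ = y'⁻¹ * x := by rw [e3]
    have hyx' : x⁻¹ * y' = 1 := eq_one_of_sq_mem_odd hodd (mul_mem (inv_mem hx) hy'm) (by
      nth_rewrite 2 [e2]
      group)
    have hy1 : u * y * u⁻¹ = x := (inv_mul_eq_one.1 hyx').symm
    have hux : u * x * u⁻¹ = x ^ 2 := by
      rw [← hyx, ← conj_mul, hy1, hyx, sq]
    have h16 : x ^ 15 = 1 := by
      have step : ∀ n : ℕ, u ^ n * x * (u ^ n)⁻¹ = x ^ 2 ^ n := by
        intro n
        induction n with
        | zero => simp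
        | succ n ih =>
          calc u ^ (n + 1) * x * (u ^ (n + 1))⁻¹ = u * (u ^ n * x * (u ^ n)⁻¹) * u⁻¹ := by
                rw [pow_succ']; group
            _ = (u * x * u⁻¹) ^ 2 ^ n := by rw [ih, conj_pow]
            _ = x ^ 2 ^ (n + 1) := by rw [hux, ← pow_mul, pow_succ']
      have h := step 4
      rw [hu4, one_mul, inv_one, mul_one] at h
      calc x ^ 15 = x⁻¹ * x ^ 16 := by group
        _ = 1 := by rw [show (2 : ℕ) ^ 4 = 16 by norm_num] at h; rw [← h, inv_mul_cancel]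
    have hd : p ∣ 3 * 5 := hxp ▸ orderOf_dvd_of_pow_eq_one h16
    rcases hp.dvd_mul.1 hd with h | h
    · have hp3 := (Nat.prime_dvd_prime_iff_eq hp Nat.prime_three).1 h
      refine not_three_dvd_card hm hF ?_
      rw [← hp3, ← hxp]
      exact orderOf_dvd_natCard x
    · exact hp5 ((Nat.prime_dvd_prime_iff_eq hp (by norm_num)).1 h)

/-! ### Elements of order five -/

/-- Two elements of order five in a subgroup of five-power order. -/
theorem mem_zpowers_of_fiveGroup (hm : 1 ≤ m) (hF : Fintype.card F = 2 ^ (2 * m + 1))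
    (P : Subgroup (Sz F m)) (hP : IsPGroup 5 P) {a b : Sz F m} (ha : a ∈ P) (hb : b ∈ P)
    (h5 : orderOf a = 5) (hb5 : b ^ 5 = 1) : b ∈ Subgroup.zpowers a := by
  classical
  have : Fact (Nat.Prime 5) := ⟨by norm_num⟩
  obtain ⟨R, hR⟩ := hP.exists_le_sylow
  have := S0331.result hm hF (by norm_num : (5 : ℕ) ≠ 2) R
  let := Fintype.ofFinite R
  set a' : R := ⟨a, hR ha⟩ with ha'
  have ha5 : orderOf a' = 5 := by rw [ha', Subgroup.orderOf_mk]; exact h5
  by_contra hbn
  have hsub : insert ⟨b, hR hb⟩ ((Finset.range 5).image fun i => a' ^ i) ⊆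
      Finset.univ.filter fun z : R => z ^ 5 = 1 := by
    intro z hz
    simp only [Finset.mem_filter, Finset.mem_univ, true_and]
    rcases Finset.mem_insert.1 hz with rfl | hz
    · exact Subtype.ext hb5
    · obtain ⟨i, -, rfl⟩ := Finset.mem_image.1 hz
      rw [← pow_mul, mul_comm, pow_mul, show a' ^ 5 = 1 by have := pow_orderOf_eq_one a'; rwa [ha5] at this, one_pow]
  have hnot : (⟨b, hR hb⟩ : R) ∉ (Finset.range 5).image fun i => a' ^ i := fun h => by
    obtain ⟨i, -, hi⟩ := Finset.mem_image.1 h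
    exact hbn ⟨i, by simpa [ha'] using congrArg Subtype.val hi⟩
  have hle := (Finset.card_le_card hsub).trans (IsCyclic.card_pow_eq_one_le (by norm_num))
  rw [Finset.card_insert_of_notMem hnot, Finset.card_image_of_injOn, Finset.card_range] at hle
  · omega
  · intro i hi j hj h
    exact pow_injOn_Iio_orderOf (by simpa [ha5] using hi) (by simpa [ha5] using hj) h

/-- A trivial intersection five-group. -/
theorem not_binary_of_five (hm : 1 ≤ m) (hF : Fintype.card F = 2 ^ (2 * m + 1))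
    {H : Subgroup (Sz F m)} [DecidableEq (Sz F m)] {S : Finset (Sz F m)}
    (hTI : ∀ g z : Sz F m, z ≠ 1 → z ∈ coreOn H S → g⁻¹ * z * g ∈ coreOn H S →
      ∀ y, y ∈ coreOn H S ↔ g⁻¹ * y * g ∈ coreOn H S)
    (h5 : IsPGroup 5 (coreOn H S)) {x : Sz F m} (hx : x ∈ coreOn H S)
    (hxp : orderOf x = 5) : ¬ BinaryCoset H := by
  have : Fact (Nat.Prime 5) := ⟨by norm_num⟩
  set X := xFive (m := m) hF with hX
  have hX5 := orderOf_xFive (m := m) hF
  -- a conjugate of `xFive` lies in the intersection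
  obtain ⟨g₀, hg₀⟩ : ∃ g₀ : Sz F m, g₀⁻¹ * X * g₀ ∈ coreOn H S := by
    obtain ⟨P, hP⟩ := h5.exists_le_sylow
    obtain ⟨P₀, hP₀⟩ := (IsPGroup.of_card (p := 5) (n := 1) (G := Subgroup.zpowers X)
      (by rw [Nat.card_zpowers, hX5, pow_one])).exists_le_sylow
    obtain ⟨g, hg⟩ := MulAction.exists_smul_eq (Sz F m) P P₀
    have h1 : g * x * g⁻¹ ∈ (P₀ : Subgroup (Sz F m)) := by rw [← hg]; exact ⟨x, hP hx, rfl⟩
    obtain ⟨i, hi⟩ := mem_zpowers_of_fiveGroup hm hF _ P₀.isPGroup' h1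
      (hP₀ (Subgroup.mem_zpowers X))
      (by rw [show g * x * g⁻¹ = MulAut.conj g x from rfl, MulEquiv.orderOf_eq]; exact hxp)
      (hX5 ▸ pow_orderOf_eq_one X)
    refine ⟨g, ?_⟩
    have hi' : (g * x * g⁻¹) ^ i = X := hi
    rw [← hi', conj_zpow, show g⁻¹ * (g * x ^ i * g⁻¹) * g = x ^ i by group]
    exact zpow_mem hx i
  -- a third point
  obtain ⟨l, hl0, hl1⟩ : ∃ l : F, l ≠ 0 ∧ l ≠ 1 := by
    obtain ⟨u, hu⟩ := exists_unit_ne_one hm hF
    exact ⟨u, u.ne_zero, fun e => hu (Units.ext e)⟩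
  have hz0 : zf m (1 : F) l ≠ 0 := fun e => hl0 (zf_eq_zero hF e).2
  obtain ⟨r, hr⟩ : ∃ r : F, r ^ 2 = (zf m 1 l)⁻¹ := by
    obtain ⟨v, hv⟩ := exists_sqrt hF (Units.mk0 _ (inv_ne_zero hz0))
    exact ⟨v, by rw [sq, ← Units.val_mul, hv]; rfl⟩
  have hr0 : r ≠ 0 := fun e => inv_ne_zero hz0 (by rw [← hr, e, sq, mul_zero])
  have hth : th m r ≠ 0 := fun e => hr0 (th_eq_zero.1 e)
  set s := r ^ 2 / th m r with hs
  set d := th m r * l with hd
  have hzf : zf m s d = 1 := by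
    have : zf m s d = r ^ 2 * zf m 1 l := by
      simp only [zf, hs, hd, th_mul, th_div, th_th hF, th_pow, th_one]
      field_simp
    rw [this, hr, inv_mul_cancel₀ hz0]
  have hs0 : s ≠ 0 := div_ne_zero (pow_ne_zero _ hr0) hth
  have hs1 : s ≠ 1 := by
    intro e
    rw [hs, div_eq_one_iff_eq hth] at e
    have hr1 : r = 1 := th_eq_sq hF e.symm hr0
    rw [hr1, one_pow, eq_comm, inv_eq_one] at hr
    have : th m l = l := by
      simp only [zf, th_one, one_mul, one_pow] at hr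
      linear_combination hr - l * two_zero hF
    exact hl1 (th_eq_self hF this hl0)
  -- the configuration at the standard points
  set z : Sz F m := tS hF 0 1 with hz
  set L : Sz F m := wS hF * z * wS hF with hL
  set v : Sz F m := tS hF s d with hv
  set v' : Sz F m := tS hF (1 + d) (s + th m (1 + d) * d) with hv'
  set g : Sz F m := wS hF * v' * wS hF with hg
  have hww : wS (m := m) hF * wS hF = 1 := Subtype.ext W_mul_W
  have hzz : z * z = 1 := by rw [hz, tS_sq hF, mul_zero, tS_zero]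
  have hXz : X = z * L := by rw [hX, xFive, hL, hz]; group
  have hcz : ∀ a b : F, tS hF a b * z = z * tS hF a b := fun a b =>
    ((tS_central_iff hm hF 0 1).2 rfl a b).symm
  have hvec : (g * v).1.1 *ᵥ pt m 0 0 = z.1.1 *ᵥ pt m 0 0 := by
    have e1 : v.1.1 *ᵥ pt m 0 0 = pt m s d := by
      show (T m s d).1 *ᵥ pt m 0 0 = _
      rw [T_pt hF]; simp
    have e2 : z.1.1 *ᵥ pt m 0 0 = pt m (0 : F) 1 := by
      show (T m 0 1).1 *ᵥ pt m 0 0 = _
      rw [T_pt hF]; simp
    have e3 : (W : SpecialLinearGroup (Fin 4) F).1 *ᵥ pt m s d = pt m d s := by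
      rw [W_pt hF s d (by rw [hzf]; exact one_ne_zero), hzf, one_smul, div_one, div_one]
    rw [e2]
    show (W * T m (1 + d) (s + th m (1 + d) * d) * W * T m s d).1 *ᵥ pt m 0 0 = _
    rw [val_mul, ← Matrix.mulVec_mulVec, show (T m s d).1 *ᵥ pt m 0 0 = pt m s d from e1, val_mul,
      ← Matrix.mulVec_mulVec, e3, val_mul, ← Matrix.mulVec_mulVec, T_pt hF,
      show d + (1 + d) = 1 by linear_combination d * two_zero hF,
      show s + (s + th m (1 + d) * d) + th m (1 + d) * d = 0 by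
        linear_combination (s + th m (1 + d) * d) * two_zero hF,
      W_pt hF (1 : F) 0 (by simp [zf])]
    simp [zf]
  set k : Sz F m := z⁻¹ * g * v with hk
  have hkL : k * L = L * k := by
    have hkv : (wS hF * k * wS hF).1.1 *ᵥ pInfV = (pInfV : Fin 4 → F) := by
      have e1 : (W : SpecialLinearGroup (Fin 4) F).1 *ᵥ pInfV = pt m (0 : F) 0 := by
        rw [W_mulVec]; funext i; fin_cases i <;> simp [pInfV, pt, zf]
      have e2 : (W : SpecialLinearGroup (Fin 4) F).1 *ᵥ pt m (0 : F) 0 = pInfV := by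
        rw [W_mulVec]; funext i; fin_cases i <;> simp [pInfV, pt, zf]
      have e4 : k.1.1 *ᵥ pt m 0 0 = pt m (0 : F) 0 := by
        rw [hk, mul_assoc, Subgroup.coe_mul, val_mul, ← Matrix.mulVec_mulVec, hvec,
          Matrix.mulVec_mulVec, ← val_mul, ← Subgroup.coe_mul, inv_mul_cancel, Subgroup.coe_one,
          val_one, Matrix.one_mulVec]
      show (W * k.1 * W).1 *ᵥ pInfV = _
      rw [val_mul, ← Matrix.mulVec_mulVec, e1, val_mul, ← Matrix.mulVec_mulVec, e4, e2]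
    have hfix : wS hF * k * wS hF ∈ MulAction.stabilizer (Sz F m) (suzukiPointInfinity F) := by
      show (wS hF * k * wS hF).1 • Projectivization.mk F (pInfV : Fin 4 → F) pInfV_ne = _
      rw [smul_mk' _ _ _ (mulVec_ne _ pInfV_ne)]
      exact (Projectivization.mk_eq_mk_iff' F _ _ _ _).2 ⟨1, by rw [one_smul, hkv]; rfl⟩
    obtain ⟨a, b, w, hw⟩ := stab_eq hm hF hfix
    have hw1 : w = 1 := by
      rw [hw] at hkv
      change (T m a b * SZ.H m w).1 *ᵥ pInfV = pInfV at hkv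
      rw [val_mul, ← Matrix.mulVec_mulVec, H_inf, Matrix.mulVec_smul, T_inf] at hkv
      exact Units.ext (by simpa [pInfV] using congrFun hkv 0)
    subst hw1
    rw [hS_one, mul_one] at hw
    calc k * L = wS hF * (wS hF * k * wS hF) * z * wS hF := by
          rw [hL]; simp only [← mul_assoc, hww, one_mul]
      _ = wS hF * z * (wS hF * k * wS hF) * wS hF := by
          rw [hw, mul_assoc (wS hF), hcz, ← mul_assoc]
      _ = L * k := by
          rw [hL]; simp only [mul_assoc, hww, mul_one]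
  have hgL : g * L = L * g := by
    calc g * L = wS hF * (v' * (wS hF * wS hF) * z) * wS hF := by rw [hg, hL]; group
      _ = wS hF * (z * (wS hF * wS hF) * v') * wS hF := by rw [hww, mul_one, mul_one, hcz]
      _ = L * g := by rw [hg, hL]; group
  have hLL : L * L = 1 := by
    rw [hL, show wS hF * z * wS hF * (wS hF * z * wS hF) =
      wS hF * z * (wS hF * wS hF) * z * wS hF by group, hww, mul_one, mul_assoc (wS hF) z z, hzz,
      mul_one, hww]
  set b : Sz F m := L * (v * L * v⁻¹) with hb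
  have hgb : g * b * g⁻¹ = (X⁻¹) ^ 2 := by
    have e1 : g * v * L = z * L * (z⁻¹ * (g * v)) := by
      calc g * v * L = z * (k * L) := by rw [hk]; group
        _ = z * (L * k) := by rw [hkL]
        _ = _ := by rw [hk]; group
    calc g * b * g⁻¹ = (g * L) * (v * L * v⁻¹) * g⁻¹ := by rw [hb]; group
      _ = L * (g * v * L) * v⁻¹ * g⁻¹ := by rw [hgL]; group
      _ = L * (z * L * (z⁻¹ * (g * v))) * v⁻¹ * g⁻¹ := by rw [e1]
      _ = L * z * L * z⁻¹ := by group
      _ = X⁻¹ ^ 2 := by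
          rw [hXz, _root_.mul_inv_rev, inv_eq_of_mul_eq_one_right hLL,
            inv_eq_of_mul_eq_one_right hzz, sq, mul_assoc _ L z]
  have hXb : X * b = v * X * v⁻¹ := by
    calc X * b = z * (L * L) * (v * L * v⁻¹) := by rw [hXz, hb]; group
      _ = (z * v) * L * v⁻¹ := by rw [hLL]; group
      _ = (v * z) * L * v⁻¹ := by rw [hv, hcz]
      _ = _ := by rw [hXz]; group
  refine not_binary_of_TI hTI (a := g₀⁻¹ * X * g₀) (b := g₀⁻¹ * b * g₀) (g := g₀⁻¹ * g⁻¹ * g₀)
    (k := g₀⁻¹ * v * g₀) hg₀ (fun e => (xFive_props (m := m) hF).2.1 ?_) ?_ ?_ ?_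
  · calc X = g₀ * (g₀⁻¹ * X * g₀) * g₀⁻¹ := by group
      _ = 1 := by rw [e]; group
  · rw [show (g₀⁻¹ * g⁻¹ * g₀)⁻¹ * (g₀⁻¹ * b * g₀) * (g₀⁻¹ * g⁻¹ * g₀) =
      g₀⁻¹ * (g * b * g⁻¹) * g₀ by group, hgb,
      show g₀⁻¹ * X⁻¹ ^ 2 * g₀ = ((g₀⁻¹ * X * g₀)⁻¹) ^ 2 by rw [sq, sq]; group]
    exact pow_mem (inv_mem hg₀) 2
  · rw [show (g₀⁻¹ * v * g₀)⁻¹ * (g₀⁻¹ * X * g₀ * (g₀⁻¹ * b * g₀)) * (g₀⁻¹ * v * g₀) =
      g₀⁻¹ * (v⁻¹ * (X * b) * v) * g₀ by group, hXb,
      show v⁻¹ * (v * X * v⁻¹) * v = X by group]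
    exact hg₀
  · intro hmem
    have h1 := mul_mem hg₀ hmem
    rw [show g₀⁻¹ * X * g₀ * (g₀⁻¹ * b * g₀) = g₀⁻¹ * (X * b) * g₀ by group, hXb] at h1
    have hord : orderOf (g₀⁻¹ * X * g₀) = 5 := by
      rw [show g₀⁻¹ * X * g₀ = MulAut.conj g₀⁻¹ X by simp, MulEquiv.orderOf_eq]; exact hX5
    obtain ⟨i, hi⟩ := mem_zpowers_of_fiveGroup hm hF _ h5 hg₀ h1 hord (by
      rw [show g₀⁻¹ * (v * X * v⁻¹) * g₀ = g₀⁻¹ * v * X * (g₀⁻¹ * v)⁻¹ by group, conj_pow,
        ← hX5, pow_orderOf_eq_one]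
      group)
    have hi' : (g₀⁻¹ * X * g₀) ^ i = g₀⁻¹ * (v * X * v⁻¹) * g₀ := hi
    rw [show g₀⁻¹ * X * g₀ = g₀⁻¹ * X * g₀⁻¹⁻¹ by rw [inv_inv], conj_zpow, inv_inv] at hi'
    have hi2 : X ^ i = v * X * v⁻¹ := mul_left_cancel (mul_right_cancel hi')
    have hrat : ∀ n : ℕ, IsRational m ((X ^ n).1 • suzukiPointInfinity F) := by
      intro n
      induction n with
      | zero => exact Or.inl (by simp)
      | succ n ih =>
        rw [pow_succ', Subgroup.coe_mul, mul_smul]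
        exact xFive_rational hF ih
    obtain ⟨n, hn⟩ : ∃ n : ℕ, X ^ n = X ^ i := by
      have hmem' : X ^ i ∈ Submonoid.powers X :=
        (IsOfFinOrder.mem_powers_iff_mem_zpowers (isOfFinOrder_of_finite X)).2 ⟨i, rfl⟩
      exact Submonoid.mem_powers_iff _ _ |>.1 hmem'
    have hr' := hrat n
    rw [hn, hi2] at hr'
    have hpt : (v * X * v⁻¹).1 • suzukiPointInfinity F = T m s d • aff m 1 1 := by
      have hvfix : (v⁻¹).1 • suzukiPointInfinity F = suzukiPointInfinity F := by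
        rw [InvMemClass.coe_inv, inv_smul_eq_iff]; exact (T_smul_inf _ _).symm
      rw [Subgroup.coe_mul, mul_smul, hvfix, Subgroup.coe_mul, mul_smul, xFive_smul_inf]
      rfl
    rw [hpt, T_smul_aff hF] at hr'
    rcases hr' with h | ⟨i', j', hi'', -, h⟩
    · exact aff_ne_inf _ _ h
    · obtain ⟨h2, -⟩ := aff_inj h
      rcases hi'' with rfl | rfl
      · exact hs1 (by linear_combination h2 - two_zero hF)
      · exact hs0 (by linear_combination h2)

end Cfsg.Agent.SZ
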