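/-
The binary actions of the Suzuki groups, continued: the classification.
-/
import Cfsg.Agent.Lib.Sz.Binary

set_option autoImplicit false

namespace Cfsg.Agent.SZ

open Cfsg Matrix
open scoped Pointwise

variable {F : Type*} [Field F] [Fintype F] {m : ℕ}

/-- The character `u ↦ u² / θ u` of the torus on `U / Z(U)`. -/
def kap (m : ℕ) (u : Fˣ) : F := (u : F) ^ 2 / th m (u : F)

theorem kap_ne_one (hF : Fintype.card F = 2 ^ (2 * m + 1)) {u : Fˣ} (hu : u ≠ 1) :
    1 + kap m u ≠ 0 := by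
  intro h
  have h1 : kap m u = 1 := by linear_combination h - two_zero hF
  rw [kap, div_eq_one_iff_eq fun e => u.ne_zero (th_eq_zero.1 e)] at h1
  exact hu (Units.ext (th_eq_sq hF h1.symm u.ne_zero))

omit [Fintype F] in
theorem kap_mul (u v : Fˣ) : kap m (u * v) = kap m u * kap m v := by
  rw [kap, kap, kap, Units.val_mul, mul_pow, th_mul, div_mul_div_comm]

/-- The product of two elements of the standard point stabiliser. -/
theorem bmul (hF : Fintype.card F = 2 ^ (2 * m + 1)) (a b c d : F) (u v : Fˣ) :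
    (tS hF a b * hS hF u) * (tS hF c d * hS hF v) =
      (tS hF (a + kap m u * c) (b + th m (u : F) * d + th m a * (kap m u * c)) * hS hF (u * v) :
        Sz F m) := by
  have hm' : ∀ a b c d : F, (tS hF a b * tS hF c d : Sz F m) =
      tS hF (a + c) (b + d + th m a * c) := fun a b c d => Subtype.ext (T_mul hF a b c d)
  calc (tS hF a b * hS hF u) * (tS hF c d * hS hF v)
      = tS hF a b * (hS hF u * tS hF c d * (hS hF u)⁻¹) * (hS hF u * hS hF v) := by group
    _ = _ := by rw [hS_conj_tS, hm', hS_mul_units]; rfl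

theorem tS_zero_add (hF : Fintype.card F = 2 ^ (2 * m + 1)) (c a b : F) :
    (tS hF 0 c * tS hF a b : Sz F m) = tS hF a (c + b) :=
  Subtype.ext (by
    show T m 0 c * T m a b = T m a (c + b)
    rw [T_mul hF]; simp)

/-- Conjugation by `T(δ, 0)` shifts the first coordinate. -/
theorem conj_tS_shift (hF : Fintype.card F = 2 ^ (2 * m + 1)) (δ a b : F) (v : Fˣ) :
    ∃ b', (tS hF δ 0 * (tS hF a b * hS hF v) * (tS hF δ 0)⁻¹ : Sz F m) =
      tS hF (a + δ * (1 + kap m v)) b' * hS hF v := by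
  have hinv : (tS hF δ 0 : Sz F m)⁻¹ = tS hF δ (th m δ * δ) := by
    refine inv_eq_of_mul_eq_one_right (Subtype.ext ?_)
    show T m δ 0 * T m δ _ = 1
    rw [T_mul hF, ← T_zero (m := m), add_self hF, zero_add, add_self hF]
  have e0 : ∀ a b : F, (tS hF a b : Sz F m) = tS hF a b * hS hF (1 : Fˣ) := fun a b => by
    rw [hS_one, mul_one]
  have k1 : kap m (1 : Fˣ) = 1 := by simp [kap]
  rw [hinv, e0 δ 0, e0 δ (th m δ * δ), bmul hF, bmul hF, one_mul, mul_one, k1]
  exact ⟨_, by congr 2; ring⟩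

/-- `g` fixes infinity and its coordinates lie on the line of slope `α`. -/
def OnLine (hF : Fintype.card F = 2 ^ (2 * m + 1)) (α : F) (g : Sz F m) : Prop :=
  ∃ (b : F) (v : Fˣ), g = tS hF (α * (1 + kap m v)) b * hS hF v

theorem OnLine.shift {hF : Fintype.card F = 2 ^ (2 * m + 1)} {α : F} {g : Sz F m}
    (h : OnLine hF α g) (δ : F) : OnLine hF (α + δ) (tS hF δ 0 * g * (tS hF δ 0)⁻¹) := by
  obtain ⟨b, v, rfl⟩ := h
  obtain ⟨b', e⟩ := conj_tS_shift hF δ (α * (1 + kap m v)) b v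
  exact ⟨b', v, by rw [e]; congr 2; ring⟩

theorem OnLine.mem_zGrp_of_two (hm : 1 ≤ m) {hF : Fintype.card F = 2 ^ (2 * m + 1)} {α β : F}
    {g : Sz F m} (h : OnLine hF α g) (h' : OnLine hF β g) (hne : α ≠ β) : g ∈ zGrp hF := by
  obtain ⟨b, v, rfl⟩ := h
  obtain ⟨b', v', e⟩ := h'
  obtain ⟨e1, -, rfl⟩ := tS_hS_inj hm hF e
  rcases mul_eq_mul_right_iff.1 e1 with e2 | e2
  · exact absurd e2 hne
  · obtain rfl : v = 1 := by
      by_contra hv
      exact kap_ne_one hF hv e2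
    exact (mem_zGrp hF).2 ⟨b, by rw [e2, mul_zero, hS_one, mul_one]⟩

theorem eq_of_tS_div (hm : 1 ≤ m) (hF : Fintype.card F = 2 ^ (2 * m + 1)) {K : Subgroup (Sz F m)}
    (h4 : ∀ c d : F, tS hF c d ∈ K → c = 0) {x y x' y' : F}
    (h : tS hF x y * (tS hF x' y')⁻¹ ∈ K) : x = x' := by
  have hinv : (tS hF x' y' : Sz F m)⁻¹ = tS hF x' (y' + th m x' * x') := by
    refine inv_eq_of_mul_eq_one_right (Subtype.ext ?_)
    show T m x' y' * T m x' _ = 1
    rw [T_mul hF, ← T_zero (m := m), add_self hF]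
    congr 1
    linear_combination (y' + th m x' * x') * two_zero hF
  rw [hinv, show (tS hF x y * tS hF x' (y' + th m x' * x') : Sz F m) =
    tS hF (x + x') (y + (y' + th m x' * x') + th m x * x') from Subtype.ext (T_mul hF _ _ _ _)] at h
  linear_combination h4 _ _ h - x' * two_zero hF

/-- A proper overgroup of a full centre of a Sylow subgroup fixes its point. -/
theorem le_stab_of_zGrp_le (hm : 1 ≤ m) (hF : Fintype.card F = 2 ^ (2 * m + 1))
    {K : Subgroup (Sz F m)} (hK : K ≠ ⊤) (hZ : zGrp hF ≤ K) :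
    K ≤ MulAction.stabilizer (Sz F m) (suzukiPointInfinity F) := by
  have : Fact (Nat.Prime 2) := ⟨Nat.prime_two⟩
  have hcz : Nat.card (zGrp (m := m) hF) = 2 ^ (2 * m + 1) := by
    rw [zGrp, Subgroup.card_map_of_injective (uGrp hF).subtype_injective, ← center_eq hm hF,
      card_center hm hF, hF]
  rcases subgroup_classification hm hF K hK with ⟨P, hP⟩ | ⟨U, hU, hc, hN⟩ |
    ⟨E, _, _, k, hk, hkm, hE, hd, S, ⟨e⟩, hS⟩
  · -- the Sylow subgroup is the standard one
    have hp : IsPGroup 2 (zGrp (m := m) hF) := IsPGroup.of_card hcz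
    have hle : zGrp (m := m) hF ≤ P := by
      intro g hg
      have hg2 : g ∈ Subgroup.normalizer ((P : Subgroup (Sz F m)) : Set (Sz F m)) := hP (hZ hg)
      have hg3 : g ∈ zGrp hF ⊓ Subgroup.normalizer ((P : Subgroup (Sz F m)) : Set (Sz F m)) :=
        ⟨hg, hg2⟩
      have hg4 : g ∈ zGrp hF ⊓ (P : Subgroup (Sz F m)) := by
        rw [← hp.inf_normalizer_sylow P]
        exact hg3
      exact hg4.2
    obtain ⟨c, hc⟩ := MulAction.exists_smul_eq (Sz F m) (uSylow hm hF) P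
    set z : Sz F m := tS hF 0 1 with hz
    have hz1 : z ≠ 1 := fun e => by
      rw [hz, ← tS_zero (m := m) hF] at e
      exact one_ne_zero (tS_params_inj hF e).2
    have hzZ : z ∈ zGrp hF := (mem_zGrp hF).2 ⟨1, rfl⟩
    have hzP : z ∈ c • (uSylow hm hF : Sylow 2 (Sz F m)) := hc.symm ▸ hle hzZ
    have hzc : c⁻¹ * z * c ∈ uGrp hF := by
      have h1 : z ∈ ((c • uSylow hm hF : Sylow 2 (Sz F m)) : Subgroup (Sz F m)) := hzP
      rw [Sylow.coe_subgroup_smul, Subgroup.mem_pointwise_smul_iff_inv_smul_mem, coe_uSylow] at h1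
      simpa [MulAut.smul_def] using h1
    have hcn : c ∈ Subgroup.normalizer (uGrp hF : Set (Sz F m)) := by
      refine isTI_uGrp hm hF c (c⁻¹ * z * c) hzc (fun e => hz1 ?_) ?_
      · calc z = c * (c⁻¹ * z * c) * c⁻¹ := by group
          _ = 1 := by rw [e]; group
      · rw [show c * (c⁻¹ * z * c) * c⁻¹ = z by group]
        exact zGrp_le hF hzZ
    have hPU : (P : Subgroup (Sz F m)) = uGrp hF := by
      rw [← hc, Sylow.coe_subgroup_smul, coe_uSylow]
      ext x
      rw [Subgroup.mem_pointwise_smul_iff_inv_smul_mem]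
      have := Subgroup.mem_normalizer_iff''.1 hcn x
      simpa [MulAut.smul_def] using this.symm
    rw [hPU, normalizer_uGrp hm hF] at hP
    exact hP
  · exfalso
    obtain ⟨Up, Um, hp, hn, -, hcov⟩ := partition hm hF
    obtain ⟨A, hA, x, rfl⟩ := exists_conj_of_cyclic hm hF hp hn hcov hU hc
    have he : ∀ k, Even (2 ^ (k + 1)) := fun k => Nat.even_pow.2 ⟨even_two, by omega⟩
    have hkey : ∀ (A : Subgroup (Sz F m)) ν, (ν = 2 ∨ ν = 4) → Odd (Nat.card A) →
        Nat.card (Subgroup.normalizer (A : Set (Sz F m))) = ν * Nat.card A →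
        ¬ K ≤ Subgroup.normalizer ((A.map (MulAut.conj x).toMonoidHom : Subgroup _) : Set (Sz F m)) := by
      intro A ν hν hodd hcard hle
      have h1 := Subgroup.card_dvd_of_le (hZ.trans hle)
      rw [← Subgroup.map_equiv_normalizer_eq,
        Subgroup.card_map_of_injective (MulEquiv.injective _), hcard, hcz] at h1
      have h2 := ((Nat.coprime_two_left.2 hodd).pow_left (2 * m + 1)).dvd_of_dvd_mul_right h1
      have h3 : 2 ^ 3 ≤ 2 ^ (2 * m + 1) := Nat.pow_le_pow_right (by norm_num) (by omega)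
      have h4 := Nat.le_of_dvd (by rcases hν with rfl | rfl <;> norm_num) h2
      rcases hν with rfl | rfl <;> omega
    rcases hA with rfl | rfl | rfl
    · obtain ⟨ν, hν, hcard⟩ := (isTorusLike_hGrp hm hF).normalizer
      exact hkey _ ν hν (isTorusLike_hGrp hm hF).odd hcard hN
    · refine hkey _ 4 (Or.inr rfl) ?_ (by rw [hp.normalizer, hp.card]) hN
      rw [hp.card]
      exact ((he (2 * m)).add (he m)).add_one
    · refine hkey _ 4 (Or.inr rfl) ?_ (by rw [hn.normalizer, hn.card]) hN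
      rw [hn.card]
      refine Even.add_one ?_
      rw [Nat.even_sub (Nat.pow_le_pow_right (by norm_num) (by omega))]
      exact iff_of_true (he (2 * m)) (he m)
  · exfalso
    have h1 : 2 ^ (2 * m + 1) ∣ Nat.card (Sz E k) := by
      rw [← hcz, ← Nat.card_congr e.toEquiv]
      exact Subgroup.card_dvd_of_le (hZ.trans hS)
    have h2 : Nat.card (Sz E k) = (2 ^ (2 * k + 1)) ^ 2 *
        (((2 ^ (2 * k + 1)) ^ 2 + 1) * (2 ^ (2 * k + 1) - 1)) := by
      rw [card_Sz hk hE, hE, mul_assoc]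
    have hev : Even (2 ^ (2 * k + 1)) := Nat.even_pow.2 ⟨even_two, by omega⟩
    have hodd : Odd (((2 ^ (2 * k + 1)) ^ 2 + 1) * (2 ^ (2 * k + 1) - 1)) :=
      Odd.mul ((Nat.even_pow.2 ⟨hev, two_ne_zero⟩).add_one)
        (Nat.Even.sub_odd Nat.one_le_two_pow hev odd_one)
    rw [h2] at h1
    have h3 := ((Nat.coprime_two_left.2 hodd).pow_left (2 * m + 1)).dvd_of_dvd_mul_right h1
    rw [← pow_mul] at h3
    have h4 := (Nat.pow_dvd_pow_iff_le_right (by norm_num : 1 < 2)).1 h3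
    obtain ⟨j, hj⟩ := hd
    have hj3 : 3 ≤ j := by
      by_contra hlt
      interval_cases j <;> omega
    have := Nat.mul_le_mul_left (2 * k + 1) hj3
    omega

/-- A proper overgroup of the centre of a Sylow subgroup, other than the centre, is not binary. -/
theorem not_binary_of_zGrp_lt (hm : 1 ≤ m) (hF : Fintype.card F = 2 ^ (2 * m + 1))
    {H : Subgroup (Sz F m)} (t : Sz F m) (hK : coreOn H {t} ≠ ⊤)
    (hZ : zGrp hF ≤ coreOn H {t}) (hne : coreOn H {t} ≠ zGrp hF) : ¬ BinaryCoset H := by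
  classical
  have hB := le_stab_of_zGrp_le hm hF hK hZ
  by_cases h4 : ∃ a b, a ≠ 0 ∧ tS hF a b ∈ coreOn H {t}
  · -- an element of order four and a five-cycle
    obtain ⟨a, b, ha, hab⟩ := h4
    have hord : orderOf (tS hF a b : Sz F m) = 4 := by
      have : Fact (Nat.Prime 2) := ⟨Nat.prime_two⟩
      refine orderOf_eq_prime_pow (p := 2) (n := 1) (fun e => ha ?_) ?_
      · rw [pow_one, sq, tS_sq hF, ← tS_zero (m := m) hF] at e
        rcases mul_eq_zero.1 (tS_params_inj hF e).2 with h | h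
        exacts [th_eq_zero.1 h, h]
      · rw [show (2 : ℕ) ^ (1 + 1) = 2 * 2 by norm_num, pow_mul, sq, sq, tS_sq hF, tS_sq hF,
          mul_zero, tS_zero]
    obtain ⟨c, hc⟩ := exists_conj_four hm hF hord
    obtain ⟨hX5, hX1, hXc⟩ := xFive_props (m := m) hF
    set x := c * xFive hF * c⁻¹ with hx
    set h := c * (tS hF 1 0)⁻¹ * c⁻¹ with hh
    have hhK : h ∈ coreOn H {t} := by
      rcases hc with e | e
      · rw [show h = (tS hF a b)⁻¹ by rw [hh, e]; group]
        exact inv_mem hab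
      · rw [show h = tS hF a b by rw [hh, e]]
        exact hab
    have hxK : x ∉ coreOn H {t} := by
      intro hxK
      have hd : orderOf x ∣ Nat.card (MulAction.stabilizer (Sz F m) (suzukiPointInfinity F)) := by
        rw [← Subgroup.orderOf_mk x (hB hxK)]
        exact orderOf_dvd_natCard _
      rw [hx, show c * xFive hF * c⁻¹ = MulAut.conj c (xFive hF) from rfl, MulEquiv.orderOf_eq,
        orderOf_xFive, card_stab_inf hm hF, hF] at hd
      have h5 : Nat.Prime 5 := by norm_num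
      rcases h5.dvd_mul.1 hd with h' | h'
      · exact absurd (h5.dvd_of_dvd_pow (h5.dvd_of_dvd_pow h')) (by norm_num)
      · have e4 : 4 ^ m % 5 = 1 ∨ 4 ^ m % 5 = 4 := by
          clear * -
          induction m with
          | zero => exact Or.inl rfl
          | succ n ih => rw [pow_succ, Nat.mul_mod]; rcases ih with h | h <;> rw [h] <;> simp
        have e : 2 ^ (2 * m + 1) = 2 * 4 ^ m := by rw [pow_succ', pow_mul]; norm_num
        rw [e] at h'
        omega
    refine not_binary_of_triangle (not_three_dvd_card hm hF) (x := t⁻¹ * x * t) (h := t⁻¹ * h * t)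
      ?_ (fun h' => hxK (mem_coreOn_singleton.2 h')) (mem_coreOn_singleton.1 hhK) ?_
    · rw [show t⁻¹ * x * t = t⁻¹ * c * xFive hF * (t⁻¹ * c)⁻¹ by rw [hx]; group, conj_pow, hX5]
      group
    · rw [show t⁻¹ * h * t * (t⁻¹ * x * t) * (t⁻¹ * h * t)⁻¹ =
        t⁻¹ * c * ((tS hF 1 0)⁻¹ * xFive hF * (tS hF 1 0)⁻¹⁻¹) * (t⁻¹ * c)⁻¹ by rw [hh, hx]; group,
        hXc, show t⁻¹ * x * t = t⁻¹ * c * xFive hF * (t⁻¹ * c)⁻¹ by rw [hx]; group, conj_pow]
  push Not at h4
  -- no element of order four: an element with non-trivial torus part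
  obtain ⟨g, hg, hgZ⟩ : ∃ g ∈ coreOn H {t}, g ∉ zGrp hF := by
    by_contra hc
    push Not at hc
    exact hne (le_antisymm hc hZ)
  obtain ⟨a₀, b₀, u₀, rfl⟩ := stab_eq hm hF (hB hg)
  have hu₀ : u₀ ≠ 1 := by
    rintro rfl
    rw [hS_one, mul_one] at hg hgZ
    rcases eq_or_ne a₀ 0 with rfl | ha
    · exact hgZ ((mem_zGrp hF).2 ⟨b₀, rfl⟩)
    · exact h4 a₀ b₀ ha hg
  have hk₀ := kap_ne_one (m := m) hF hu₀
  set α := a₀ / (1 + kap m u₀) with hα
  set κ := kap m u₀ with hκ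
  have hline : ∀ g ∈ coreOn H {t}, OnLine hF α g := by
    intro g hg'
    obtain ⟨a, b, v, rfl⟩ := stab_eq hm hF (hB hg')
    refine ⟨b, v, ?_⟩
    have h := mul_mem (mul_mem hg' hg) (inv_mem (mul_mem hg hg'))
    rw [bmul hF, bmul hF, mul_comm u₀ v, _root_.mul_inv_rev, mul_assoc,
      mul_inv_cancel_left] at h
    have hx := eq_of_tS_div hm hF (fun c d hc => by_contra fun e => h4 c d e hc) h
    rw [hα]
    congr 2
    field_simp
    linear_combination hx + (kap m u₀ * a - a₀ * kap m v) * two_zero hF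
  have hsh : ∀ δ g, (tS hF δ 0)⁻¹ * g * tS hF δ 0 ∈ coreOn H {t} → OnLine hF (α + δ) g := by
    intro δ g hg'
    have := (hline _ hg').shift δ
    rwa [show tS hF δ 0 * ((tS hF δ 0)⁻¹ * g * tS hF δ 0) * (tS hF δ 0)⁻¹ = g by group] at this
  set g₀ := tS hF a₀ b₀ * hS hF u₀ with hg₀
  set w : Sz F m := tS hF 1 0 with hw
  set δ := κ / (1 + κ) with hδ
  set r : Sz F m := tS hF δ 0 with hr
  refine not_binary_of_witness {t} {w * t} {r * t} (a := g₀) (b := w * g₀ * w⁻¹) hg ?_ ?_ ?_ ?_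
  · have h' := mem_coreOn_singleton.1 hg
    rw [mem_coreOn_singleton]
    convert h' using 1
    group
  · -- the product lies in the third conjugate
    obtain ⟨b₁, e₁⟩ := conj_tS_shift hF 1 a₀ b₀ u₀
    obtain ⟨b₂, e₂⟩ : ∃ b₂, g₀ * g₀ =
        tS hF (a₀ + κ * a₀) b₂ * hS hF (u₀ * u₀) := ⟨_, bmul hF _ _ _ _ _ _⟩
    obtain ⟨b₃, e₃⟩ := conj_tS_shift hF δ (a₀ + κ * a₀) b₂ (u₀ * u₀)
    obtain ⟨b₄, e₄⟩ : ∃ b₄, g₀ * (w * g₀ * w⁻¹) =
        tS hF (a₀ + κ * (a₀ + 1 * (1 + κ))) b₄ * hS hF (u₀ * u₀) :=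
      ⟨_, by rw [hw, hg₀, e₁, bmul hF]⟩
    have heq : a₀ + κ * a₀ + δ * (1 + kap m (u₀ * u₀)) = a₀ + κ * (a₀ + 1 * (1 + κ)) := by
      rw [kap_mul, ← hκ, hδ]
      field_simp
      linear_combination -(κ ^ 2) * two_zero hF
    rw [heq] at e₃
    have hz : tS hF 0 (b₄ + b₃) * (r * (g₀ * g₀) * r⁻¹) = g₀ * (w * g₀ * w⁻¹) := by
      rw [hr, e₂, e₃, e₄, ← mul_assoc, tS_zero_add hF]
      congr 2
      linear_combination b₃ * two_zero hF
    rw [mem_coreOn_singleton, ← hz]
    have hcen : r⁻¹ * tS hF 0 (b₄ + b₃) * r = tS hF 0 (b₄ + b₃) := by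
      rw [hr, mul_assoc, (tS_central_iff hm hF 0 (b₄ + b₃)).2 rfl, ← mul_assoc, inv_mul_cancel,
        one_mul]
    have h1 := mul_mem (hZ ((mem_zGrp hF).2 ⟨b₄ + b₃, rfl⟩)) (mul_mem hg hg)
    rw [mem_coreOn_singleton] at h1
    convert h1 using 1
    nth_rewrite 2 [← hcen]
    group
  · intro x hx1 hx2
    have hx2' : w⁻¹ * x * w ∈ coreOn H {t} := by
      rw [mem_coreOn_singleton] at hx2 ⊢
      convert hx2 using 1
      group
    have hxZ := (hline x hx1).mem_zGrp_of_two hm (hsh 1 x hx2')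
      (fun e => one_ne_zero (α := F) (by linear_combination -e))
    obtain ⟨b, rfl⟩ := (mem_zGrp hF).1 hxZ
    have hcen : r⁻¹ * tS hF 0 b * r = tS hF 0 b := by
      rw [hr, mul_assoc, (tS_central_iff hm hF 0 b).2 rfl, ← mul_assoc, inv_mul_cancel, one_mul]
    have h1 := hZ hxZ
    rw [mem_coreOn_singleton] at h1 ⊢
    convert h1 using 1
    nth_rewrite 2 [← hcen]
    group
  · intro hbr
    have hb1 : OnLine hF (α + 1) (w * g₀ * w⁻¹) := hsh 1 _ (by
      rwa [show w⁻¹ * (w * g₀ * w⁻¹) * w = g₀ by group])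
    have hbδ : OnLine hF (α + δ) (w * g₀ * w⁻¹) := hsh δ _ (by
      rw [mem_coreOn_singleton] at hbr ⊢
      convert hbr using 1
      rw [hr]
      group)
    have hδ1 : α + 1 ≠ α + δ := fun e => by
      have h1 : κ / (1 + κ) = 1 := (add_left_cancel e).symm
      rw [div_eq_one_iff_eq hk₀] at h1
      exact one_ne_zero (α := F) (by linear_combination -h1)
    obtain ⟨b, v, e⟩ := hb1
    have hmem := OnLine.mem_zGrp_of_two hm ⟨b, v, e⟩ hbδ hδ1
    obtain ⟨b', hb'⟩ := (mem_zGrp hF).1 hmem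
    obtain ⟨b₁, e₁⟩ := conj_tS_shift hF 1 a₀ b₀ u₀
    rw [hw, hg₀, e₁] at hb'
    exact hu₀ (tS_hS_inj hm hF (show tS hF 0 b' * hS hF 1 = _ by rw [hS_one, mul_one]; exact hb')).2.2.symm

/-- Point stabilisers that are centres of Sylow subgroups give binary actions. -/
theorem binary_of_zGrp (hm : 1 ≤ m) (hF : Fintype.card F = 2 ^ (2 * m + 1))
    {H : Subgroup (Sz F m)} (t : Sz F m) (hH : ∀ x, x ∈ H ↔ t * x * t⁻¹ ∈ zGrp hF) :
    BinaryCoset H := by
  have hsq : ∀ x ∈ H, x * x = 1 := by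
    intro x hx
    obtain ⟨b, hb⟩ := (mem_zGrp hF).1 ((hH x).1 hx)
    calc x * x = t⁻¹ * ((t * x * t⁻¹) * (t * x * t⁻¹)) * t := by group
      _ = 1 := by rw [← hb, tS_sq hF, mul_zero, tS_zero]; group
  have hmove : ∀ g z : Sz F m, z ≠ 1 → z ∈ zGrp hF → g⁻¹ * z * g ∈ zGrp hF →
      ∀ y, y ∈ zGrp hF → g⁻¹ * y * g ∈ zGrp hF := by
    intro g z hz hzZ hgz y hy
    have hst : g⁻¹ ∈ MulAction.stabilizer (Sz F m) (suzukiPointInfinity F) := by
      rw [← normalizer_uGrp hm hF]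
      refine isTI_uGrp hm hF g⁻¹ z (zGrp_le hF hzZ) hz ?_
      rw [inv_inv]
      exact zGrp_le hF hgz
    have hyst := uGrp_le_stab hF (zGrp_le hF hy)
    obtain ⟨b, hb⟩ := (mem_zGrp hF).1 hy
    refine involution_mem_zGrp hm hF ?_ ?_
    · calc g⁻¹ * y * g * (g⁻¹ * y * g) = g⁻¹ * (y * y) * g := by group
        _ = 1 := by rw [← hb, tS_sq hF, mul_zero, tS_zero]; group
    · have h := Subgroup.mul_mem _ (Subgroup.mul_mem _ hst hyst) (Subgroup.inv_mem _ hst)
      rwa [inv_inv] at h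
  refine binaryCoset_of_TI (fun g z hz hzH hgz y => ?_) fun a b g k ha hb hc => ?_
  · have e : ∀ y : Sz F m, t * (g⁻¹ * y * g) * t⁻¹ =
        (t * g * t⁻¹)⁻¹ * (t * y * t⁻¹) * (t * g * t⁻¹) := fun y => by group
    have hne : t * z * t⁻¹ ≠ 1 := fun h => hz (conj_eq_one_iff.1 h)
    rw [hH] at hzH hgz
    rw [e] at hgz
    rw [hH, hH, e]
    refine ⟨hmove _ _ hne hzH hgz _, fun hy => ?_⟩
    have := hmove (t * g * t⁻¹)⁻¹ ((t * g * t⁻¹)⁻¹ * (t * z * t⁻¹) * (t * g * t⁻¹))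
      (fun h => hne (by
        calc t * z * t⁻¹ = (t * g * t⁻¹) * ((t * g * t⁻¹)⁻¹ * (t * z * t⁻¹) * (t * g * t⁻¹)) *
              (t * g * t⁻¹)⁻¹ := by group
          _ = 1 := by rw [h]; group)) hgz
      (by rw [inv_inv]; convert hzH using 1; group) _ hy
    rw [inv_inv] at this
    convert this using 1
    group
  · by_contra hcon
    push Not at hcon
    obtain ⟨hbH, ha1, hb1⟩ := hcon
    have hb2 : b * b = 1 := by
      have := hsq _ hb
      calc b * b = g * (g⁻¹ * b * g * (g⁻¹ * b * g)) * g⁻¹ := by group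
        _ = 1 := by rw [this]; group
    have hab : a * b * (a * b) = 1 := by
      have := hsq _ hc
      calc a * b * (a * b) = k * (k⁻¹ * (a * b) * k * (k⁻¹ * (a * b) * k)) * k⁻¹ := by group
        _ = 1 := by rw [this]; group
    have hba : b * a = a * b := by
      calc b * a = (a * a) * (b * a) * (b * b) := by rw [hsq a ha, hb2, one_mul, mul_one]
        _ = a * (a * b * (a * b)) * b := by group
        _ = a * b := by rw [hab, mul_one]
    have haZ := (hH a).1 ha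
    have hcu : t * b * t⁻¹ ∈ uGrp hF := by
      refine centralizer_uGrp_le hm hF (zGrp_le hF haZ) (fun h => ha1 (conj_eq_one_iff.1 h)) ?_
      rw [Subgroup.mem_centralizer_singleton_iff]
      calc t * b * t⁻¹ * (t * a * t⁻¹) = t * (b * a) * t⁻¹ := by group
        _ = _ := by rw [hba]; group
    refine hbH ((hH b).2 (involution_mem_zGrp hm hF ?_ (uGrp_le_stab hF hcu)))
    calc t * b * t⁻¹ * (t * b * t⁻¹) = t * (b * b) * t⁻¹ := by group
      _ = 1 := by rw [hb2]; group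

theorem binary_bot {G : Type*} [Group G] : BinaryCoset (⊥ : Subgroup G) :=
  binaryCoset_of_TI (fun g z hz hzH => absurd (Subgroup.mem_bot.1 hzH) hz)
    fun a b g k ha => fun _ _ => Or.inr (Or.inl (Subgroup.mem_bot.1 ha))

/-- The binary actions of the Suzuki group. -/
theorem binaryCoset_iff (hm : 1 ≤ m) (hF : Fintype.card F = 2 ^ (2 * m + 1))
    {H : Subgroup (Sz F m)} (hH : H ≠ ⊤) :
    BinaryCoset H ↔ H = ⊥ ∨ ∃ t, ∀ x, x ∈ H ↔ t * x * t⁻¹ ∈ zGrp hF := by
  classical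
  constructor
  swap
  · rintro (rfl | ⟨t, ht⟩)
    · exact binary_bot
    · exact binary_of_zGrp hm hF t ht
  intro hbin
  rcases eq_or_ne H ⊥ with hb | hb
  · exact Or.inl hb
  right
  obtain ⟨S, hS, hne, hTI⟩ := exists_minimal_coreOn hb
  set M := coreOn H S with hM
  by_cases hev : Even (Nat.card M)
  · -- the minimal intersection contains an involution
    have : Fact (Nat.Prime 2) := ⟨Nat.prime_two⟩
    obtain ⟨⟨a, haM⟩, ha⟩ := exists_prime_orderOf_dvd_card' (G := M) 2 (even_iff_two_dvd.1 hev)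
    rw [Subgroup.orderOf_mk] at ha
    obtain ⟨x, hx⟩ := exists_conj_tS01 hm hF ha
    by_cases hall : ∀ c, x * tS hF 0 c * x⁻¹ ∈ M
    · obtain ⟨s, hs⟩ := hS
      have hK : coreOn H {x⁻¹ * s} ≠ ⊤ := fun e => hH (by
        refine eq_top_iff.2 fun y _ => ?_
        have h := e ▸ Subgroup.mem_top ((x⁻¹ * s) * y * (x⁻¹ * s)⁻¹)
        rw [mem_coreOn_singleton] at h
        convert h using 1
        group)
      have hZ : zGrp hF ≤ coreOn H {x⁻¹ * s} := by
        intro z hz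
        obtain ⟨c, rfl⟩ := (mem_zGrp hF).1 hz
        rw [mem_coreOn_singleton]
        convert hall c s hs using 1
        group
      by_cases heq : coreOn H {x⁻¹ * s} = zGrp hF
      · refine ⟨x⁻¹ * s, fun y => ?_⟩
        rw [← heq, mem_coreOn_singleton,
          show (x⁻¹ * s)⁻¹ * (x⁻¹ * s * y * (x⁻¹ * s)⁻¹) * (x⁻¹ * s) = y by group]
      · exact absurd hbin (not_binary_of_zGrp_lt hm hF _ hK hZ heq)
    · exfalso
      push Not at hall
      obtain ⟨c, hc⟩ := hall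
      set b := x * tS hF 0 c * x⁻¹ with hb'
      have hord : ∀ d : F, d ≠ 0 → orderOf (x * tS hF 0 d * x⁻¹) = 2 := by
        intro d hd
        refine orderOf_eq_prime ?_ fun e => hd ?_
        · rw [conj_pow, sq, tS_sq hF, mul_zero, tS_zero]; group
        · have h := conj_eq_one_iff.1 e
          rw [← tS_zero (m := m) hF] at h
          exact (tS_params_inj hF h).2
      have hc0 : c ≠ 0 := fun e => hc (by rw [hb', e, tS_zero, mul_one, mul_inv_cancel]; exact one_mem _)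
      have hc1 : 1 + c ≠ 0 := fun e => hc (by
        rw [hb', show c = 1 by linear_combination e - two_zero hF, ← hx]
        exact haM)
      obtain ⟨g, hg⟩ := exists_conj_tS01 hm hF (hord c hc0)
      obtain ⟨k, hk⟩ := exists_conj_tS01 hm hF (hord (1 + c) hc1)
      rw [← hb'] at hg
      refine not_binary_of_TI hTI (a := a) (b := b) (g := g * x⁻¹) (k := k * x⁻¹) haM
        (fun e => by rw [e, orderOf_one] at ha; exact absurd ha (by norm_num)) ?_ ?_ hc hbin
      · rw [show (g * x⁻¹)⁻¹ * b * (g * x⁻¹) = x * (g⁻¹ * b * g) * x⁻¹ by group, hg]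
        convert haM using 1
        rw [hx]; group
      · have e : a * b = x * tS hF 0 (1 + c) * x⁻¹ := by
          rw [hx, hb', show x * tS hF 0 1 * x⁻¹ * (x * tS hF 0 c * x⁻¹) =
            x * (tS hF 0 1 * tS hF 0 c) * x⁻¹ by group, tS_zero_add]
        rw [show (k * x⁻¹)⁻¹ * (a * b) * (k * x⁻¹) = x * (k⁻¹ * (a * b) * k) * x⁻¹ by group, e, hk]
        convert haM using 1
        rw [hx]; group
  · -- the minimal intersection has odd order
    exfalso
    have hodd : Odd (Nat.card M) := Nat.not_even_iff_odd.1 hev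
    by_cases h5 : ∀ p, p.Prime → p ∣ Nat.card M → p = 5
    · have hne1 : Nat.card M ≠ 1 := fun e => hne (Subgroup.card_eq_one.1 e)
      obtain ⟨p, hp, hpd⟩ := Nat.exists_prime_and_dvd hne1
      obtain rfl := h5 p hp hpd
      have : Fact (Nat.Prime 5) := ⟨hp⟩
      obtain ⟨⟨x, hxM⟩, hx⟩ := exists_prime_orderOf_dvd_card' (G := M) 5 hpd
      rw [Subgroup.orderOf_mk] at hx
      refine not_binary_of_five hm hF hTI ?_ hxM hx hbin
      refine IsPGroup.of_card (n := (Nat.card M).primeFactorsList.length) ?_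
      exact Nat.eq_prime_pow_of_unique_prime_dvd Nat.card_pos.ne' fun {q} hq hd => h5 q hq hd
    · push Not at h5
      obtain ⟨p, hp, hpd, hp5⟩ := h5
      have : Fact p.Prime := ⟨hp⟩
      obtain ⟨⟨x, hxM⟩, hx⟩ := exists_prime_orderOf_dvd_card' (G := M) p hpd
      rw [Subgroup.orderOf_mk] at hx
      exact not_binary_of_prime hm hF hTI hodd hxM hp hx hp5 hbin

theorem mem_iff_conj_center (hm : 1 ≤ m) (hF : Fintype.card F = 2 ^ (2 * m + 1))
    (H : Subgroup (Sz F m)) :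
    (∃ t, ∀ x, x ∈ H ↔ t * x * t⁻¹ ∈ zGrp hF) ↔ ∃ P : Sylow 2 (Sz F m),
      H = (Subgroup.center (P : Subgroup (Sz F m))).map (P : Subgroup (Sz F m)).subtype := by
  have : Fact (Nat.Prime 2) := ⟨Nat.prime_two⟩
  have key : ∀ (c : Sz F m) (x : Sz F m),
      x ∈ (Subgroup.center ((c • uSylow hm hF : Sylow 2 (Sz F m)) : Subgroup (Sz F m))).map
        ((c • uSylow hm hF : Sylow 2 (Sz F m)) : Subgroup (Sz F m)).subtype ↔
      c⁻¹ * x * c ∈ zGrp hF := by
    intro c x
    have hmem : ∀ y : Sz F m, y ∈ ((c • uSylow hm hF : Sylow 2 (Sz F m)) : Subgroup (Sz F m)) ↔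
        c⁻¹ * y * c ∈ uGrp hF := by
      intro y
      rw [Sylow.coe_subgroup_smul, Subgroup.mem_pointwise_smul_iff_inv_smul_mem, coe_uSylow]
      simp [MulAut.smul_def]
    rw [zGrp, ← center_eq hm hF]
    constructor
    · rintro ⟨⟨y, hy⟩, hyc, rfl⟩
      refine ⟨⟨c⁻¹ * y * c, (hmem y).1 hy⟩, Subgroup.mem_center_iff.2 fun w => Subtype.ext ?_, rfl⟩
      have hw : c * w.1 * c⁻¹ ∈ ((c • uSylow hm hF : Sylow 2 (Sz F m)) : Subgroup (Sz F m)) :=
        (hmem _).2 (by rw [show c⁻¹ * (c * w.1 * c⁻¹) * c = w.1 by group]; exact w.2)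
      have e : c * w.1 * c⁻¹ * y = y * (c * w.1 * c⁻¹) :=
        congrArg Subtype.val (Subgroup.mem_center_iff.1 hyc ⟨_, hw⟩)
      show w.1 * (c⁻¹ * y * c) = c⁻¹ * y * c * w.1
      calc w.1 * (c⁻¹ * y * c) = c⁻¹ * (c * w.1 * c⁻¹ * y) * c := by group
        _ = c⁻¹ * (y * (c * w.1 * c⁻¹)) * c := by rw [e]
        _ = _ := by group
    · rintro ⟨⟨z, hz⟩, hzc, hzx⟩
      have hzx' : z = c⁻¹ * x * c := hzx
      refine ⟨⟨x, (hmem x).2 (hzx' ▸ hz)⟩, Subgroup.mem_center_iff.2 fun w => Subtype.ext ?_, rfl⟩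
      have e : c⁻¹ * w.1 * c * z = z * (c⁻¹ * w.1 * c) :=
        congrArg Subtype.val (Subgroup.mem_center_iff.1 hzc ⟨_, (hmem _).1 w.2⟩)
      show w.1 * x = x * w.1
      calc w.1 * x = c * (c⁻¹ * w.1 * c * z) * c⁻¹ := by rw [hzx']; group
        _ = c * (z * (c⁻¹ * w.1 * c)) * c⁻¹ := by rw [e]
        _ = _ := by rw [hzx']; group
  constructor
  · rintro ⟨t, ht⟩
    refine ⟨t⁻¹ • uSylow hm hF, ?_⟩
    ext x
    rw [key, inv_inv, ht]
  · rintro ⟨P, rfl⟩
    obtain ⟨c, rfl⟩ := MulAction.exists_smul_eq (Sz F m) (uSylow hm hF) P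
    exact ⟨c⁻¹, fun x => by rw [key, inv_inv]⟩

/-- Binarity is invariant under isomorphisms. -/
theorem BinaryCoset.map_equiv {G G' : Type*} [Group G] [Group G'] (e : G ≃* G') {H : Subgroup G}
    (h : BinaryCoset H) : BinaryCoset (H.map e.toMonoidHom) := by
  intro n I J hn hp
  have hmem : ∀ x : G', x ∈ H.map e.toMonoidHom ↔ e.symm x ∈ H := fun x =>
    Subgroup.mem_map_equiv
  choose fI hfI using fun i => QuotientGroup.mk_surjective (I i)
  choose fJ hfJ using fun i => QuotientGroup.mk_surjective (J i)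
  have hiff : ∀ (g : G') (i : Fin n), g • I i = J i ↔
      e.symm g • ((e.symm (fI i) : G) : G ⧸ H) = (e.symm (fJ i) : G) := by
    intro g i
    rw [← hfI i, ← hfJ i, smul_coset_eq_iff, smul_coset_eq_iff, hmem, map_mul, map_mul, map_inv]
  obtain ⟨g, hg⟩ := h n (fun i => ((e.symm (fI i) : G) : G ⧸ H))
    (fun i => ((e.symm (fJ i) : G) : G ⧸ H)) hn fun i j hij => by
      obtain ⟨g, h1, h2⟩ := hp i j hij
      exact ⟨e.symm g, (hiff g i).1 h1, (hiff g j).1 h2⟩
  exact ⟨e g, fun i => (hiff _ i).2 (by simpa using hg i)⟩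

end Cfsg.Agent.SZ
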