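import Cfsg.Agent.Lib.Sz.TorusColumns
import Cfsg.Agent.Lib.Char.Descend

/-!
# The degrees of the irreducible characters from three self-centralising tori

A group of order `q²(q²+1)(q-1)` with self-centralising subgroups of order `q - 1`, `k`, `k'`
(`k k' = q² + 1`, `k + k' = 2q + 2`) of index `2, 4, 4` in their normalisers.
-/

set_option autoImplicit false
set_option linter.unusedSectionVars false
set_option linter.style.haveILetI false

namespace Cfsg.Agent.SZ

open Cfsg Cfsg.Agent.Char Cfsg.Agent.OddOrder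

variable {G : Type*} [Group G] [Fintype G]

/-- What the degree graph needs to know. -/
structure DegreeFacts (G : Type*) [Group G] (q k k' : ℕ) : Prop where
  even_coprime : ∀ χ : IrrCharacter G, 2 ∣ degree χ → (degree χ).Coprime (q ^ 2 + 1)
  mem_sq : ∃ χ : IrrCharacter G, degree χ = q ^ 2 + 1
  mem_left : ∃ χ : IrrCharacter G, degree χ = (q - 1) * k
  mem_right : ∃ χ : IrrCharacter G, degree χ = (q - 1) * k'
  mem_even : ∃ χ : IrrCharacter G, 2 ∣ degree χ ∧ (q - 1) ∣ degree χ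

theorem DegreeFacts.swap {q k k' : ℕ} (h : DegreeFacts G q k k') : DegreeFacts G q k' k :=
  ⟨h.even_coprime, h.mem_sq, h.mem_right, h.mem_left, h.mem_even⟩

/-- The orbit count `δ`-term is non-negative. -/
theorem delta_nonneg {A : Subgroup G} {e s : ℕ} (E : ExceptionalData A e s) (hs : 2 ≤ s) :
    0 ≤ (s : ℤ) * E.δ ^ 2 - 2 * E.ε * E.δ := by
  have h1 : (2 : ℤ) * E.δ ^ 2 ≤ s * E.δ ^ 2 := mul_le_mul_of_nonneg_right (by omega) (sq_nonneg _)
  rcases E.ε_eq with h | h <;> rw [h] <;>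
    rcases le_or_gt E.δ 0 with h0 | h0 <;> nlinarith

theorem delta_eq_zero {A : Subgroup G} {e s : ℕ} (E : ExceptionalData A e s) {b : ℕ}
    (hs : b + 3 ≤ s) (h : (s : ℤ) * E.δ ^ 2 - 2 * E.ε * E.δ ≤ b) : E.δ = 0 := by
  by_contra hne
  have hpos : 0 < |E.δ| := abs_pos.2 hne
  have h2 : E.ε * E.δ ≤ |E.δ| := by
    rcases E.ε_eq with h | h <;> rw [h]
    · rw [one_mul]; exact le_abs_self _
    · rw [neg_one_mul]; exact neg_le_abs _
  have h3 : E.δ ^ 2 = |E.δ| * |E.δ| := by rw [abs_mul_abs_self, sq]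
  rw [h3] at h
  have hsb : (b : ℤ) + 3 ≤ s := by exact_mod_cast hs
  nlinarith [mul_le_mul_of_nonneg_right (le_mul_of_one_le_right hpos.le hpos) (show (0 : ℤ) ≤ (s : ℤ) by positivity)]

theorem deg_dvd_card (χ : IrrCharacter G) : deg χ ∣ (Nat.card G : ℤ) := by
  unfold deg
  exact Int.natCast_dvd_natCast.2 (charDegree_eq_degree χ ▸ charDegree_dvd_card χ)

theorem deg_trivial : deg (trivialChar G) = 1 := by
  have h := deg_cast (trivialChar G)
  rw [show (trivialChar G).1 (1 : G) = 1 from rfl] at h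
  exact_mod_cast h

theorem degree_eq_of_deg {χ : IrrCharacter G} {d : ℕ} (h : deg χ = d) : degree χ = d := by
  unfold deg at h; exact_mod_cast h

/-- Three tori. -/
structure Tori (G : Type*) [Group G] [Fintype G] (q k k' sH sU : ℕ) (H U V : Subgroup G) where
  EH : ExceptionalData H 2 sH
  EU : ExceptionalData U 4 sU
  hH : IsSelfCent H
  hU : IsSelfCent U
  hV : IsSelfCent V
  cH : Nat.card H = q - 1
  cU : Nat.card U = k
  cV : Nat.card V = k'
  hsH : 2 * sH + 2 = q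
  hsU : 4 * sU + 1 = k
  qeven : 2 ∣ q
  q8 : 8 ≤ q
  k5 : 5 ≤ k
  k'5 : 5 ≤ k'
  prod : k * k' = q ^ 2 + 1
  sum : k + k' = 2 * q + 2
  card : Nat.card G = q ^ 2 * (q ^ 2 + 1) * (q - 1)
  sU3 : 3 ≤ sU
  apHU : Apart H U
  apUH : Apart U H
  apHV : Apart H V
  apUV : Apart U V
  apVH : Apart V H
  apVU : Apart V U

variable {q k k' sH sU : ℕ} {H U V : Subgroup G} (T : Tori G q k k' sH sU H U V)

include T in
theorem Tori.sH3 : 3 ≤ sH := by have := T.hsH; have := T.q8; omega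

theorem exists_ne_one {A : Subgroup G} (h : 1 < Nat.card A) : ∃ a : A, a ≠ 1 :=
  haveI := Finite.one_lt_card_iff_nontrivial.1 h
  exists_ne 1

include T in
theorem Tori.exH : ∃ a : H, a ≠ 1 := exists_ne_one (by have := T.cH; have := T.q8; omega)

include T in
theorem Tori.exU : ∃ a : U, a ≠ 1 := exists_ne_one (by have := T.cU; have := T.k5; omega)

include T in
theorem Tori.exV : ∃ a : V, a ≠ 1 := exists_ne_one (by have := T.cV; have := T.k'5; omega)

include T in
theorem Tori.trivH : trivialChar G ∉ Set.range T.EH.θ ∧ cst T.EH (trivialChar G) = 1 := by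
  haveI := Fintype.ofFinite H
  obtain ⟨a, ha⟩ := T.exH
  have h1 := T.hsH
  have h2 := T.cH
  have h3 : 2 ≤ sH := by have := T.sH3; omega
  exact ⟨trivial_not_mem T.EH h3 two_pos (by omega), cst_trivial T.EH h3 two_pos (by omega) ha⟩

include T in
theorem Tori.trivU : trivialChar G ∉ Set.range T.EU.θ ∧ cst T.EU (trivialChar G) = 1 := by
  haveI := Fintype.ofFinite U
  obtain ⟨a, ha⟩ := T.exU
  have h1 := T.hsU
  have h2 := T.cU
  have h3 : 2 ≤ sU := by have := T.sU3; omega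
  exact ⟨trivial_not_mem T.EU h3 (by norm_num) (by omega),
    cst_trivial T.EU h3 (by norm_num) (by omega) ha⟩

/-- The consequences of the column of the split torus. -/
structure StepH (T : Tori G q k k' sH sU H U V) (St : IrrCharacter G) : Prop where
  δ0 : T.EH.δ = 0
  ne_triv : St ≠ trivialChar G
  not_mem : St ∉ Set.range T.EH.θ
  unit : cst T.EH St = 1 ∨ cst T.EH St = -1
  others : ∀ χ, χ ≠ trivialChar G → χ ≠ St → cst T.EH χ = 0
  rel : ∀ i, 1 + deg St * cst T.EH St - deg (T.EH.θ i) * T.EH.ε = 0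

include T in
theorem Tori.stepH : ∃ St, StepH T St := by
  classical
  obtain ⟨a, ha⟩ := T.exH
  obtain ⟨htr, htr1⟩ := T.trivH
  have hs := T.sH3
  have hsum := sum_cst_sq T.EH T.hH ha
  rw [← Finset.add_sum_erase _ _ (Finset.mem_univ (trivialChar G)), htr1] at hsum
  set f := (sH : ℤ) * T.EH.δ ^ 2 - 2 * T.EH.ε * T.EH.δ with hf
  have hf0 : 0 ≤ f := delta_nonneg T.EH (by omega)
  have hrest : 0 ≤ ∑ χ ∈ Finset.univ.erase (trivialChar G), cst T.EH χ ^ 2 :=
    Finset.sum_nonneg fun χ _ => sq_nonneg _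
  have hone : ∀ i, 1 + ∑ χ ∈ Finset.univ.erase (trivialChar G), deg χ * cst T.EH χ +
      deg (T.EH.θ i) * ((sH : ℤ) * T.EH.δ - T.EH.ε) = 0 := fun i => by
    have h := sum_deg_cst T.EH ha i
    rw [← Finset.add_sum_erase _ _ (Finset.mem_univ (trivialChar G)), htr1, deg_trivial] at h
    linarith
  have i₀ : Fin sH := ⟨0, by omega⟩
  have hδ : T.EH.δ = 0 := by
    by_contra hne
    rcases Nat.lt_or_ge sH 4 with h4 | h4
    swap
    · exact hne (delta_eq_zero T.EH (b := 1) h4 (by simp only [Nat.cast_ofNat, Nat.cast_one] at *; omega))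
    obtain rfl : sH = 3 := by omega
    have hf1 : f ≤ 1 := by simp only [Nat.cast_ofNat, one_pow] at *; omega
    have hδε : T.EH.δ = T.EH.ε := by
      rcases T.EH.ε_eq with h | h <;> rw [hf, h] at hf1 <;> rw [h] <;>
        (have h1 : T.EH.δ ≤ 1 := by push_cast at hf1; nlinarith [sq_nonneg (T.EH.δ - 1), sq_nonneg (T.EH.δ + 1)]) <;> (have h2 : -1 ≤ T.EH.δ := by push_cast at hf1; nlinarith [sq_nonneg (T.EH.δ - 1), sq_nonneg (T.EH.δ + 1)]) <;>
        interval_cases T.EH.δ <;> simp_all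
    have hfe : f = 1 := by
      rw [hf, hδε]
      rcases T.EH.ε_eq with h | h <;> rw [h] <;> norm_num
    have hz : ∑ χ ∈ Finset.univ.erase (trivialChar G), deg χ * cst T.EH χ = 0 := by
      refine Finset.sum_eq_zero fun χ hχ => ?_
      have h0 : ∑ χ ∈ Finset.univ.erase (trivialChar G), cst T.EH χ ^ 2 = 0 := by
        simp only [Nat.cast_ofNat, one_pow] at *; omega
      rw [pow_eq_zero_iff two_ne_zero |>.1 ((Finset.sum_eq_zero_iff_of_nonneg fun χ _ => sq_nonneg _).1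
        h0 χ hχ), mul_zero]
    have h := hone i₀
    rw [hz, hδε] at h
    rcases T.EH.ε_eq with he | he <;> rw [he] at h <;> push_cast at h <;> omega
  have hf' : f = 0 := by rw [hf, hδ]; ring
  have h1 : ∑ χ ∈ Finset.univ.erase (trivialChar G), cst T.EH χ ^ 2 = 1 := by
    simp only [Nat.cast_ofNat, one_pow] at *; omega
  obtain ⟨St, hSt, hne⟩ := Finset.exists_ne_zero_of_sum_ne_zero (by rw [h1]; norm_num :
    ∑ χ ∈ Finset.univ.erase (trivialChar G), cst T.EH χ ^ 2 ≠ 0)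
  have hne' : cst T.EH St ≠ 0 := fun e => hne (by rw [e]; norm_num)
  rw [← Finset.add_sum_erase _ _ hSt] at h1
  have hge : (1 : ℤ) ≤ cst T.EH St ^ 2 := sq_pos_iff.2 hne'
  have hr2 : 0 ≤ ∑ χ ∈ (Finset.univ.erase (trivialChar G)).erase St, cst T.EH χ ^ 2 :=
    Finset.sum_nonneg fun χ _ => sq_nonneg _
  have hz : ∀ χ, χ ≠ trivialChar G → χ ≠ St → cst T.EH χ = 0 := fun χ h h' =>
    pow_eq_zero_iff two_ne_zero |>.1 ((Finset.sum_eq_zero_iff_of_nonneg fun χ _ => sq_nonneg _).1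
      (show ∑ χ ∈ (Finset.univ.erase (trivialChar G)).erase St, cst T.EH χ ^ 2 = 0 by omega) χ
      (by simp [h, h']))
  refine ⟨St, hδ, Finset.ne_of_mem_erase hSt, fun ⟨i, hi⟩ => hne' (hi ▸ cst_theta T.EH i), ?_, hz,
    fun i => ?_⟩
  · have : cst T.EH St ^ 2 = 1 := by omega
    exact sq_eq_one_iff.1 this
  · have h := hone i
    rw [← Finset.add_sum_erase _ _ hSt, Finset.sum_eq_zero fun χ hχ => by
      rw [hz χ (Finset.ne_of_mem_erase (Finset.mem_of_mem_erase hχ)) (Finset.ne_of_mem_erase hχ),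
        mul_zero], hδ] at h
    linear_combination h

/-- Two sets of values bounded by the column norm. -/
theorem card_mul_sq_le {A : Subgroup G} {e s : ℕ} (E : ExceptionalData A e s) (hA : IsSelfCent A)
    {a : A} (ha : a ≠ 1) {t : ℕ} (θ : Fin t → IrrCharacter G) (hinj : Function.Injective θ)
    (c : ℤ) (hc : ∀ i, cst E (θ i) = c) (S : Finset (IrrCharacter G))
    (hdis : ∀ i, θ i ∉ S) :
    (t : ℤ) * c ^ 2 + ∑ χ ∈ S, cst E χ ^ 2 ≤ (e : ℤ) - ((s : ℤ) * E.δ ^ 2 - 2 * E.ε * E.δ) := by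
  classical
  refine le_trans (le_of_eq ?_) (sum_cst_sq_le E hA ha (Finset.univ.image θ ∪ S))
  rw [Finset.sum_union (Finset.disjoint_left.2 fun χ h1 h2 => by
    obtain ⟨i, -, rfl⟩ := Finset.mem_image.1 h1; exact hdis i h2),
    Finset.sum_image fun i _ j _ h => hinj h]
  simp [hc]

theorem card_mul_deg_sq_le {t : ℕ} (θ : Fin t → IrrCharacter G) (hinj : Function.Injective θ)
    {d : ℤ} (hd : ∀ i, deg (θ i) = d) : (t : ℤ) * d ^ 2 ≤ Nat.card G := by
  classical
  rw [← sum_deg_sq]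
  refine le_trans (le_of_eq ?_) (Finset.sum_le_univ_sum_of_nonneg (s := Finset.univ.image θ)
    fun χ => sq_nonneg _)
  rw [Finset.sum_image fun i _ j _ h => hinj h]
  simp [hd]

/-- The facts about the two characters vanishing nowhere on the tori. -/
structure StepSt (T : Tori G q k k' sH sU H U V) (St : IrrCharacter G) : Prop where
  degH : ∀ i, deg (T.EH.θ i) = (q : ℤ) ^ 2 + 1
  degSt : deg St = (q : ℤ) ^ 2
  cH : cst T.EH St = 1
  notU : St ∉ Set.range T.EU.θ
  cU : cst T.EU St = -1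
  zeroU : ∀ i, cst T.EH (T.EU.θ i) = 0

include T in
theorem Tori.stepSt {St : IrrCharacter G} (hst : StepH T St)
    (hD : ∀ i, deg (T.EH.θ i) = (q : ℤ) ^ 2 + 1) : StepSt T St := by
  classical
  haveI := Fintype.ofFinite H
  haveI := Fintype.ofFinite U
  obtain ⟨a, ha⟩ := T.exH
  obtain ⟨b, hb⟩ := T.exU
  have hs := T.sH3
  have hq := T.q8
  have hsU := T.sU3
  have i₀ : Fin sH := ⟨0, by omega⟩
  have hε : T.EH.ε = 1 := by
    rcases T.EH.ε_eq with h | h
    · exact h
    exfalso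
    have h1 := dvd_deg_theta T.EH i₀
    rw [T.cH, hD, hst.δ0, h, Nat.cast_sub (by omega : 1 ≤ q), Nat.cast_one] at h1
    obtain ⟨c, hc⟩ := h1
    have h4 : ((q : ℤ) - 1) ∣ 4 := ⟨c - q - 1, by push_cast at hc; linear_combination hc⟩
    have := Int.le_of_dvd (by norm_num) h4
    omega
  have hrel := hst.rel i₀
  rw [hε, hD] at hrel
  have hc1 : cst T.EH St = 1 := by
    rcases hst.unit with h | h
    · exact h
    · rw [h] at hrel; nlinarith [deg_pos St]
  rw [hc1] at hrel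
  have hdSt : deg St = (q : ℤ) ^ 2 := by linarith
  have hall : ∀ i, cst T.EH (T.EU.θ i) = 0 := by
    intro i
    by_contra hne
    obtain ⟨j, hj⟩ : ∃ j, j ≠ i := @exists_ne _ (Fin.nontrivial_iff_two_le.2 (by omega)) i
    have hSt : ∀ l, cst T.EH (T.EU.θ l) ≠ 0 → T.EU.θ l = St := fun l hl => by
      by_contra h
      exact hl (hst.others _ (fun e => T.trivU.1 ⟨l, e⟩) h)
    have he := cst_theta_eq T.EU T.EH T.apUH (by omega) (by omega) ha i j
    exact hj (T.EU.inj ((hSt j (he ▸ hne)).trans (hSt i hne).symm))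
  have hnot : St ∉ Set.range T.EU.θ := fun ⟨i, hi⟩ => by
    have := hall i
    rw [hi, hc1] at this
    exact one_ne_zero this
  refine ⟨hD, hdSt, hc1, hnot, ?_, hall⟩
  have h1 := dvd_deg_sub_cst T.EU hnot
  rw [T.cU, hdSt] at h1
  have hk : (k : ℤ) ∣ (q : ℤ) ^ 2 + 1 := ⟨k', by exact_mod_cast T.prod.symm⟩
  have h2 : (k : ℤ) ∣ 1 + cst T.EU St := by
    have := dvd_sub hk h1
    rwa [show (q : ℤ) ^ 2 + 1 - ((q : ℤ) ^ 2 - cst T.EU St) = 1 + cst T.EU St by ring] at this
  have h3 := sum_cst_sq_le T.EU T.hU hb {trivialChar G, St}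
  rw [Finset.sum_pair hst.ne_triv.symm, T.trivU.2] at h3
  have h4 := delta_nonneg T.EU (by omega : 2 ≤ sU)
  have h5 : cst T.EU St ^ 2 ≤ 3 := by push_cast at h3; linarith
  have h6 : cst T.EU St ≤ 1 := by nlinarith
  have h7 : -1 ≤ cst T.EU St := by nlinarith
  have hk5 := T.k5
  rcases eq_or_ne (1 + cst T.EU St) 0 with h | h
  · omega
  · have := Int.le_of_dvd (by omega) h2
    omega

theorem int_le_of_sq_le {x b : ℤ} (h : x ^ 2 ≤ b) {c : ℤ} (hc : b < (c + 1) ^ 2)
    (hc0 : 0 ≤ c) : x ≤ c ∧ -c ≤ x := by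
  constructor <;> nlinarith

end Cfsg.Agent.SZ
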