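import Cfsg.Agent.Lib.Sz.DegreesEight
import Cfsg.Agent.Lib.Sz.Centralizers

/-!
# The degree facts of the Suzuki groups
-/

set_option autoImplicit false
set_option linter.style.haveILetI false

namespace Cfsg.Agent.SZ

open Cfsg Cfsg.Agent.Char Cfsg.Agent.OddOrder

variable {F : Type*} [Field F] [Fintype F] {m : ℕ}

theorem nonempty_exceptionalData {G : Type*} [Group G] [Fintype G] {A : Subgroup G}
    (hA : IsSelfCent A) {e s : ℕ}
    (hN : Nat.card (Subgroup.normalizer (A : Set G)) = Nat.card A * e)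
    (hs : s * e = Nat.card A - 1) (hs2 : 2 ≤ s) : Nonempty (ExceptionalData A e s) :=
  exists_exceptionalData hA
    (Nat.eq_of_mul_eq_mul_left Nat.card_pos ((card_normalizer hA).symm.trans hN)) hs hs2

theorem degreeFacts_eight' {G : Type*} [Group G] [Fintype G] {H U V : Subgroup G} {q k k' sH sU : ℕ}
    (T : Tori G q k k' sH sU H U V) (hq : q = 8) (hk : k = 13) (hk' : k' = 5)
    (hN : Nat.card (Subgroup.normalizer (V : Set G)) = 4 * k') : DegreeFacts G q k k' := by
  subst hq hk hk'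
  obtain rfl : sH = 3 := by have := T.hsH; omega
  obtain rfl : sU = 3 := by have := T.hsU; omega
  exact degreeFacts_eight T hN

theorem degreeFacts_Sz (hm : 1 ≤ m) (hF : Fintype.card F = 2 ^ (2 * m + 1)) :
    ∃ k k', k * k' = Fintype.card F ^ 2 + 1 ∧ DegreeFacts (Sz F m) (Fintype.card F) k k' := by
  classical
  haveI := Fintype.ofFinite (Sz F m)
  obtain ⟨U, V, hU, hV, hNH, -⟩ := partition hm hF
  obtain ⟨c1, c2, c3, c4, c5, c6⟩ := coprime_facts hm
  set q := Fintype.card F with hq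
  set k := 2 ^ (2 * m + 1) + 2 ^ (m + 1) + 1 with hk
  set k' := 2 ^ (2 * m + 1) - 2 ^ (m + 1) + 1 with hk'
  have hqm : q = 2 ^ (2 * m + 1) := hF
  have hr2 : 2 * 2 ^ (m + 1) ≤ q := hqm ▸ two_sigma_le hm
  have hq8 : 8 ∣ q := hqm ▸ pow_dvd_pow 2 (show 3 ≤ 2 * m + 1 by omega)
  have hr4 : 4 ∣ 2 ^ (m + 1) := pow_dvd_pow 2 (show 2 ≤ m + 1 by omega)
  have hq0 : 0 < q := Fintype.card_pos
  have hq8' : 8 ≤ q := Nat.le_of_dvd hq0 hq8
  have hkq : k = q + 2 ^ (m + 1) + 1 := by rw [hk, hqm]
  have hk'q : k' = q - 2 ^ (m + 1) + 1 := by rw [hk', hqm]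
  have hprod : k * k' = q ^ 2 + 1 := by rw [hk, hk', hqm]; exact torus_prod hm
  have hH : IsSelfCent (hGrp (m := m) hF) := fun a ha ha1 => centralizer_hS hm hF ha ha1
  have hU' : IsSelfCent U := hU.cent
  have hV' : IsSelfCent V := hV.cent
  rw [← hqm] at c4 c5
  have cH : Nat.card (hGrp (m := m) hF) = q - 1 := card_hGrp hF
  have aHU := apart_of_coprime (A := hGrp hF) (B := U) (by rw [cH, hU.card]; exact c4)
  have aUH := apart_of_coprime (A := U) (B := hGrp hF) (by rw [cH, hU.card]; exact c4.symm)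
  have aHV := apart_of_coprime (A := hGrp hF) (B := V) (by rw [cH, hV.card]; exact c5)
  have aVH := apart_of_coprime (A := V) (B := hGrp hF) (by rw [cH, hV.card]; exact c5.symm)
  have aUV := apart_of_coprime (A := U) (B := V) (by rw [hU.card, hV.card]; exact c6)
  have aVU := apart_of_coprime (A := V) (B := U) (by rw [hU.card, hV.card]; exact c6.symm)
  have hsH : 2 * ((q - 2) / 2) + 2 = q := by omega
  have hsU : 4 * ((k - 1) / 4) + 1 = k := by omega
  obtain ⟨EH⟩ := nonempty_exceptionalData hH (e := 2) (s := (q - 2) / 2)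
    (by rw [hNH, cH, Nat.mul_comm]) (by rw [cH]; omega) (by omega)
  obtain ⟨EU⟩ := nonempty_exceptionalData hU' (e := 4) (s := (k - 1) / 4)
    (by rw [hU.normalizer, hU.card, Nat.mul_comm]) (by rw [hU.card]; omega) (by omega)
  have hr4' : 4 ≤ 2 ^ (m + 1) := Nat.le_of_dvd (by positivity) hr4
  refine ⟨k, k', hprod, ?_⟩
  let T : Tori (Sz F m) q k k' ((q - 2) / 2) ((k - 1) / 4) (hGrp hF) U V :=
    { EH := EH, EU := EU, hH := hH, hU := hU', hV := hV', cH := cH, cU := hU.card, cV := hV.card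
      hsH := hsH, hsU := hsU, qeven := (by omega), q8 := hq8', k5 := (by omega), k'5 := (by omega)
      prod := hprod, sum := (by omega), card := card_Sz hm hF, sU3 := (by omega)
      apHU := aHU, apUH := aUH, apHV := aHV, apUV := aUV, apVH := aVH, apVU := aVU }
  rcases Nat.lt_or_ge m 2 with hm2 | hm2
  · obtain rfl : m = 1 := by omega
    exact degreeFacts_eight' T (by rw [hqm]; rfl) (by rw [hkq, hqm]; rfl) (by rw [hk'q, hqm]; rfl)
      hV.normalizer
  · have hq32 : 32 ≤ q := by
      rw [hqm]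
      exact le_trans (by norm_num) (Nat.pow_le_pow_right (by norm_num) (show 5 ≤ 2 * m + 1 by omega))
    have hr : 4 * 2 ^ (m + 1) ≤ q := by
      rw [hqm, show 4 = 2 ^ 2 from rfl, ← pow_add]
      exact Nat.pow_le_pow_right (by norm_num) (by omega)
    obtain ⟨EV⟩ := nonempty_exceptionalData hV' (e := 4) (s := (k' - 1) / 4)
      (by rw [hV.normalizer, hV.card, Nat.mul_comm]) (by rw [hV.card]; omega) (by omega)
    exact degreeFacts_large T EV (by omega) (by omega) (by omega) (by omega) (by omega)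
      (by omega) hq8

end Cfsg.Agent.SZ
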