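import Cfsg.Agent.Lib.Sz.DegreesLarge

/-!
# Degrees from three tori for `q = 8`: tori of order `7`, `13`, `5`
-/

set_option autoImplicit false
set_option linter.unusedSectionVars false
set_option linter.style.haveILetI false

namespace Cfsg.Agent.SZ

open Cfsg Cfsg.Agent.Char Cfsg.Agent.OddOrder

variable {G : Type*} [Group G] [Fintype G] {H U V : Subgroup G}

theorem degH_eight_arith {D d ε z cP cM : ℤ} (hD0 : 0 < D) (hd0 : 0 < d)
    (hε : ε = 1 ∨ ε = -1) (hz : z = 1 ∨ z = -1) (hcP : -1 ≤ cP ∧ cP ≤ 1) (hcM : -1 ≤ cM ∧ cM ≤ 1)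
    (h7 : 7 ∣ D - 0 - ε * 2) (h13 : 13 ∣ D - cP) (h5 : 5 ∣ D - cM) (hD : D ∣ 29120)
    (hd : d ∣ 29120) (hb : D ≤ 98) (hrel : 1 + d * z - D * ε = 0) : D = 65 := by
  have h27 : d ≠ 27 := by rintro rfl; norm_num at hd
  have h41 : d ≠ 41 := by rintro rfl; norm_num at hd
  interval_cases D <;> first
    | rfl
    | omega
    | (rcases hε with rfl | rfl <;> rcases hz with rfl | rfl <;>
        simp only [mul_one, mul_neg] at hrel h7 <;> omega)

theorem degree_eight_arith {e δ ε c : ℤ} (he0 : 0 < e) (he : e ≤ 9) (hε : ε = 1 ∨ ε = -1)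
    (hδ : δ = 0 ∨ δ = ε) (hc : -1 ≤ c ∧ c ≤ 1) (hd : 7 * e ∣ 29120) (h13 : 13 ∣ 7 * e - δ - ε * 4)
    (h5 : 5 ∣ 7 * e - c) : (e = 5 ∧ δ = 0 ∧ c = 0) ∨ (e = 8 ∧ δ = 0 ∧ c ^ 2 = 1) := by
  interval_cases e <;> norm_num at hd <;> rcases hε with rfl | rfl <;> rcases hδ with rfl | rfl <;>
    obtain ⟨hc1, hc2⟩ := hc <;> interval_cases c <;> omega

theorem rest_eight_arith {e z z' : ℤ} (he0 : 0 < e) (he : e ≤ 13) (hz : -1 ≤ z ∧ z ≤ 1)
    (hz' : -1 ≤ z' ∧ z' ≤ 1) (hd : 7 * e ∣ 29120) (h13 : 13 ∣ 7 * e - z) (h5 : 5 ∣ 7 * e - z') :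
    e = 2 ∨ e = 13 := by
  interval_cases e <;> first
    | (left; rfl)
    | (right; rfl)
    | omega
    | norm_num at hd

theorem abs_le_one {x : ℤ} (h : x ^ 2 ≤ 3) : -1 ≤ x ∧ x ≤ 1 := by
  obtain ⟨h1, h2⟩ := int_le_of_sq_le h (c := 1) (by norm_num) zero_le_one
  exact ⟨h2, h1⟩

theorem degreeFacts_eight (T : Tori G 8 13 5 3 3 H U V)
    (hN : Nat.card (Subgroup.normalizer (V : Set G)) = 20) : DegreeFacts G 8 13 5 := by
  classical
  haveI := Fintype.ofFinite U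
  haveI := Fintype.ofFinite V
  haveI := Fintype.ofFinite H
  obtain ⟨a, ha⟩ := T.exH
  obtain ⟨b, hb⟩ := T.exU
  obtain ⟨c, hc⟩ := T.exV
  obtain ⟨z, hz, hzsum⟩ := exists_cst_of_transitive T.hV (by rw [hN, T.cV]) hc
  rw [T.cV] at hzsum
  have hz5 : ∀ χ, (5 : ℤ) ∣ deg χ - z χ := fun χ => by
    have := dvd_deg_sub V χ (hz χ)
    rwa [T.cV] at this
  have hz1 : z (trivialChar G) = 1 := by
    have h := hz (trivialChar G) c hc
    rw [show (trivialChar G).1 (c : G) = 1 from rfl] at h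
    exact_mod_cast h.symm
  have zeq : ∀ {s : ℕ} {A : Subgroup G} {e : ℕ} (E : ExceptionalData A e s), Apart A V →
      ∀ i j, z (E.θ i) = z (E.θ j) := by
    intro s A e E hA i j
    have h := E.off i j (c : G) (hA c c.2 fun h => hc (Subtype.ext h))
    rw [hz _ c hc, hz _ c hc] at h
    exact_mod_cast h
  have hcard : (Nat.card G : ℤ) = 29120 := by rw [T.card]; norm_num
  obtain ⟨St, hst⟩ := T.stepH
  have i₀ : Fin 3 := ⟨0, by norm_num⟩
  have nHtriv : ∀ i, T.EH.θ i ≠ trivialChar G := fun i e => T.trivH.1 ⟨i, e⟩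
  have nHSt : ∀ i, T.EH.θ i ≠ St := fun i e => hst.not_mem ⟨i, e⟩
  have nHU : ∀ i j, T.EH.θ i ≠ T.EU.θ j := fun i j =>
    theta_ne T.EH T.EU T.apHU (by norm_num) (by norm_num) i j
  -- the degree 65
  have hD : ∀ i, deg (T.EH.θ i) = ((8 : ℕ) : ℤ) ^ 2 + 1 := by
    intro i
    have hni : T.EH.θ i ∉ Set.range T.EU.θ := fun ⟨j, hj⟩ => nHU i j hj.symm
    have h1 := card_mul_sq_le T.EU T.hU hb T.EH.θ T.EH.inj (cst T.EU (T.EH.θ i))
      (fun l => cst_theta_eq T.EH T.EU T.apHU (by norm_num) (by norm_num) hb l i) {trivialChar G}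
      (fun l e => nHtriv l (Finset.mem_singleton.1 e))
    rw [Finset.sum_singleton, T.trivU.2] at h1
    have hδ := delta_nonneg T.EU (by norm_num : 2 ≤ 3)
    have h2 : 3 * z (T.EH.θ i) ^ 2 + 1 ≤ 5 := by
      have := Finset.sum_le_univ_sum_of_nonneg (s := Finset.univ.image T.EH.θ ∪ {trivialChar G})
        (f := fun χ => z χ ^ 2) fun χ => sq_nonneg _
      rw [hzsum, Finset.sum_union (Finset.disjoint_singleton_right.2 fun e => by
        obtain ⟨l, -, hl⟩ := Finset.mem_image.1 e; exact nHtriv l hl),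
        Finset.sum_image fun i _ j _ h => T.EH.inj h,
        Finset.sum_congr rfl fun l _ => by rw [zeq T.EH T.apHV l i], Finset.sum_singleton, hz1,
        Finset.sum_const] at this
      simpa using this
    have hb1 := card_mul_deg_sq_le T.EH.θ T.EH.inj (fun l => deg_theta_eq T.EH l i)
    rw [hcard] at hb1
    push_cast at h1 hb1 hδ
    have hD98 : deg (T.EH.θ i) ≤ 98 := by nlinarith
    have c7 := dvd_deg_theta T.EH i
    have c13 := dvd_deg_sub_cst T.EU hni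
    rw [T.cH, hst.δ0] at c7
    rw [T.cU] at c13
    have h65 := degH_eight_arith (deg_pos _) (deg_pos St) T.EH.ε_eq hst.unit
      (abs_le_one (by linarith [sq_nonneg (cst T.EU (T.EH.θ i))]) :
        -1 ≤ cst T.EU (T.EH.θ i) ∧ cst T.EU (T.EH.θ i) ≤ 1)
      (abs_le_one (by linarith [sq_nonneg (z (T.EH.θ i))]) :
        -1 ≤ z (T.EH.θ i) ∧ z (T.EH.θ i) ≤ 1)
      (by push_cast at c7; exact c7) (by exact_mod_cast c13) (hz5 _) (hcard ▸ deg_dvd_card _)
      (hcard ▸ deg_dvd_card _) hD98 (hst.rel i)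
    rw [h65]; norm_num
  have hs := T.stepSt hst hD
  have hH13 : ∀ i, cst T.EU (T.EH.θ i) = 0 := by
    intro i
    have h1 := card_mul_sq_le T.EU T.hU hb T.EH.θ T.EH.inj (cst T.EU (T.EH.θ i))
      (fun l => cst_theta_eq T.EH T.EU T.apHU (by norm_num) (by norm_num) hb l i) {trivialChar G}
      (fun l e => nHtriv l (Finset.mem_singleton.1 e))
    rw [Finset.sum_singleton, T.trivU.2] at h1
    have hδ := delta_nonneg T.EU (by norm_num : 2 ≤ 3)
    have c13 := dvd_deg_sub_cst T.EU (χ := T.EH.θ i) fun ⟨j, hj⟩ => nHU i j hj.symm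
    rw [T.cU, hD] at c13
    push_cast at h1 c13 hδ
    have := abs_le_one (x := cst T.EU (T.EH.θ i)) (by linarith [sq_nonneg (cst T.EU (T.EH.θ i))])
    omega
  have hH5 : ∀ i, z (T.EH.θ i) = 0 := by
    intro i
    have h5 := hz5 (T.EH.θ i)
    rw [hD] at h5
    have hle := Finset.single_le_sum
      (f := fun χ => z χ ^ 2) (fun χ _ => sq_nonneg _) (Finset.mem_univ (T.EH.θ i))
    rw [hzsum] at hle
    push_cast at hle
    push_cast at h5
    have : z (T.EH.θ i) ≤ 2 ∧ -2 ≤ z (T.EH.θ i) := by constructor <;> nlinarith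
    omega
  have hSt5 : z St = -1 := by
    have h5 := hz5 St
    rw [hs.degSt] at h5
    have hle := Finset.sum_le_univ_sum_of_nonneg (s := {trivialChar G, St}) (f := fun χ => z χ ^ 2)
      fun χ => sq_nonneg _
    rw [hzsum, Finset.sum_pair hst.ne_triv.symm, hz1] at hle
    push_cast at h5 hle
    have : z St ≤ 2 ∧ -2 ≤ z St := by constructor <;> nlinarith
    omega
  -- the decomposition
  set X := (({trivialChar G, St} : Finset (IrrCharacter G)) ∪ Finset.univ.image T.EH.θ ∪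
    Finset.univ.image T.EU.θ ∪ ∅)ᶜ with hX
  have hdec : ∀ f : IrrCharacter G → ℤ, ∑ χ, f χ = f (trivialChar G) + f St + ∑ i, f (T.EH.θ i) +
      ∑ i, f (T.EU.θ i) + ∑ χ ∈ X, f χ := by
    intro f
    rw [sum_decomp T.EH.θ T.EH.inj T.EU.θ T.EU.inj {trivialChar G, St} ∅ ?_ ?_ nHU (by simp) f,
      Finset.sum_pair hst.ne_triv.symm, Finset.sum_empty, add_zero]
    · intro i e
      rcases Finset.mem_insert.1 e with e | e
      · exact nHtriv i e
      · exact nHSt i (Finset.mem_singleton.1 e)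
    · intro i e
      rcases Finset.mem_insert.1 e with e | e
      · exact T.trivU.1 ⟨i, e⟩
      · exact hs.notU ⟨i, Finset.mem_singleton.1 e⟩
  have hXn : ∀ χ ∈ X, χ ≠ trivialChar G ∧ χ ≠ St ∧ χ ∉ Set.range T.EH.θ ∧
      χ ∉ Set.range T.EU.θ := by
    intro χ hχ
    simp only [hX, Finset.mem_compl, Finset.mem_union, Finset.mem_insert, Finset.mem_singleton,
      Finset.mem_image, Finset.mem_univ, true_and, not_or, not_exists, Finset.notMem_empty,
      not_false_eq_true, and_true] at hχ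
    exact ⟨hχ.1.1.1, hχ.1.1.2, fun ⟨i, e⟩ => hχ.1.2 i e, fun ⟨i, e⟩ => hχ.2 i e⟩
  have eU : ∑ χ ∈ X, cst T.EU χ ^ 2 + (3 * T.EU.δ ^ 2 - 2 * T.EU.ε * T.EU.δ) = 2 := by
    have h1 := sum_cst_sq T.EU T.hU hb
    rw [hdec, T.trivU.2, hs.cU] at h1
    simp only [hH13, cst_theta, ne_eq, OfNat.ofNat_ne_zero, not_false_eq_true, zero_pow,
      Finset.sum_const_zero] at h1
    push_cast at h1
    linarith
  have eV : ∑ χ ∈ X, z χ ^ 2 + 3 * z (T.EU.θ i₀) ^ 2 = 3 := by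
    have h1 := hzsum
    rw [hdec, hz1, hSt5, Finset.sum_congr rfl (fun i _ => by rw [zeq T.EU T.apUV i i₀] :
      ∀ i ∈ Finset.univ, z (T.EU.θ i) ^ 2 = z (T.EU.θ i₀) ^ 2)] at h1
    simp only [hH5, ne_eq, OfNat.ofNat_ne_zero, not_false_eq_true, zero_pow,
      Finset.sum_const_zero, Finset.sum_const, Finset.card_univ, Fintype.card_fin] at h1
    push_cast at h1
    rw [nsmul_eq_mul] at h1
    push_cast at h1
    linarith
  -- multiples of seven
  have h7 : ∀ χ : IrrCharacter G, cst T.EH χ = 0 → χ ∉ Set.range T.EH.θ →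
      ∃ e : ℤ, deg χ = 7 * e ∧ 0 < e := by
    intro χ h0 hn
    have := dvd_deg_sub_cst T.EH hn
    rw [h0, sub_zero, T.cH] at this
    obtain ⟨e, he⟩ := this
    have := deg_pos χ
    exact ⟨e, by push_cast at he; exact he, by push_cast at he; omega⟩
  obtain ⟨e₀, he₀, he₀p⟩ := h7 (T.EU.θ i₀) (hs.zeroU i₀) fun ⟨j, hj⟩ => nHU j i₀ hj
  have hdU : ∀ i, deg (T.EU.θ i) = 7 * e₀ := fun i => (deg_theta_eq T.EU i i₀).trans he₀
  have eD : ∑ χ ∈ X, deg χ ^ 2 + 147 * e₀ ^ 2 = 12348 := by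
    have h1 := sum_deg_sq (G := G)
    rw [hdec, deg_trivial, hs.degSt, hcard] at h1
    simp only [hD, hdU, Finset.sum_const, Finset.card_univ, Fintype.card_fin, nsmul_eq_mul] at h1
    push_cast at h1
    linarith
  have hX0 : 0 ≤ ∑ χ ∈ X, deg χ ^ 2 := Finset.sum_nonneg fun χ _ => sq_nonneg _
  have hX1 : 0 ≤ ∑ χ ∈ X, cst T.EU χ ^ 2 := Finset.sum_nonneg fun χ _ => sq_nonneg _
  have hX2 : 0 ≤ ∑ χ ∈ X, z χ ^ 2 := Finset.sum_nonneg fun χ _ => sq_nonneg _
  have hδ : T.EU.δ = 0 ∨ T.EU.δ = T.EU.ε := by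
    have h1 : T.EU.δ ≤ 1 ∧ -1 ≤ T.EU.δ := by
      rcases T.EU.ε_eq with h | h <;> rw [h] at eU <;> constructor <;>
        nlinarith [sq_nonneg (T.EU.δ - 1), sq_nonneg (T.EU.δ + 1)]
    obtain ⟨h2, h3⟩ := h1
    rcases T.EU.ε_eq with h | h <;> rw [h] at eU ⊢ <;> interval_cases T.EU.δ <;>
      norm_num at eU ⊢ <;> linarith
  have c13 := dvd_deg_theta T.EU i₀
  rw [T.cU, he₀] at c13
  push_cast at c13
  have c5 := hz5 (T.EU.θ i₀)
  rw [he₀] at c5
  have hcases := degree_eight_arith he₀p (by nlinarith) T.EU.ε_eq hδ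
    (by constructor <;> nlinarith : -1 ≤ z (T.EU.θ i₀) ∧ z (T.EU.θ i₀) ≤ 1)
    (by rw [← he₀, ← hcard]; exact deg_dvd_card _) c13 c5
  have hxe : ∀ χ ∈ X, ∃ e : ℤ, deg χ = 7 * e ∧ 0 < e := fun χ hχ =>
    h7 χ (hst.others χ (hXn χ hχ).1 (hXn χ hχ).2.1) (hXn χ hχ).2.2.1
  rcases hcases with ⟨rfl, hδ0, hc0⟩ | ⟨rfl, hδ0, hc1⟩
  swap
  · exfalso
    rw [hc1] at eV
    have h0 : ∑ χ ∈ X, z χ ^ 2 = 0 := by linarith
    have h25 : (25 * 49 : ℤ) ∣ ∑ χ ∈ X, deg χ ^ 2 := by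
      refine Finset.dvd_sum fun χ hχ => ?_
      obtain ⟨e, he, -⟩ := hxe χ hχ
      have h5 := hz5 χ
      rw [pow_eq_zero_iff two_ne_zero |>.1
        ((Finset.sum_eq_zero_iff_of_nonneg fun χ _ => sq_nonneg _).1 h0 χ hχ), sub_zero, he] at h5
      obtain ⟨j, hj⟩ : (5 : ℤ) ∣ e := by omega
      exact ⟨j ^ 2, by rw [he, hj]; ring⟩
    rw [show ∑ χ ∈ X, deg χ ^ 2 = 2940 by linarith] at h25
    norm_num at h25
  rw [hδ0] at eU
  rw [hc0] at eV
  have eX : ∑ χ ∈ X, deg χ ^ 2 = 8673 := by linarith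
  have hxx : ∀ χ ∈ X, degree χ = 14 ∨ degree χ = 91 := by
    intro χ hχ
    obtain ⟨e, he, hep⟩ := hxe χ hχ
    have hle : deg χ ^ 2 ≤ 8673 := eX ▸ Finset.single_le_sum
      (f := fun χ => deg χ ^ 2) (fun χ _ => sq_nonneg _) hχ
    rw [he] at hle
    have h1 := dvd_deg_sub_cst T.EU (hXn χ hχ).2.2.2
    rw [T.cU, he] at h1
    have h2 := hz5 χ
    rw [he] at h2
    have hu : cst T.EU χ ^ 2 ≤ 2 := by
      have := Finset.single_le_sum (f := fun χ => cst T.EU χ ^ 2) (fun χ _ => sq_nonneg _) hχ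
      linarith
    have hv : z χ ^ 2 ≤ 3 := by
      have := Finset.single_le_sum (f := fun χ => z χ ^ 2) (fun χ _ => sq_nonneg _) hχ
      linarith
    have := rest_eight_arith hep (by nlinarith)
      (by constructor <;> nlinarith : -1 ≤ cst T.EU χ ∧ cst T.EU χ ≤ 1)
      (by constructor <;> nlinarith : -1 ≤ z χ ∧ z χ ≤ 1)
      (by rw [← he, ← hcard]; exact deg_dvd_card _) (by exact_mod_cast h1) h2
    rcases this with rfl | rfl
    · exact .inl (degree_eq_of_deg he)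
    · exact .inr (degree_eq_of_deg he)
  have hdeg : ∀ χ : IrrCharacter G, (deg χ : ℤ) = (degree χ : ℤ) := fun χ => rfl
  have hne : ∀ d : ℕ, (d = 14 ∨ d = 91) → ∃ χ ∈ X, degree χ = d := by
    intro d hd
    by_contra! hno
    have hall : ∃ d' : ℤ, (d' = 14 ∨ d' = 91) ∧ (d' ≠ d) ∧ ∑ χ ∈ X, deg χ ^ 2 = X.card * d' ^ 2 := by
      rcases hd with rfl | rfl
      · refine ⟨91, .inr rfl, by norm_num, ?_⟩
        rw [Finset.sum_congr rfl fun χ hχ => by
          rw [hdeg, (hxx χ hχ).resolve_left (hno χ hχ)], Finset.sum_const, nsmul_eq_mul]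
        norm_num
      · refine ⟨14, .inl rfl, by norm_num, ?_⟩
        rw [Finset.sum_congr rfl fun χ hχ => by
          rw [hdeg, (hxx χ hχ).resolve_right (hno χ hχ)], Finset.sum_const, nsmul_eq_mul]
        norm_num
    obtain ⟨d', hd', -, hsum⟩ := hall
    rw [eX] at hsum
    rcases hd' with rfl | rfl <;> push_cast at hsum <;> omega
  have hdU' : degree (T.EU.θ i₀) = 35 := degree_eq_of_deg he₀
  have hdH : ∀ i, degree (T.EH.θ i) = 65 := fun i => degree_eq_of_deg (by rw [hD]; norm_num)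
  refine ⟨fun χ h2 => ?_, ⟨T.EH.θ i₀, hdH i₀⟩, ?_, ⟨T.EU.θ i₀, hdU'⟩, ?_⟩
  · by_cases hχ : χ ∈ X
    · rcases hxx χ hχ with h | h <;> rw [h] at h2 ⊢ <;> norm_num at h2 <;> norm_num
    simp only [hX, Finset.mem_compl, not_not, Finset.mem_union, Finset.mem_insert,
      Finset.mem_singleton, Finset.mem_image, Finset.mem_univ, true_and, Finset.notMem_empty,
      or_false] at hχ
    rcases hχ with ((rfl | rfl) | ⟨i, rfl⟩) | ⟨i, rfl⟩
    · rw [degree_eq_of_deg (d := 1) (by simp [deg_trivial])] at h2 ⊢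
      norm_num at h2
    · rw [degree_eq_of_deg (d := 64) (by rw [hs.degSt]; norm_num)]
      norm_num
    · rw [hdH] at h2; norm_num at h2
    · rw [degree_eq_of_deg (d := 35) (by rw [hdU]; norm_num)] at h2; norm_num at h2
  · obtain ⟨χ, -, h⟩ := hne 91 (.inr rfl)
    exact ⟨χ, h⟩
  · obtain ⟨χ, -, h⟩ := hne 14 (.inl rfl)
    exact ⟨χ, by rw [h]; norm_num, by rw [h]; norm_num⟩

end Cfsg.Agent.SZ
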