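import Cfsg.Agent.Lib.Sz.DegreeArith

/-!
# Degrees from three tori, both anisotropic tori with many orbits (`q ≥ 32`)
-/

set_option autoImplicit false
set_option linter.unusedSectionVars false
set_option linter.style.haveILetI false

namespace Cfsg.Agent.SZ

open Cfsg Cfsg.Agent.Char Cfsg.Agent.OddOrder

variable {G : Type*} [Group G] [Fintype G]
variable {q k k' sH sU sV : ℕ} {H U V : Subgroup G}

open scoped Classical in
theorem sum_decomp {s t : ℕ} (θ : Fin s → IrrCharacter G) (hθ : Function.Injective θ)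
    (φ : Fin t → IrrCharacter G) (hφ : Function.Injective φ) (S W : Finset (IrrCharacter G))
    (h1 : ∀ i, θ i ∉ S) (h2 : ∀ j, φ j ∉ S) (h3 : ∀ i j, θ i ≠ φ j)
    (h4 : ∀ χ ∈ W, χ ∉ S ∧ (∀ i, θ i ≠ χ) ∧ ∀ j, φ j ≠ χ) (f : IrrCharacter G → ℤ) :
    ∑ χ, f χ = ∑ χ ∈ S, f χ + ∑ i, f (θ i) + ∑ j, f (φ j) + ∑ χ ∈ W, f χ +
      ∑ χ ∈ (S ∪ Finset.univ.image θ ∪ Finset.univ.image φ ∪ W)ᶜ, f χ := by
  rw [← Finset.sum_add_sum_compl (S ∪ Finset.univ.image θ ∪ Finset.univ.image φ ∪ W),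
    Finset.sum_union, Finset.sum_union, Finset.sum_union, Finset.sum_image fun i _ j _ h => hθ h,
    Finset.sum_image fun i _ j _ h => hφ h]
  · exact Finset.disjoint_left.2 fun χ hχ hm => by
      obtain ⟨i, -, rfl⟩ := Finset.mem_image.1 hm
      exact h1 i hχ
  · exact Finset.disjoint_left.2 fun χ hχ hm => by
      obtain ⟨j, -, rfl⟩ := Finset.mem_image.1 hm
      rcases Finset.mem_union.1 hχ with h | h
      · exact h2 j h
      · obtain ⟨i, -, e⟩ := Finset.mem_image.1 h; exact h3 i j e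
  · exact Finset.disjoint_left.2 fun χ hχ hm => by
      obtain ⟨a, b, c⟩ := h4 χ hm
      rcases Finset.mem_union.1 hχ with h | h
      · rcases Finset.mem_union.1 h with h | h
        · exact a h
        · obtain ⟨i, -, e⟩ := Finset.mem_image.1 h; exact b i e
      · obtain ⟨j, -, e⟩ := Finset.mem_image.1 h; exact c j e

theorem coprime_pred {q k k' : ℕ} (hq : 2 ∣ q) (hq8 : 8 ≤ q) (hprod : k * k' = q ^ 2 + 1) :
    (q - 1).Coprime k := by
  refine Nat.coprime_of_dvd fun p hp h1 h2 => ?_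
  have h3 : p ∣ q ^ 2 + 1 := hprod ▸ h2.mul_right k'
  have h4 : p ∣ q ^ 2 - 1 := by
    have := Nat.sq_sub_sq q 1
    rw [one_pow] at this
    rw [this]
    exact h1.mul_left _
  have h5 : 1 ≤ q ^ 2 := Nat.one_le_pow _ _ (by omega)
  have h6 := Nat.dvd_sub h3 h4
  rw [show q ^ 2 + 1 - (q ^ 2 - 1) = 2 by omega] at h6
  obtain rfl := (Nat.prime_dvd_prime_iff_eq hp Nat.prime_two).1 h6
  omega

/-- A coprime integer degree. -/
theorem coprime_of_unit {d : ℕ} {z : ℤ} {k : ℕ} (hz : z = 1 ∨ z = -1)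
    (h : (k : ℤ) ∣ (d : ℤ) - z) : d.Coprime k := by
  refine Nat.coprime_of_dvd fun p hp hpd hpk => hp.one_lt.ne' ?_
  have h1 : (p : ℤ) ∣ (d : ℤ) - z := (Int.natCast_dvd_natCast.2 hpk).trans h
  have h2 : (p : ℤ) ∣ z := by
    have := dvd_sub (Int.natCast_dvd_natCast.2 hpd) h1
    rwa [sub_sub_cancel] at this
  rcases hz with rfl | rfl
  · exact Nat.dvd_one.1 (Int.natCast_dvd_natCast.1 (by exact_mod_cast h2))
  · exact Nat.dvd_one.1 (Int.natCast_dvd_natCast.1 (by simpa using h2))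

/-- The degree of the exceptional characters of one anisotropic torus. -/
theorem exc_degree {s : ℕ} (E : ExceptionalData U 4 s) [Fintype U] (hU : Nat.card U = k)
    (hs : 4 * s + 1 = k) (i : Fin s) (hδ : E.δ = 0) (hdv : (((q - 1) * k' : ℕ) : ℤ) ∣ deg (E.θ i))
    (hprod : k * k' = q ^ 2 + 1) (hsum : k + k' = 2 * q + 2) (hk5 : 5 ≤ k) (hq8 : 8 ≤ q)
    (hk' : 3 * q ≤ 4 * k') (hcard : Nat.card G = q ^ 2 * (q ^ 2 + 1) * (q - 1)) :
    deg (E.θ i) = (((q - 1) * k' : ℕ) : ℤ) := by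
  obtain ⟨j, hj⟩ := hdv
  set N : ℤ := (((q - 1) * k' : ℕ) : ℤ) with hN
  have hN' : N = ((q : ℤ) - 1) * k' := by rw [hN]; push_cast [Nat.cast_sub (by omega : 1 ≤ q)]; ring
  have hj0 : 0 < j := by
    have := deg_pos (E.θ i)
    rw [hj] at this
    exact (mul_pos_iff_of_pos_left (by
      rw [hN']; exact mul_pos (by omega) (by omega))).1 this
  -- the bound
  have hb := card_mul_deg_sq_le E.θ E.inj (fun l => deg_theta_eq E l i)
  rw [hj, hcard] at hb
  push_cast [Nat.cast_sub (by omega : 1 ≤ q)] at hb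
  have hp : (k : ℤ) * k' = (q : ℤ) ^ 2 + 1 := by exact_mod_cast hprod
  have hs' : 4 * (s : ℤ) + 1 = k := by exact_mod_cast hs
  have hj2 : j ≤ 2 := by
    by_contra h3
    have h3' : 3 ≤ j := by omega
    have e1 : (9 : ℤ) * ((k : ℤ) - 1) * N ^ 2 ≤ 4 * ((q : ℤ) ^ 2 * ((q : ℤ) ^ 2 + 1) * ((q : ℤ) - 1)) := by
      have : 9 * N ^ 2 ≤ (N * j) ^ 2 := by
        rw [mul_pow, mul_comm (N ^ 2)]
        exact mul_le_mul_of_nonneg_right (by nlinarith) (sq_nonneg _)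
      have := mul_le_mul_of_nonneg_left this (show (0 : ℤ) ≤ s by positivity)
      have e : ((k : ℤ) - 1) = 4 * s := by linarith
      rw [e]
      nlinarith
    rw [← hp, hN'] at e1
    have hq1 : (0 : ℤ) < (q : ℤ) - 1 := by omega
    have hkp : (0 : ℤ) < k' := by omega
    have e2 : 9 * ((k : ℤ) - 1) * (((q : ℤ) - 1) * k') ≤ 4 * ((q : ℤ) ^ 2 * k) :=
      le_of_mul_le_mul_right (by nlinarith) (mul_pos hq1 hkp)
    have e3 : 5 * ((k : ℤ) - 1) ≥ 4 * k := by omega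
    have e4 : (36 : ℤ) * k * (((q : ℤ) - 1) * k') ≤ 20 * ((q : ℤ) ^ 2 * k) := by
      have := mul_le_mul_of_nonneg_right (show 36 * (k : ℤ) ≤ 45 * ((k : ℤ) - 1) by linarith)
        (mul_pos hq1 hkp).le
      nlinarith
    have e5 : (36 : ℤ) * (((q : ℤ) - 1) * k') ≤ 20 * (q : ℤ) ^ 2 :=
      le_of_mul_le_mul_right (by nlinarith) (show (0 : ℤ) < k by omega)
    have e6 := mul_le_mul_of_nonneg_left (show 3 * (q : ℤ) ≤ 4 * k' by exact_mod_cast hk') hq1.le
    nlinarith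
  -- the congruence
  have hc := dvd_deg_theta E i
  rw [hU, hδ, hj] at hc
  push_cast at hc
  have hs2 : (k : ℤ) + k' = 2 * q + 2 := by exact_mod_cast hsum
  have hkodd : IsCoprime (k : ℤ) 4 := by
    rw [← hs']
    exact ⟨1, -(s : ℤ), by ring⟩
  have h2 : (k : ℤ) ∣ N + 4 := by
    have h2' : (k : ℤ) ∣ 4 * (N + 4) := by
      refine ⟨2 * (5 * k' + k - 4 * q), ?_⟩
      rw [hN']
      linear_combination (-8 : ℤ) * hp + (-2 * (k : ℤ) + 4 * q - 4) * hs2
    exact hkodd.dvd_of_dvd_mul_left h2'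
  have h3 : (k : ℤ) ∣ 4 * (j + E.ε) := by
    have := dvd_sub (h2.mul_right j) hc
    rwa [show (N + 4) * j - (N * j - 0 - E.ε * 4) = 4 * (j + E.ε) by ring] at this
  have h4 := hkodd.dvd_of_dvd_mul_left h3
  have h5 : j + E.ε = 0 := by
    by_contra hne
    rcases lt_or_gt_of_ne hne with hlt | hgt
    · have := Int.le_of_dvd (by omega) (dvd_neg.2 h4)
      rcases E.ε_eq with h | h <;> omega
    · have := Int.le_of_dvd hgt h4
      rcases E.ε_eq with h | h <;> omega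
  have hj1 : j = 1 := by rcases E.ε_eq with h | h <;> omega
  rw [hj, hj1, mul_one]

/-- The tori with the roles of `U` and `V` exchanged. -/
def Tori.swap (T : Tori G q k k' sH sU H U V) (EV : ExceptionalData V 4 sV)
    (hsV : 4 * sV + 1 = k') (sV3 : 3 ≤ sV) : Tori G q k' k sH sV H V U where
  EH := T.EH
  EU := EV
  hH := T.hH
  hU := T.hV
  hV := T.hU
  cH := T.cH
  cU := T.cV
  cV := T.cU
  hsH := T.hsH
  hsU := hsV
  qeven := T.qeven
  q8 := T.q8
  k5 := T.k'5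
  k'5 := T.k5
  prod := by rw [Nat.mul_comm]; exact T.prod
  sum := by rw [Nat.add_comm]; exact T.sum
  card := T.card
  sU3 := sV3
  apHU := T.apHV
  apUH := T.apVH
  apHV := T.apHU
  apUV := T.apVU
  apVH := T.apUH
  apVU := T.apUV

theorem dvd_degH_of_large (T : Tori G q k k' sH sU H U V) (h : 15 ≤ sH) (i : Fin sH) :
    (k : ℤ) ∣ deg (T.EH.θ i) ∧ cst T.EU (T.EH.θ i) = 0 := by
  classical
  haveI := Fintype.ofFinite U
  obtain ⟨b, hb⟩ := T.exU
  have hsU := T.sU3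
  have hne : ∀ l, T.EH.θ l ∉ Set.range T.EU.θ := fun l ⟨j, hj⟩ =>
    theta_ne T.EH T.EU T.apHU (by omega) (by omega) l j hj.symm
  have h1 := card_mul_sq_le T.EU T.hU hb T.EH.θ T.EH.inj (cst T.EU (T.EH.θ i))
    (fun l => cst_theta_eq T.EH T.EU T.apHU (by omega) (by omega) hb l i) {trivialChar G}
    (fun l e => T.trivH.1 ⟨l, Finset.mem_singleton.1 e⟩)
  rw [Finset.sum_singleton, T.trivU.2] at h1
  have h2 := delta_nonneg T.EU (by omega : 2 ≤ sU)
  have h0 : cst T.EU (T.EH.θ i) = 0 := by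
    by_contra hc
    have h3 := sq_pos_iff.2 hc
    have h4 : (15 : ℤ) ≤ sH := by exact_mod_cast h
    have h5 := mul_le_mul_of_nonneg_right h4 h3.le
    have h6 : (1 : ℤ) ≤ cst T.EU (T.EH.θ i) ^ 2 := h3
    push_cast at h1
    linarith
  refine ⟨?_, h0⟩
  have h3 := dvd_deg_sub_cst T.EU (hne i)
  rwa [h0, sub_zero, T.cU] at h3

theorem degH_large (T : Tori G q k k' sH sU H U V) (EV : ExceptionalData V 4 sV)
    (hsV : 4 * sV + 1 = k') (sV3 : 3 ≤ sV) (h : 15 ≤ sH) {St : IrrCharacter G} (hst : StepH T St)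
    (i : Fin sH) : deg (T.EH.θ i) = (q : ℤ) ^ 2 + 1 := by
  have h1 := (dvd_degH_of_large T h i).1
  have h2 := (dvd_degH_of_large (T.swap EV hsV sV3) h i).1
  have hcop : IsCoprime (k : ℤ) (k' : ℤ) := by
    rw [Int.isCoprime_iff_nat_coprime, Int.natAbs_natCast, Int.natAbs_natCast]
    refine Nat.coprime_of_dvd fun p hp hpk hpk' => ?_
    have a1 : p ∣ 2 * q + 2 := T.sum ▸ dvd_add hpk hpk'
    have a2 : p ∣ q ^ 2 + 1 := T.prod ▸ hpk.mul_right k'
    have a3 : p ∣ 8 := by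
      have a4 : (p : ℤ) ∣ 2 * q + 2 := by exact_mod_cast a1
      have a5 : (p : ℤ) ∣ (q : ℤ) ^ 2 + 1 := by exact_mod_cast a2
      have : (p : ℤ) ∣ 8 := by
        have := dvd_sub (a5.mul_left 4) (a4.mul_left (2 * (q : ℤ) - 2))
        rwa [show 4 * ((q : ℤ) ^ 2 + 1) - (2 * (q : ℤ) - 2) * (2 * q + 2) = 8 by ring] at this
      exact_mod_cast this
    obtain rfl := (Nat.prime_dvd_prime_iff_eq hp Nat.prime_two).1
      (hp.dvd_of_dvd_pow (show p ∣ 2 ^ 3 by simpa using a3))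
    have := T.hsU
    omega
  have hprod : (k : ℤ) * k' = (q : ℤ) ^ 2 + 1 := by exact_mod_cast T.prod
  obtain ⟨j, hj⟩ := hcop.mul_dvd h1 h2
  rw [hprod] at hj
  rw [hj]
  have hj0 : 0 < j := by
    have := deg_pos (T.EH.θ i)
    rw [hj] at this
    exact (mul_pos_iff_of_pos_left (by positivity)).1 this
  have hb := card_mul_deg_sq_le T.EH.θ T.EH.inj (fun l => deg_theta_eq T.EH l i)
  rw [hj, T.card] at hb
  have hq := T.q8
  push_cast [Nat.cast_sub (by omega : 1 ≤ q)] at hb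
  have hs : 2 * (sH : ℤ) + 2 = q := by exact_mod_cast T.hsH
  have : j = 1 := by
    by_contra hne
    have h2j : 2 ≤ j := by omega
    have h4 : (4 : ℤ) ≤ j ^ 2 := by nlinarith
    have hB : (0 : ℤ) < (q : ℤ) ^ 2 + 1 := by positivity
    have e1 : 4 * (sH : ℤ) * ((q : ℤ) ^ 2 + 1) ≤ (q : ℤ) ^ 2 * ((q : ℤ) - 1) := by
      refine le_of_mul_le_mul_right ?_ hB
      have := mul_le_mul_of_nonneg_left h4
        (show (0 : ℤ) ≤ sH * ((q : ℤ) ^ 2 + 1) * ((q : ℤ) ^ 2 + 1) by positivity)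
      nlinarith
    have hq' : (8 : ℤ) ≤ q := by exact_mod_cast hq
    nlinarith
  rw [this, mul_one]

/-- `δ = 0` and the values on the other torus vanish. -/
theorem exc_large (T : Tori G q k k' sH sU H U V) (EV : ExceptionalData V 4 sV)
    (hsV : 4 * sV + 1 = k') (hU : 5 ≤ sU) (hV : 5 ≤ sV) {St : IrrCharacter G} (hst : StepH T St)
    (hs : StepSt T St) (hs' : StepSt (T.swap EV hsV (by omega)) St) (hk' : 3 * q ≤ 4 * k')
    (i : Fin sU) :
    T.EU.δ = 0 ∧ cst EV (T.EU.θ i) = 0 ∧ deg (T.EU.θ i) = (((q - 1) * k' : ℕ) : ℤ) := by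
  classical
  haveI := Fintype.ofFinite U
  haveI := Fintype.ofFinite V
  haveI := Fintype.ofFinite H
  obtain ⟨a, ha⟩ := T.exH
  obtain ⟨b, hb⟩ := T.exU
  obtain ⟨c, hc⟩ := T.exV
  have hsH := T.sH3
  have h1 := sum_cst_sq_le T.EU T.hU hb {trivialChar G, St}
  rw [Finset.sum_pair hst.ne_triv.symm, T.trivU.2, hs.cU] at h1
  have hδ : T.EU.δ = 0 := delta_eq_zero T.EU (b := 2) (by omega) (by push_cast at *; linarith)
  have hne : T.EU.θ i ∉ Set.range EV.θ := fun ⟨j, hj⟩ =>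
    theta_ne T.EU EV T.apUV (by omega) (by omega) i j hj.symm
  have h2 := card_mul_sq_le EV T.hV hc T.EU.θ T.EU.inj (cst EV (T.EU.θ i))
    (fun l => cst_theta_eq T.EU EV T.apUV (by omega) (by omega) hc l i) {trivialChar G, St}
    (fun l e => by
      rcases Finset.mem_insert.1 e with e | e
      · exact T.trivU.1 ⟨l, e⟩
      · exact hs.notU ⟨l, Finset.mem_singleton.1 e⟩)
  have hEV : cst EV (trivialChar G) = 1 := (T.swap EV hsV (by omega)).trivU.2
  have hEV' : cst EV St = -1 := hs'.cU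
  rw [Finset.sum_pair hst.ne_triv.symm, hEV, hEV'] at h2
  have h3 := delta_nonneg EV (by omega : 2 ≤ sV)
  have h0 : cst EV (T.EU.θ i) = 0 := by
    by_contra hc
    have := sq_pos_iff.2 hc
    have : (5 : ℤ) ≤ sU := by exact_mod_cast hU
    push_cast at h2
    nlinarith
  refine ⟨hδ, h0, exc_degree T.EU T.cU T.hsU i hδ ?_ T.prod T.sum T.k5 T.q8 hk' T.card⟩
  have d1 := dvd_deg_sub_cst EV hne
  rw [h0, sub_zero, T.cV] at d1
  have d2 := dvd_deg_sub_cst T.EH (χ := T.EU.θ i)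
    fun ⟨j, hj⟩ => theta_ne T.EU T.EH T.apUH (by omega) (by omega) i j hj.symm
  rw [hs.zeroU i, sub_zero, T.cH] at d2
  push_cast
  refine IsCoprime.mul_dvd ?_ d2 d1
  rw [Int.isCoprime_iff_nat_coprime, Int.natAbs_natCast, Int.natAbs_natCast]
  exact coprime_pred T.qeven T.q8 (by rw [Nat.mul_comm]; exact T.prod : k' * k = q ^ 2 + 1)

theorem degreeFacts_large (T : Tori G q k k' sH sU H U V) (EV : ExceptionalData V 4 sV)
    (hsV : 4 * sV + 1 = k') (h : 15 ≤ sH) (hU : 5 ≤ sU) (hV : 5 ≤ sV) (hk : 3 * q ≤ 4 * k)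
    (hk' : 3 * q ≤ 4 * k') (hq8 : 8 ∣ q) : DegreeFacts G q k k' := by
  classical
  haveI := Fintype.ofFinite U
  haveI := Fintype.ofFinite V
  haveI := Fintype.ofFinite H
  set T' := T.swap EV hsV (by omega)
  obtain ⟨St, hst⟩ := T.stepH
  have hst' : StepH T' St :=
    ⟨hst.δ0, hst.ne_triv, hst.not_mem, hst.unit, hst.others, hst.rel⟩
  have hD := degH_large T EV hsV (by omega) h hst
  have hs := T.stepSt hst hD
  have hs' := T'.stepSt hst' hD
  have exU := fun i => exc_large T EV hsV hU hV hst hs hs' hk' i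
  have exV : ∀ j, EV.δ = 0 ∧ cst T.EU (EV.θ j) = 0 ∧ deg (EV.θ j) = (((q - 1) * k : ℕ) : ℤ) :=
    fun j => exc_large T' T.EU T.hsU hV hU hst' hs' hs hk j
  obtain ⟨a, ha⟩ := T.exH
  obtain ⟨b, hb⟩ := T.exU
  obtain ⟨c, hc⟩ := T.exV
  have hq := T.q8
  have iH : Fin sH := ⟨0, by omega⟩
  have iU : Fin sU := ⟨0, by omega⟩
  have iV : Fin sV := ⟨0, by omega⟩
  -- the decomposition
  set W : Finset (IrrCharacter G) := Finset.univ.image EV.θ with hW
  set X := (({trivialChar G, St} : Finset (IrrCharacter G)) ∪ Finset.univ.image T.EH.θ ∪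
    Finset.univ.image T.EU.θ ∪ W)ᶜ with hX
  have hdec : ∀ f : IrrCharacter G → ℤ, ∑ χ, f χ = f (trivialChar G) + f St + ∑ i, f (T.EH.θ i) +
      ∑ i, f (T.EU.θ i) + ∑ j, f (EV.θ j) + ∑ χ ∈ X, f χ := by
    intro f
    rw [sum_decomp T.EH.θ T.EH.inj T.EU.θ T.EU.inj {trivialChar G, St} W ?_ ?_ ?_ ?_ f,
      Finset.sum_pair hst.ne_triv.symm, hW, Finset.sum_image fun i _ j _ h => EV.inj h]
    · intro i e
      rcases Finset.mem_insert.1 e with e | e
      · exact T.trivH.1 ⟨i, e⟩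
      · exact hst.not_mem ⟨i, Finset.mem_singleton.1 e⟩
    · intro i e
      rcases Finset.mem_insert.1 e with e | e
      · exact T.trivU.1 ⟨i, e⟩
      · exact hs.notU ⟨i, Finset.mem_singleton.1 e⟩
    · exact fun i j => theta_ne T.EH T.EU T.apHU (by omega) (by omega) i j
    · intro χ hχ
      obtain ⟨j, -, rfl⟩ := Finset.mem_image.1 hχ
      refine ⟨fun e => ?_, fun i => theta_ne T.EH EV T.apHV (by omega) (by omega) i j,
        fun i => theta_ne T.EU EV T.apUV (by omega) (by omega) i j⟩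
      rcases Finset.mem_insert.1 e with e | e
      · exact T'.trivU.1 ⟨j, e⟩
      · exact hs'.notU ⟨j, Finset.mem_singleton.1 e⟩
  have hXn : ∀ χ ∈ X, χ ≠ trivialChar G ∧ χ ≠ St ∧ χ ∉ Set.range T.EH.θ ∧
      χ ∉ Set.range T.EU.θ ∧ χ ∉ Set.range EV.θ := by
    intro χ hχ
    simp only [hX, hW, Finset.mem_compl, Finset.mem_union, Finset.mem_insert, Finset.mem_singleton,
      Finset.mem_image, Finset.mem_univ, true_and, not_or, not_exists] at hχ
    exact ⟨hχ.1.1.1.1, hχ.1.1.1.2, fun ⟨i, e⟩ => hχ.1.1.2 i e, fun ⟨i, e⟩ => hχ.1.2 i e,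
      fun ⟨i, e⟩ => hχ.2 i e⟩
  -- the value relations
  have eU : ∑ χ ∈ X, cst T.EU χ ^ 2 = 2 := by
    have h1 := sum_cst_sq T.EU T.hU hb
    rw [hdec, T.trivU.2, hs.cU, (exU iU).1,
      Finset.sum_eq_zero (s := Finset.univ) (f := fun i => cst T.EU (T.EH.θ i) ^ 2) (fun i _ => by
        rw [(dvd_degH_of_large T h i).2]; rfl),
      Finset.sum_eq_zero (s := Finset.univ) (f := fun i => cst T.EU (T.EU.θ i) ^ 2) (fun i _ => by
        rw [cst_theta]; rfl),
      Finset.sum_eq_zero (s := Finset.univ) (f := fun i => cst T.EU (EV.θ i) ^ 2) (fun i _ => by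
        rw [(exV i).2.1]; rfl)] at h1
    push_cast at h1
    linarith
  have eV : ∑ χ ∈ X, cst EV χ ^ 2 = 2 := by
    have h1 := sum_cst_sq EV T.hV hc
    have hz : cst EV (trivialChar G) = 1 := T'.trivU.2
    have hz' : cst EV St = -1 := hs'.cU
    have hz'' : EV.δ = 0 := (exV iV).1
    rw [hdec, hz, hz', hz'',
      Finset.sum_eq_zero (s := Finset.univ) (f := fun i => cst EV (T.EH.θ i) ^ 2) (fun i _ => by
        rw [(dvd_degH_of_large T' h i).2 |> fun e => (e : cst EV (T.EH.θ i) = 0)]; rfl),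
      Finset.sum_eq_zero (s := Finset.univ) (f := fun i => cst EV (T.EU.θ i) ^ 2) (fun i _ => by
        rw [(exU i).2.1]; rfl),
      Finset.sum_eq_zero (s := Finset.univ) (f := fun i => cst EV (EV.θ i) ^ 2) (fun i _ => by
        rw [cst_theta]; rfl)] at h1
    push_cast at h1
    linarith
  have hq1 : (((q - 1 : ℕ) : ℕ) : ℤ) = (q : ℤ) - 1 := by omega
  have eD : ∑ χ ∈ X, deg χ ^ 2 = ((q : ℤ) - 1) ^ 2 * q := by
    have h1 := sum_deg_sq (G := G)
    have hdV : ∀ j, deg (EV.θ j) = (((q - 1) * k : ℕ) : ℤ) := fun j => (exV j).2.2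
    rw [hdec, deg_trivial, hs.degSt,
      Finset.sum_congr rfl (fun i _ => by rw [hD i] :
        ∀ i ∈ Finset.univ, deg (T.EH.θ i) ^ 2 = ((q : ℤ) ^ 2 + 1) ^ 2),
      Finset.sum_congr rfl (fun i _ => by rw [(exU i).2.2] :
        ∀ i ∈ Finset.univ, deg (T.EU.θ i) ^ 2 = (((q - 1) * k' : ℕ) : ℤ) ^ 2),
      Finset.sum_congr rfl (fun j _ => by rw [hdV j] :
        ∀ j ∈ Finset.univ, deg (EV.θ j) ^ 2 = (((q - 1) * k : ℕ) : ℤ) ^ 2),
      Finset.sum_const, Finset.sum_const, Finset.sum_const, T.card] at h1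
    simp only [Finset.card_univ, Fintype.card_fin, nsmul_eq_mul] at h1
    push_cast [Nat.cast_sub (by omega : 1 ≤ q)] at h1
    have e1 : 2 * (sH : ℤ) + 2 = q := by exact_mod_cast T.hsH
    have e2 : 4 * (sU : ℤ) + 1 = k := by exact_mod_cast T.hsU
    have e3 : 4 * (sV : ℤ) + 1 = k' := by exact_mod_cast hsV
    have e4 : (k : ℤ) * k' = (q : ℤ) ^ 2 + 1 := by exact_mod_cast T.prod
    have e5 : (k : ℤ) + k' = 2 * q + 2 := by exact_mod_cast T.sum
    have key : 4 * ∑ χ ∈ X, deg χ ^ 2 = 4 * (((q : ℤ) - 1) ^ 2 * q) := by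
      linear_combination 4 * h1 - 2 * ((q : ℤ) ^ 2 + 1) ^ 2 * e1
        - (((q : ℤ) - 1) * k') ^ 2 * e2 - (((q : ℤ) - 1) * k) ^ 2 * e3
        - ((q : ℤ) - 1) ^ 2 * (((k : ℤ) + k' + 2) * e4 + (((q : ℤ) ^ 2 + 1) - (k + k' + (2 * q + 2))) * e5)
    linarith
  -- each remaining character
  have hx : ∀ χ ∈ X, ∃ e : ℕ, degree χ = (q - 1) * e ∧ 0 < e ∧ e ^ 2 ≤ q ∧
      (cst T.EU χ = 1 ∨ cst T.EU χ = -1) ∧ (degree χ).Coprime k ∧ (degree χ).Coprime k' := by
    intro χ hχ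
    obtain ⟨n1, n2, n3, n4, n5⟩ := hXn χ hχ
    have d1 := dvd_deg_sub_cst T.EH n3
    rw [hst.others χ n1 n2, sub_zero, T.cH] at d1
    obtain ⟨e, he⟩ : (q - 1) ∣ degree χ := Int.natCast_dvd_natCast.1 d1
    have he0 : 0 < e := by
      rcases Nat.eq_zero_or_pos e with rfl | h
      · exact absurd he (by have := degree_pos χ; omega)
      · exact h
    have hle : deg χ ^ 2 ≤ ((q : ℤ) - 1) ^ 2 * q := eD ▸ Finset.single_le_sum
      (f := fun χ => deg χ ^ 2) (fun χ _ => sq_nonneg _) hχ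
    have hesq : e ^ 2 ≤ q := by
      rw [deg, he] at hle
      push_cast [Nat.cast_sub (by omega : 1 ≤ q)] at hle
      rw [mul_pow] at hle
      exact_mod_cast le_of_mul_le_mul_left hle (pow_pos (by
        have : (8 : ℤ) ≤ q := by exact_mod_cast hq
        linarith) 2)
    have big : ∀ {l : ℕ}, 3 * q ≤ 4 * l → (q - 1).Coprime l → l ∣ degree χ → False := by
      intro l hl hco hd
      rw [he] at hd
      have h1 := Nat.le_of_dvd he0 (hco.symm.dvd_of_dvd_mul_left hd)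
      nlinarith
    have pm : ∀ {A : Subgroup G} [Fintype A] {s : ℕ} (E : ExceptionalData A 4 s) {l : ℕ},
        Nat.card A = l → χ ∉ Set.range E.θ → ∑ χ ∈ X, cst E χ ^ 2 = 2 → 3 * q ≤ 4 * l →
        (q - 1).Coprime l → (cst E χ = 1 ∨ cst E χ = -1) ∧ (degree χ).Coprime l := by
      intro A _ s E l hA hn hsum hl hco
      have hz0 : cst E χ ≠ 0 := fun h0 => by
        have := dvd_deg_sub_cst E hn
        rw [h0, sub_zero, hA] at this
        exact big hl hco (Int.natCast_dvd_natCast.1 this)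
      have hz2 : cst E χ ^ 2 ≤ 2 := hsum ▸ Finset.single_le_sum
        (f := fun χ => cst E χ ^ 2) (fun χ _ => sq_nonneg _) hχ
      have hz : cst E χ = 1 ∨ cst E χ = -1 := by
        obtain ⟨h1, h2⟩ := int_le_of_sq_le hz2 (c := 1) (by norm_num) zero_le_one
        omega
      refine ⟨hz, coprime_of_unit hz ?_⟩
      have := dvd_deg_sub_cst E hn
      rwa [hA] at this
    have p1 := pm T.EU T.cU n4 eU hk (coprime_pred T.qeven T.q8 T.prod)
    have p2 := pm EV T.cV n5 eV hk' (coprime_pred T.qeven T.q8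
      (by rw [Nat.mul_comm]; exact T.prod : k' * k = q ^ 2 + 1))
    exact ⟨e, he, he0, hesq, p1.1, p1.2, p2.2⟩
  have hXc : X.card = 2 := by
    have : ∑ χ ∈ X, cst T.EU χ ^ 2 = ∑ χ ∈ X, (1 : ℤ) := Finset.sum_congr rfl fun χ hχ => by
      obtain ⟨-, -, -, -, h | h, -⟩ := hx χ hχ <;> rw [h] <;> norm_num
    rw [this, Finset.sum_const, nsmul_eq_mul, mul_one] at eU
    exact_mod_cast eU
  have hkodd : ¬ 2 ∣ k := by have := T.hsU; omega
  have hkodd' : ¬ 2 ∣ k' := by omega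
  have hqodd : ¬ 2 ∣ q - 1 := by have := T.qeven; omega
  have hdeg : ∀ {χ : IrrCharacter G} {d : ℕ}, deg χ = (d : ℤ) → degree χ = d := degree_eq_of_deg
  refine ⟨fun χ h2 => ?_, ⟨T.EH.θ iH, hdeg (by push_cast; exact hD iH)⟩,
    ⟨EV.θ iV, hdeg (exV iV).2.2⟩, ⟨T.EU.θ iU, hdeg (exU iU).2.2⟩, ?_⟩
  · by_cases hχ : χ ∈ X
    · obtain ⟨e, -, -, -, -, c1, c2⟩ := hx χ hχ
      rw [← T.prod]
      exact c1.mul_right c2
    simp only [hX, hW, Finset.mem_compl, not_not, Finset.mem_union, Finset.mem_insert,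
      Finset.mem_singleton, Finset.mem_image, Finset.mem_univ, true_and] at hχ
    have hodd : ∀ {m n : ℕ}, ¬ 2 ∣ m → ¬ 2 ∣ n → ¬ 2 ∣ m * n := fun hm hn hd =>
      (Nat.prime_two.dvd_mul.1 hd).elim hm hn
    rcases hχ with (((rfl | rfl) | ⟨i, rfl⟩) | ⟨i, rfl⟩) | ⟨i, rfl⟩
    · exact absurd h2 (by rw [hdeg (d := 1) (by simp [deg_trivial])]; norm_num)
    · rw [hdeg (d := q ^ 2) (by push_cast; exact hs.degSt)]
      exact (Nat.coprime_self_add_right).2 (Nat.coprime_one_right _)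
    · rw [hdeg (d := q ^ 2 + 1) (by push_cast; exact hD i)] at h2
      have := dvd_pow T.qeven two_ne_zero
      omega
    · rw [hdeg (exU i).2.2] at h2
      exact absurd h2 (hodd hqodd hkodd')
    · rw [hdeg (exV i).2.2] at h2
      exact absurd h2 (hodd hqodd hkodd)
  · by_contra hno
    push Not at hno
    obtain ⟨x, y, hxy, hXxy⟩ := Finset.card_eq_two.1 hXc
    rw [hXxy, Finset.sum_pair hxy] at eD
    obtain ⟨e, he, -, -⟩ := hx x (by rw [hXxy]; simp)
    obtain ⟨e', he', -, -⟩ := hx y (by rw [hXxy]; simp)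
    have oe : ∀ {χ : IrrCharacter G} {e : ℕ}, degree χ = (q - 1) * e → ¬ 2 ∣ e := fun {χ e} he hd =>
      hno χ (he ▸ hd.mul_left _) (he ▸ dvd_mul_right _ _)
    have o1 := oe he
    have o2 := oe he'
    rw [deg, deg, he, he'] at eD
    push_cast [Nat.cast_sub (by omega : 1 ≤ q)] at eD
    have hsum2 : ((e : ℤ) ^ 2 + (e' : ℤ) ^ 2) = q := by
      have hne : ((q : ℤ) - 1) ^ 2 ≠ 0 := pow_ne_zero _ (by omega)
      exact mul_left_cancel₀ hne (by linear_combination eD)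
    obtain ⟨c, hc⟩ := hq8
    have h3 : e ^ 2 + e' ^ 2 = 8 * c := by rw [← hc]; exact_mod_cast hsum2
    obtain ⟨u, rfl⟩ : ∃ u, e = 2 * u + 1 := ⟨e / 2, by omega⟩
    obtain ⟨v, rfl⟩ : ∃ v, e' = 2 * v + 1 := ⟨e' / 2, by omega⟩
    have h4 : 4 * (u * u + u + v * v + v) + 2 = 8 * c := by rw [← h3]; ring
    omega

end Cfsg.Agent.SZ
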