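/-
Suzuki groups: a non-trivial complex representation has dimension at least `2^m (q - 1)`.
-/
import Cfsg.Agent.Lib.Sz.Sylow

set_option autoImplicit false

namespace Cfsg.Agent.SZ

open Cfsg Matrix
open scoped Pointwise

variable {F : Type*} [Field F] [Fintype F] {m : ℕ}

/-- Eigenvectors for distinct characters are independent. -/
theorem linearIndependent_of_addChar {A : Type*} [AddCommGroup A] [Finite A] {M : Type*}
    [AddCommGroup M] [Module ℂ M] {ι : Type*} (ψ : ι → AddChar A ℂ) (hψ : Function.Injective ψ)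
    (P : ι → M) (hP : ∀ i, P i ≠ 0) (L : A → M →ₗ[ℂ] M)
    (hL : ∀ c i, L c (P i) = ψ i c • P i) : LinearIndependent ℂ P := by
  rw [linearIndependent_iff']
  intro s g hg i hi
  by_contra hne
  obtain ⟨φ, hφ⟩ : ∃ φ : Module.Dual ℂ M, φ (P i) ≠ 0 := by
    by_contra hall
    push Not at hall
    exact hP i ((Module.forall_dual_apply_eq_zero_iff ℂ _).1 hall)
  have key := linearIndependent_iff'.1 ((AddChar.linearIndependent A ℂ).comp ψ hψ) s
    (fun j => g j * φ (P j))
  have h0 : ∑ j ∈ s, (g j * φ (P j)) • (((fun x : AddChar A ℂ => (x : A → ℂ)) ∘ ψ) j) = 0 := by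
    funext c
    have := congrArg (fun v => φ (L c v)) hg
    simp only [map_sum, map_smul, hL, map_zero, smul_eq_mul] at this
    rw [Finset.sum_apply, Pi.zero_apply, ← this]
    refine Finset.sum_congr rfl fun j _ => ?_
    simp only [Function.comp_apply, Pi.smul_apply, smul_eq_mul]
    ring
  exact mul_ne_zero hne hφ (key h0 i hi)

theorem finrank_ge (hm : 1 ≤ m) (hF : Fintype.card F = 2 ^ (2 * m + 1)) {V : Type*} [AddCommGroup V]
    [Module ℂ V] [FiniteDimensional ℂ V] (ρ : Representation ℂ (Sz F m) V)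
    (hne : ∃ g, ρ g ≠ 1) : 2 ^ m * (2 ^ (2 * m + 1) - 1) ≤ Module.finrank ℂ V := by
  classical
  haveI := isSimple hm hF
  have hinj : ∀ g, ρ g = 1 → g = 1 := by
    intro g hg
    let K : Subgroup (Sz F m) :=
      { carrier := {x | ρ x = 1}
        mul_mem' := fun {a b} (ha : ρ a = 1) (hb : ρ b = 1) => by
          show ρ (a * b) = 1; rw [map_mul, ha, hb, one_mul]
        one_mem' := map_one ρ
        inv_mem' := fun {a} (ha : ρ a = 1) => by
          show ρ a⁻¹ = 1
          calc ρ a⁻¹ = ρ a⁻¹ * ρ a := by rw [ha, mul_one]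
            _ = 1 := by rw [← map_mul, inv_mul_cancel, map_one] }
    haveI : K.Normal := ⟨fun x (hx : ρ x = 1) y => by
      show ρ (y * x * y⁻¹) = 1
      rw [map_mul, map_mul, hx, mul_one, ← map_mul, mul_inv_cancel, map_one]⟩
    rcases Subgroup.Normal.eq_bot_or_eq_top (H := K) inferInstance with h | h
    · exact (Subgroup.mem_bot (G := Sz F m)).1 (h ▸ (show g ∈ K from hg))
    · obtain ⟨x, hx⟩ := hne
      exact absurd (show x ∈ K from h ▸ Subgroup.mem_top x) hx
  -- the centre of the Sylow subgroup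
  let π : F → Module.End ℂ V := fun b => ρ (tS hF 0 b)
  have hπ : ∀ b c, π b * π c = π (b + c) := fun b c => by
    show ρ _ * ρ _ = ρ _
    rw [← map_mul]
    congr 1
    apply Subtype.ext
    show T m (0 : F) b * T m 0 c = T m 0 (b + c)
    rw [T_mul hF]; simp
  have hπ0 : ∀ v, π 0 v = v := fun v => by
    show ρ (tS hF 0 0) v = v
    rw [show tS hF (0 : F) 0 = 1 from Subtype.ext T_zero, map_one, Module.End.one_apply]
  let W : AddChar F ℂ → Submodule ℂ V := fun χ =>
    ⨅ b, LinearMap.ker (π b - χ b • (1 : Module.End ℂ V))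
  have hW : ∀ χ v, v ∈ W χ ↔ ∀ b, π b v = χ b • v := fun χ v => by
    simp [W, sub_eq_zero]
  -- some non-trivial character occurs
  obtain ⟨χ, hχ1, hχ⟩ : ∃ χ : AddChar F ℂ, χ ≠ 1 ∧ W χ ≠ ⊥ := by
    by_contra hall
    push Not at hall
    have hfix : ∀ b v, π b v = v := by
      intro c v
      let w : AddChar F ℂ → V := fun χ => ∑ b, χ (-b) • π b v
      have hw : ∀ χ, w χ ∈ W χ := by
        intro χ
        rw [hW]
        intro c
        show π c (∑ b, χ (-b) • π b v) = χ c • ∑ b, χ (-b) • π b v
        rw [map_sum, Finset.smul_sum]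
        refine Fintype.sum_equiv (Equiv.addLeft c) _ _ fun b => ?_
        rw [map_smul, ← Module.End.mul_apply, hπ, smul_smul, ← AddChar.map_add_eq_mul]
        simp
      have hzero : ∀ χ, χ ≠ 1 → w χ = 0 := fun χ h => by
        have := hw χ
        rwa [hall χ h, Submodule.mem_bot] at this
      have hsum : (Fintype.card F : ℂ) • v = w 1 := by
        rw [← Finset.sum_eq_single (s := Finset.univ) (f := w) (1 : AddChar F ℂ)
          (fun χ _ h => hzero χ h) (fun h => absurd (Finset.mem_univ _) h)]
        show _ = ∑ χ : AddChar F ℂ, ∑ b, χ (-b) • π b v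
        rw [Finset.sum_comm, Fintype.sum_eq_single (0 : F) fun b hb => ?_]
        · simp [hπ0, ← Finset.sum_smul, AddChar.card_eq, Nat.cast_smul_eq_nsmul]
        · rw [← Finset.sum_smul, AddChar.sum_apply_eq_zero_iff_ne_zero.2 (neg_ne_zero.2 hb), zero_smul]
      have hc := (hW _ _).1 (hw 1) c
      rw [← hsum, map_smul] at hc
      simp at hc
      exact hc
    have h1 : tS hF (0 : F) 1 = 1 := hinj _ (LinearMap.ext fun v => by simpa [π] using hfix 1 v)
    exact one_ne_zero (α := F) (T_inj ((congrArg Subtype.val h1).trans T_zero.symm)).2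
  have hprim : χ.IsPrimitive := AddChar.IsPrimitive.of_ne_one hχ1
  have hshift : Function.Injective χ.mulShift := AddChar.to_mulShift_inj_of_isPrimitive hprim
  set d := Module.finrank ℂ (W χ) with hd
  -- all non-trivial characters occur equally often
  have hdim : ∀ γ : Fˣ, d ≤ Module.finrank ℂ (W (χ.mulShift (γ : F))) := by
    intro γ
    obtain ⟨u, hu⟩ : ∃ u : Fˣ, th m (u : F) * γ = 1 := by
      obtain ⟨s, hs⟩ := Finite.injective_iff_surjective.1 (fun x y h => th_inj (m := m) hF h) ((γ : F)⁻¹)
      have hs0 : s ≠ 0 := fun e => γ.ne_zero (by simpa [e] using hs.symm)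
      exact ⟨Units.mk0 s hs0, by rw [Units.val_mk0, hs, inv_mul_cancel₀ γ.ne_zero]⟩
    have hmap : (W χ).map (ρ (hS hF u)) ≤ W (χ.mulShift (γ : F)) := by
      rintro _ ⟨v, hv, rfl⟩
      rw [hW]
      intro b
      show ρ (tS hF 0 b) (ρ (hS hF u) v) = _
      have e : tS hF 0 b * hS hF u = hS hF u * tS hF 0 ((γ : F) * b) := by
        have h := mul_inv_eq_iff_eq_mul.1 (hS_conj_tS hF u 0 ((γ : F) * b))
        rw [mul_zero, ← mul_assoc (th m (u : F)), hu, one_mul] at h
        rw [h]
      rw [← Module.End.mul_apply, ← map_mul, e, map_mul, Module.End.mul_apply,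
        show ρ (tS hF 0 ((γ : F) * b)) v = χ ((γ : F) * b) • v from (hW _ _).1 hv _, map_smul,
        AddChar.mulShift_apply]
    refine le_trans (le_of_eq ?_) (Submodule.finrank_mono hmap)
    have hi : Function.Injective (ρ (hS hF u)) := fun x y h => by
      have := congrArg (ρ (hS hF u)⁻¹) h
      rwa [← Module.End.mul_apply, ← Module.End.mul_apply, ← map_mul, inv_mul_cancel, map_one] at this
    rw [hd]
    exact (Submodule.equivMapOfInjective _ hi (W χ)).finrank_eq
  -- the eigenspaces are independent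
  have hsum : Fintype.card Fˣ * d ≤ Module.finrank ℂ V := by
    let Φ : (Π γ : Fˣ, W (χ.mulShift (γ : F))) →ₗ[ℂ] V :=
      ∑ γ : Fˣ, (W (χ.mulShift (γ : F))).subtype.comp
        (LinearMap.proj (R := ℂ) (φ := fun γ : Fˣ => W (χ.mulShift (γ : F))) γ)
    have hΦ : Function.Injective Φ := by
      rw [← LinearMap.ker_eq_bot, LinearMap.ker_eq_bot']
      intro v hv
      simp [Φ] at hv
      by_contra hv0
      obtain ⟨γ₀, hγ₀⟩ := Function.ne_iff.1 hv0
      let ι := {γ : Fˣ // v γ ≠ 0}
      have hli := linearIndependent_of_addChar (fun i : ι => χ.mulShift ((i : Fˣ) : F))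
        (fun i j h => Subtype.ext (Units.ext (hshift h))) (fun i : ι => ((v i.1 : W _) : V))
        (fun i e => i.2 (Subtype.ext e)) π
        (fun c i => (hW _ _).1 (v i.1).2 c)
      have h1 := Fintype.linearIndependent_iff.1 hli (fun _ => 1) ?_ ⟨γ₀, hγ₀⟩
      · exact one_ne_zero h1
      · simp only [one_smul]
        rw [← hv, ← Finset.sum_subtype (Finset.univ.filter fun γ => v γ ≠ 0) (fun x => by simp)
          (fun γ => ((v γ : W _) : V))]
        exact Finset.sum_subset (Finset.subset_univ _) fun γ _ h => by simpa using h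
    refine le_trans ?_ (LinearMap.finrank_le_finrank_of_injective hΦ)
    rw [Module.finrank_pi_fintype]
    calc Fintype.card Fˣ * d = ∑ _γ : Fˣ, d := by simp
      _ ≤ _ := Finset.sum_le_sum fun γ _ => hdim γ
  -- each eigenspace is large
  have hbig : 2 ^ (2 * m) ≤ d * d := by
    obtain ⟨γ, hγ⟩ : ∃ γ : F, ∀ y, χ (th m y) = χ (γ * y) := by
      let χ' : AddChar F ℂ := ⟨fun y => χ (th m y), by simp, fun a b => by
        rw [th_add hF, AddChar.map_add_eq_mul]⟩
      have hb := (Fintype.bijective_iff_injective_and_card χ.mulShift).2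
        ⟨hshift, (AddChar.card_eq (α := F)).symm⟩
      obtain ⟨γ, hγ⟩ := hb.2 χ'
      refine ⟨γ, fun y => ?_⟩
      rw [← AddChar.mulShift_apply, hγ]
      rfl
    let f : F → F := fun b => b ^ 2 + γ * b
    set E := Finset.univ.image f with hE
    have hcard : Fintype.card F ≤ 2 * E.card := by
      rw [mul_comm]
      refine (Finset.card_le_mul_card_image (s := Finset.univ) (f := f) 2 fun e he => ?_).trans
        (le_of_eq (mul_comm _ _))
      obtain ⟨b0, -, rfl⟩ := Finset.mem_image.1 he
      refine le_trans (Finset.card_le_card (t := {b0, b0 + γ}) ?_) (Finset.card_le_two)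
      intro b hb
      simp [f] at hb
      have h3 : (b - b0) * (b - (b0 + γ)) = 0 := by
        linear_combination hb + (b0 ^ 2 + γ * b0 - b * b0 - γ * b) * two_zero hF
      rcases mul_eq_zero.1 h3 with h | h <;> simp [sub_eq_zero.1 h]
    have hfib : ∀ e : E, ∃ b, f b = e.1 := fun e => by
      obtain ⟨b, -, hb⟩ := Finset.mem_image.1 e.2
      exact ⟨b, hb⟩
    choose rep hrep using hfib
    -- the operators on the eigenspace
    have hinv : ∀ (a : F) (v : V), v ∈ W χ → ρ (tS hF a 0) v ∈ W χ := by
      intro a v hv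
      rw [hW]
      intro b
      have e : tS hF 0 b * tS hF a 0 = tS hF a 0 * tS hF 0 b :=
        ((tS_comm_iff hF 0 b a 0).2 (by simp))
      show ρ (tS hF 0 b) (ρ (tS hF a 0) v) = _
      rw [← Module.End.mul_apply, ← map_mul, e, map_mul, Module.End.mul_apply,
        show ρ (tS hF 0 b) v = χ b • v from (hW _ _).1 hv b, map_smul]
    have hinv' : ∀ (a : F) (v : V), v ∈ W χ → ρ (tS hF a (th m a * a)) v ∈ W χ := by
      intro a v hv
      have e : tS hF a (th m a * a) = tS hF 0 (th m a * a) * tS hF a 0 := by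
        apply Subtype.ext
        show T m a (th m a * a) = T m 0 _ * T m a 0
        rw [T_mul hF]; simp
      rw [e, map_mul, Module.End.mul_apply]
      show π (th m a * a) (ρ (tS hF a 0) v) ∈ _
      rw [(hW _ _).1 (hinv a v hv)]
      exact Submodule.smul_mem _ _ (hinv a v hv)
    let P : F → Module.End ℂ (W χ) := fun a => (ρ (tS hF a 0)).restrict (hinv a)
    let P' : F → Module.End ℂ (W χ) := fun a => (ρ (tS hF a (th m a * a))).restrict (hinv' a)
    let L : F → Module.End ℂ (W χ) →ₗ[ℂ] Module.End ℂ (W χ) := fun c =>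
      (LinearMap.mulLeft ℂ (P c)).comp (LinearMap.mulRight ℂ (P' c))
    haveI : Nontrivial (W χ) := Submodule.nontrivial_iff_ne_bot.2 hχ
    have hPne : ∀ a, P a ≠ 0 := by
      intro a h
      obtain ⟨v, hv⟩ := exists_ne (0 : W χ)
      apply hv
      have h1 : (ρ (tS hF a 0)) v = 0 := congrArg (fun x => ((x v : W χ) : V)) h
      have h2 := congrArg (ρ (tS hF a 0)⁻¹) h1
      rw [← Module.End.mul_apply, ← map_mul, inv_mul_cancel, map_one, map_zero] at h2
      exact Subtype.ext h2
    have hli := linearIndependent_of_addChar (fun e : E => χ.mulShift (e : F))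
      (fun i j h => Subtype.ext (hshift h)) (fun e : E => P (th m (rep e))) (fun e => hPne _) L ?_
    · have h1 := hli.fintype_card_le_finrank
      rw [Fintype.card_coe, Module.finrank_linearMap, ← hd] at h1
      have : 2 ^ (2 * m + 1) ≤ 2 * E.card := hF ▸ hcard
      rw [pow_succ] at this
      omega
    · intro c e
      set b := rep e with hb
      refine LinearMap.ext fun v => Subtype.ext ?_
      show ρ (tS hF c 0) (ρ (tS hF (th m b) 0) (ρ (tS hF c (th m c * c)) v)) =
        χ.mulShift (e : F) c • ρ (tS hF (th m b) 0) v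
      rw [← Module.End.mul_apply, ← Module.End.mul_apply, ← map_mul, ← map_mul]
      have e1 : tS hF c 0 * tS hF (th m b) 0 * tS hF c (th m c * c) =
          tS hF 0 (th m (th m b) * c + th m c * th m b) * tS hF (th m b) 0 := by
        apply Subtype.ext
        show T m c 0 * T m (th m b) 0 * T m c (th m c * c) = T m 0 _ * T m (th m b) 0
        rw [T_mul hF, T_mul hF, T_mul hF]
        congr 1
        · linear_combination c * two_zero hF
        · simp [th_add hF]
          linear_combination (th m c * c) * two_zero hF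
      rw [e1, map_mul, Module.End.mul_apply]
      show π _ (ρ (tS hF (th m b) 0) v) = _
      rw [(hW _ _).1 (hinv _ _ v.2), AddChar.mulShift_apply, th_th hF, AddChar.map_add_eq_mul,
        ← th_mul, hγ, ← AddChar.map_add_eq_mul, show (e : F) = f b from (hrep e).symm]
      congr 2
      simp only [f]
      ring
  have hd' : 2 ^ m ≤ d := by
    by_contra hlt
    push Not at hlt
    rw [show 2 * m = m + m by omega, pow_add] at hbig
    nlinarith
  rw [Fintype.card_units, hF] at hsum
  calc 2 ^ m * (2 ^ (2 * m + 1) - 1) ≤ d * (2 ^ (2 * m + 1) - 1) := Nat.mul_le_mul_right _ hd'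
    _ ≤ _ := by rw [mul_comm]; exact hsum

end Cfsg.Agent.SZ
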