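import Cfsg.Agent.Lib.Sz.DegreesLarge
import Cfsg.Agent.Lib.Char.ClassSum

/-!
# Products of two conjugates: character bounds from exceptional characters
-/

set_option autoImplicit false
set_option linter.unusedSectionVars false

namespace Cfsg.Agent.SZ

open scoped ComplexConjugate
open Cfsg Cfsg.Agent.Char Cfsg.Agent.OddOrder

/-- `g` is a product of two conjugates of `x`. -/
def Cover {G : Type*} [Group G] (x g : G) : Prop := ∃ u v : G, g = u * x * u⁻¹ * (v * x * v⁻¹)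

theorem Cover.of_conj_left {G : Type*} [Group G] {x g c : G} (h : Cover (c * x * c⁻¹) g) :
    Cover x g := by
  obtain ⟨u, v, rfl⟩ := h
  exact ⟨u * c, v * c, by group⟩

theorem Cover.of_conj_right {G : Type*} [Group G] {x g c : G} (h : Cover x (c * g * c⁻¹)) :
    Cover x g := by
  obtain ⟨u, v, h⟩ := h
  refine ⟨c⁻¹ * u, c⁻¹ * v, ?_⟩
  calc g = c⁻¹ * (c * g * c⁻¹) * c := by group
    _ = _ := by rw [h]; group

variable {G : Type*} [Group G] [Fintype G]

theorem norm_deg (χ : IrrCharacter G) : ‖χ.1 1‖ = (deg χ : ℝ) := by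
  rw [apply_one_eq_degree, Complex.norm_natCast, deg, Int.cast_natCast]

theorem deg_pos_real (χ : IrrCharacter G) : (0 : ℝ) < (deg χ : ℝ) := Int.cast_pos.2 (deg_pos χ)

theorem sum_norm_sq (x : G) : ∑ χ : IrrCharacter G, ‖χ.1 x‖ ^ 2 =
    (Nat.card (Subgroup.centralizer ({x} : Set G)) : ℝ) := by
  classical
  have h := sum_irr_mul_conj x x
  rw [if_pos (IsConj.refl x)] at h
  simp only [Complex.mul_conj'] at h
  exact_mod_cast h

theorem norm_sq_le (χ : IrrCharacter G) (x : G) :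
    ‖χ.1 x‖ ^ 2 ≤ (Nat.card (Subgroup.centralizer ({x} : Set G)) : ℝ) := by
  rw [← sum_norm_sq]
  exact Finset.single_le_sum (f := fun χ : IrrCharacter G => ‖χ.1 x‖ ^ 2)
    (fun χ _ => sq_nonneg _) (Finset.mem_univ χ)

theorem sum_norm_sq_erase [DecidableEq (IrrCharacter G)] (x : G) :
    ∑ χ ∈ Finset.univ.erase (trivialChar G), ‖χ.1 x‖ ^ 2 =
      (Nat.card (Subgroup.centralizer ({x} : Set G)) : ℝ) - 1 := by
  rw [← sum_norm_sq, ← Finset.add_sum_erase _ _ (Finset.mem_univ (trivialChar G)),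
    show (trivialChar G).1 x = 1 from rfl, norm_one]
  ring

theorem cover_of_sum_lt [DecidableEq (IrrCharacter G)] {x g : G}
    (h : ∑ χ ∈ Finset.univ.erase (trivialChar G), ‖χ.1 x‖ ^ 2 * ‖χ.1 g‖ / (deg χ : ℝ) < 1) :
    Cover x g := by
  have hc := card_conj_mul_conj_eq x x g
  by_contra hno
  haveI : IsEmpty {p : G × G // p.1 * x * p.1⁻¹ * (p.2 * x * p.2⁻¹) = g} :=
    ⟨fun p => hno ⟨p.1.1, p.1.2, p.2.symm⟩⟩
  rw [Nat.card_of_isEmpty (α := {p : G × G // p.1 * x * p.1⁻¹ * (p.2 * x * p.2⁻¹) = g}),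
    Nat.cast_zero, eq_comm, mul_eq_zero] at hc
  have h0 := hc.resolve_left card_ne_zero
  rw [← Finset.add_sum_erase _ _ (Finset.mem_univ (trivialChar G))] at h0
  simp only [show ∀ y : G, (trivialChar G).1 y = 1 from fun y => rfl, mul_one, div_one] at h0
  have h1 : ‖∑ χ ∈ Finset.univ.erase (trivialChar G), χ.1 x * χ.1 x * χ.1 g⁻¹ / χ.1 1‖ < 1 := by
    refine lt_of_le_of_lt (norm_sum_le _ _) (lt_of_le_of_lt (le_of_eq ?_) h)
    refine Finset.sum_congr rfl fun χ _ => ?_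
    rw [norm_div, norm_mul, norm_mul, norm_deg, ← IsCharacter.conj_apply (irr_isCharacter χ),
      Complex.norm_conj, sq]
  rw [show ∑ χ ∈ Finset.univ.erase (trivialChar G), χ.1 x * χ.1 x * χ.1 g⁻¹ / χ.1 1 = -1 by
    linear_combination h0] at h1
  simp at h1

/-- If `χ x ≠ 0` forces `N ‖χ g‖ ≤ deg χ`, with `|C(x)| ≤ N`. -/
theorem cover_of_forall {x g : G} {N : ℕ} (hN : Nat.card (Subgroup.centralizer ({x} : Set G)) ≤ N)
    (h : ∀ χ : IrrCharacter G, χ ≠ trivialChar G → χ.1 x ≠ 0 →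
      (N : ℝ) * ‖χ.1 g‖ ≤ (deg χ : ℝ)) : Cover x g := by
  classical
  have hC : 0 < Nat.card (Subgroup.centralizer ({x} : Set G)) := Nat.card_pos
  have hN0 : (0 : ℝ) < N := Nat.cast_pos.2 (lt_of_lt_of_le hC hN)
  refine cover_of_sum_lt (lt_of_le_of_lt (b := ∑ χ ∈ Finset.univ.erase (trivialChar G),
    ‖χ.1 x‖ ^ 2 * (1 / (N : ℝ))) (Finset.sum_le_sum fun χ hχ => ?_) ?_)
  · rcases eq_or_ne (χ.1 x) 0 with h0 | h0
    · rw [h0, norm_zero]; simp
    have hd := deg_pos_real χ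
    rw [mul_div_assoc]
    refine mul_le_mul_of_nonneg_left ?_ (sq_nonneg _)
    rw [div_le_div_iff₀ hd hN0, one_mul, mul_comm]
    exact h χ (Finset.ne_of_mem_erase hχ) h0
  · rw [← Finset.sum_mul, sum_norm_sq_erase, mul_one_div, div_lt_one hN0]
    have := (Nat.cast_le (α := ℝ)).2 hN
    linarith

variable {A : Subgroup G} {e s : ℕ} (E : ExceptionalData A e s)

theorem cst_sq_erase_le [DecidableEq (IrrCharacter G)] [Fintype A] (hA : IsSelfCent A) (hs : 2 ≤ s)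
    (he : 0 < e) (hcard : s * e = Nat.card A - 1) {a : A} (ha : a ≠ 1) :
    ∑ χ ∈ Finset.univ.erase (trivialChar G), cst E χ ^ 2 ≤ (e : ℤ) - 1 := by
  have h := sum_cst_sq E hA ha
  rw [← Finset.add_sum_erase _ _ (Finset.mem_univ (trivialChar G)),
    cst_trivial E hs he hcard ha] at h
  have := delta_nonneg E hs
  linarith

theorem cst_sq_le_one [Fintype A] (hA : IsSelfCent A) (hs : 2 ≤ s) (he : 0 < e) (he4 : e ≤ 4)
    (hcard : s * e = Nat.card A - 1) {a : A} (ha : a ≠ 1) {χ : IrrCharacter G}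
    (hχ : χ ≠ trivialChar G) : cst E χ ^ 2 ≤ 1 := by
  classical
  have h := cst_sq_erase_le E hA hs he hcard ha
  have h1 : cst E χ ^ 2 ≤ 3 := (Finset.single_le_sum (f := fun χ => cst E χ ^ 2)
    (fun χ _ => sq_nonneg _) (Finset.mem_erase.2 ⟨hχ, Finset.mem_univ χ⟩)).trans
    (h.trans (by omega))
  obtain ⟨h2, h3⟩ := int_le_of_sq_le h1 (c := 1) (by norm_num) zero_le_one
  nlinarith

/-- Values on a torus element are small against the degree. -/
theorem mul_norm_le_deg [Fintype A] (hA : IsSelfCent A) (hs : 2 ≤ s) (he : 0 < e) (he4 : e ≤ 4)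
    (hcard : s * e = Nat.card A - 1) {g : G} (hg : g ∈ A) (hg1 : g ≠ 1) {N D : ℕ}
    (hD : ∀ i, deg (E.θ i) = (D : ℤ)) (hND : N ^ 2 * Nat.card A ≤ D ^ 2)
    (hmin : ∀ χ : IrrCharacter G, χ ≠ trivialChar G → (N : ℤ) ≤ deg χ)
    (χ : IrrCharacter G) (hχ : χ ≠ trivialChar G) : (N : ℝ) * ‖χ.1 g‖ ≤ (deg χ : ℝ) := by
  classical
  have ha : (⟨g, hg⟩ : A) ≠ 1 := fun h => hg1 (congrArg Subtype.val h)
  by_cases hm : χ ∈ Set.range E.θ
  · obtain ⟨i, rfl⟩ := hm
    have h1 := norm_sq_le (E.θ i) g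
    rw [hA g hg hg1] at h1
    rw [hD i, Int.cast_natCast]
    refine le_of_pow_le_pow_left₀ two_ne_zero (Nat.cast_nonneg D) ?_
    rw [mul_pow]
    calc (N : ℝ) ^ 2 * ‖(E.θ i).1 g‖ ^ 2 ≤ (N : ℝ) ^ 2 * Nat.card A :=
          mul_le_mul_of_nonneg_left h1 (sq_nonneg _)
      _ ≤ (D : ℝ) ^ 2 := by exact_mod_cast hND
  · have hc : χ.1 g = (cst E χ : ℂ) := cst_of_not E hm ⟨g, hg⟩ ha
    have h1 : |cst E χ| ≤ 1 := (sq_le_one_iff_abs_le_one _).1 (cst_sq_le_one E hA hs he he4 hcard ha hχ)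
    rw [hc, Complex.norm_intCast]
    calc (N : ℝ) * |(cst E χ : ℝ)| ≤ (N : ℝ) * 1 := by
          refine mul_le_mul_of_nonneg_left ?_ (Nat.cast_nonneg N)
          exact_mod_cast h1
      _ ≤ _ := by rw [mul_one]; exact_mod_cast hmin χ hχ

/-- An element of an anisotropic torus covers everything. -/
theorem cover_of_anisotropic {A : Subgroup G} [Fintype A] (E : ExceptionalData A 4 s)
    (hA : IsSelfCent A) (hs : 2 ≤ s) {q D d : ℕ} (hcard : 4 * s + 1 = Nat.card A)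
    (hskq : s * Nat.card A ≤ q ^ 2)
    (hC : ∀ g : G, g ≠ 1 → Nat.card (Subgroup.centralizer ({g} : Set G)) ≤ q ^ 2)
    (hD : ∀ i, deg (E.θ i) = (D : ℤ))
    (hmin : ∀ χ : IrrCharacter G, χ ≠ trivialChar G → (d : ℤ) ≤ deg χ)
    (h1 : 1600 * q ^ 2 * (4 * s) ≤ 121 * D ^ 2) (h2 : 1940 * q < 504 * d)
    {x g : G} (hx : x ∈ A) (hx1 : x ≠ 1) (hg1 : g ≠ 1) : Cover x g := by
  classical
  have hq0 : 0 < q := by
    rcases Nat.eq_zero_or_pos q with h | h
    · subst h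
      have := hC g hg1
      have := Nat.card_pos (α := Subgroup.centralizer ({g} : Set G))
      simp at *
    · exact h
  have ha : (⟨x, hx⟩ : A) ≠ 1 := fun h => hx1 (congrArg Subtype.val h)
  have hsc : s * 4 = Nat.card A - 1 := by omega
  have hd0 : 0 < d := by omega
  have hq' : (0 : ℝ) < q := Nat.cast_pos.2 hq0
  have hd' : (0 : ℝ) < d := Nat.cast_pos.2 hd0
  have hs' : (0 : ℝ) < 4 * (s : ℝ) := by
    have : (0 : ℝ) < s := Nat.cast_pos.2 (by omega)
    linarith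
  have hsumA := sum_norm_sq_erase (G := G) x
  rw [hA x hx hx1, ← hcard] at hsumA
  have hsum3 : (∑ χ ∈ Finset.univ.erase (trivialChar G), (cst E χ : ℝ) ^ 2) ≤ 3 := by
    have h := cst_sq_erase_le E hA hs (by norm_num) hsc ha
    exact_mod_cast h
  have hsumg : (∑ χ ∈ Finset.univ.erase (trivialChar G), ‖χ.1 g‖ ^ 2) ≤ (q : ℝ) ^ 2 := by
    rw [sum_norm_sq_erase]
    have := (Nat.cast_le (α := ℝ)).2 (hC g hg1)
    push_cast at this
    linarith
  have hθ : ∀ i, (s : ℝ) * ‖(E.θ i).1 g‖ ^ 2 ≤ (q : ℝ) ^ 2 := by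
    intro i
    by_cases hc : ∃ c : G, c⁻¹ * g * c ∈ A
    · obtain ⟨c, hc⟩ := hc
      have hcf : (E.θ i).1 g = (E.θ i).1 (c⁻¹ * g * c) := by
        have := IsCharacter.isClassFunction (irr_isCharacter (E.θ i)) g c⁻¹
        rw [inv_inv] at this
        exact this.symm
      have hne : c⁻¹ * g * c ≠ 1 := fun h => hg1 (by
        calc g = c * (c⁻¹ * g * c) * c⁻¹ := by group
          _ = 1 := by rw [h]; group)
      have h := norm_sq_le (E.θ i) (c⁻¹ * g * c)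
      rw [hA _ hc hne, ← hcf] at h
      calc (s : ℝ) * ‖(E.θ i).1 g‖ ^ 2 ≤ (s : ℝ) * Nat.card A :=
            mul_le_mul_of_nonneg_left h (Nat.cast_nonneg s)
        _ ≤ _ := by exact_mod_cast hskq
    · push Not at hc
      calc (s : ℝ) * ‖(E.θ i).1 g‖ ^ 2 = ∑ j, ‖(E.θ j).1 g‖ ^ 2 := by
            rw [Finset.sum_congr rfl fun j _ => by rw [← E.off i j g hc], Finset.sum_const,
              Finset.card_univ, Fintype.card_fin, nsmul_eq_mul]
        _ = ∑ χ ∈ Finset.univ.image E.θ, ‖χ.1 g‖ ^ 2 := by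
            rw [Finset.sum_image fun a _ b _ h => E.inj h]
        _ ≤ ∑ χ : IrrCharacter G, ‖χ.1 g‖ ^ 2 :=
            Finset.sum_le_univ_sum_of_nonneg fun χ => sq_nonneg _
        _ ≤ _ := by
            rw [sum_norm_sq]
            exact_mod_cast hC g hg1
  refine cover_of_sum_lt (lt_of_le_of_lt (b := ∑ χ ∈ Finset.univ.erase (trivialChar G),
    ((11 / 20) / (4 * (s : ℝ)) * ‖χ.1 x‖ ^ 2 + 1 / (d : ℝ) *
      (2 * q / 7 * (cst E χ : ℝ) ^ 2 + 7 / (8 * q) * ‖χ.1 g‖ ^ 2)))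
    (Finset.sum_le_sum fun χ hχ => ?_) ?_)
  · have hχ1 := Finset.ne_of_mem_erase hχ
    have hdeg := deg_pos_real χ
    by_cases hm : χ ∈ Set.range E.θ
    · obtain ⟨i, rfl⟩ := hm
      refine le_add_of_le_of_nonneg ?_ (by positivity)
      rw [mul_div_assoc, mul_comm (‖(E.θ i).1 x‖ ^ 2)]
      refine mul_le_mul_of_nonneg_right ?_ (sq_nonneg _)
      rw [div_le_div_iff₀ hdeg hs', hD i, Int.cast_natCast]
      refine le_of_pow_le_pow_left₀ two_ne_zero (by positivity) ?_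
      have h := mul_le_mul_of_nonneg_left (hθ i) (show (0 : ℝ) ≤ 16 * s by positivity)
      have h1' : (1600 : ℝ) * q ^ 2 * (4 * s) ≤ 121 * D ^ 2 := by exact_mod_cast h1
      rw [mul_pow, mul_pow]
      nlinarith
    · refine le_add_of_nonneg_of_le (by positivity) ?_
      have hc : χ.1 x = (cst E χ : ℂ) := cst_of_not E hm ⟨x, hx⟩ ha
      have hb : (cst E χ : ℝ) ^ 2 ≤ 1 := by
        exact_mod_cast cst_sq_le_one E hA hs (by norm_num) le_rfl hsc ha hχ1
      have hmin' : (d : ℝ) ≤ (deg χ : ℝ) := by exact_mod_cast hmin χ hχ1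
      rw [hc, Complex.norm_intCast, sq_abs]
      set c2 := (cst E χ : ℝ) ^ 2
      set y := ‖χ.1 g‖
      have hy : 0 ≤ y := norm_nonneg _
      have hc2 : 0 ≤ c2 := sq_nonneg _
      calc c2 * y / (deg χ : ℝ) ≤ c2 * y / (d : ℝ) :=
            div_le_div_of_nonneg_left (mul_nonneg hc2 hy) hd' hmin'
        _ = 1 / (d : ℝ) * (c2 * y) := by ring
        _ ≤ _ := by
            refine mul_le_mul_of_nonneg_left ?_ (by positivity)
            have e : c2 * (2 * q / 7 + 7 / (8 * q) * y ^ 2 - y) =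
                c2 * (4 * q - 7 * y) ^ 2 / (56 * q) := by field_simp; ring
            have e0 : 0 ≤ c2 * (2 * q / 7 + 7 / (8 * q) * y ^ 2 - y) := by rw [e]; positivity
            have e1 : c2 * (7 / (8 * q) * y ^ 2) ≤ 1 * (7 / (8 * q) * y ^ 2) :=
              mul_le_mul_of_nonneg_right hb (by positivity)
            nlinarith
  · rw [Finset.sum_add_distrib, ← Finset.mul_sum, ← Finset.mul_sum, Finset.sum_add_distrib,
      ← Finset.mul_sum, ← Finset.mul_sum, hsumA]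
    push_cast
    have t1 : (11 / 20 : ℝ) / (4 * (s : ℝ)) * (4 * (s : ℝ) + 1 - 1) = 11 / 20 := by
      rw [add_sub_cancel_right]
      field_simp
    rw [t1]
    have t2 : 2 * q / 7 * (∑ χ ∈ Finset.univ.erase (trivialChar G), (cst E χ : ℝ) ^ 2) +
        7 / (8 * q) * (∑ χ ∈ Finset.univ.erase (trivialChar G), ‖χ.1 g‖ ^ 2) ≤ 97 * q / 56 := by
      have a1 := mul_le_mul_of_nonneg_left hsum3 (show (0 : ℝ) ≤ 2 * q / 7 by positivity)
      have a2 := mul_le_mul_of_nonneg_left hsumg (show (0 : ℝ) ≤ 7 / (8 * q) by positivity)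
      have a3 : 7 / (8 * (q : ℝ)) * (q : ℝ) ^ 2 = 7 * q / 8 := by field_simp
      linarith
    have t3 : (97 * q / 56 : ℝ) * (1 / d) < 9 / 20 := by
      rw [mul_one_div, div_lt_iff₀ hd']
      have : (1940 : ℝ) * q < 504 * d := by exact_mod_cast h2
      linarith
    have t4 := mul_le_mul_of_nonneg_right t2 (show (0 : ℝ) ≤ 1 / (d : ℝ) by positivity)
    linarith

end Cfsg.Agent.SZ
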