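import Mathlib.Data.Fin.Basic

/-!
# Witness tables for products of two conjugates in the Suzuki group over eight elements

A letter `(0, a, b)` is a translation, `(1, u, _)` a torus element, `(2, _, _)` the involution.
-/

set_option autoImplicit false

namespace Cfsg.Agent.SZ

/-- Words in the generators. -/
abbrev Wd : Type := List (Fin 3 × Fin 8 × Fin 8)

def mulTab : Nat := 2821848294356612419217921029917578219971947684264937521152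

def addTab : Nat := 128103731026666216992906866963913124190149483821082003080

def invTab : Nat := 9272648

def thTab : Nat := 11644808

def z13 : Wd := [(2, 0, 0), (0, 0, 3)]

def z5 : Wd := [(2, 0, 0), (0, 0, 1)]

def reps : List Wd := [
  [(0, 0, 1)],
  [(0, 1, 0)],
  [(0, 1, 1)],
  [(1, 2, 0)],
  [(1, 3, 0)],
  [(1, 4, 0)],
  [(2, 0, 0), (0, 0, 3)],
  [(2, 0, 0), (0, 0, 3), (2, 0, 0), (0, 0, 3)],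
  [(2, 0, 0), (0, 0, 3), (2, 0, 0), (0, 0, 3), (2, 0, 0), (0, 0, 3), (2, 0, 0), (0, 0, 3)],
  [(2, 0, 0), (0, 0, 1)]]

def invIdx : List Nat := [0]

/-- `(e, i, u, v)`: `u e v` is representative `i` and `u v = 1`. -/
def redWit : List (Wd × Nat × Wd × Wd) := [
  ([(0, 0, 1)], 0, [], []),
  ([(0, 0, 2)], 0, [(1, 7, 0)], [(1, 4, 0)]),
  ([(0, 0, 3)], 0, [(1, 2, 0)], [(1, 5, 0)]),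
  ([(0, 0, 4)], 0, [(1, 3, 0)], [(1, 6, 0)]),
  ([(0, 0, 5)], 0, [(1, 4, 0)], [(1, 7, 0)]),
  ([(0, 0, 6)], 0, [(1, 5, 0)], [(1, 2, 0)]),
  ([(0, 0, 7)], 0, [(1, 6, 0)], [(1, 3, 0)]),
  ([(0, 1, 0)], 1, [], []),
  ([(0, 1, 1)], 2, [], []),
  ([(0, 1, 2)], 1, [(0, 6, 5)], [(0, 6, 0)]),
  ([(0, 1, 3)], 2, [(0, 6, 5)], [(0, 6, 0)]),
  ([(0, 1, 4)], 1, [(0, 2, 7)], [(0, 2, 0)]),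
  ([(0, 1, 5)], 2, [(0, 2, 7)], [(0, 2, 0)]),
  ([(0, 1, 6)], 1, [(0, 4, 3)], [(0, 4, 0)]),
  ([(0, 1, 7)], 2, [(0, 4, 3)], [(0, 4, 0)]),
  ([(0, 2, 0)], 1, [(1, 6, 0)], [(1, 3, 0)]),
  ([(0, 2, 1)], 1, [(1, 6, 0), (0, 4, 3)], [(0, 4, 0), (1, 3, 0)]),
  ([(0, 2, 2)], 2, [(1, 6, 0), (0, 5, 4)], [(0, 5, 0), (1, 3, 0)]),
  ([(0, 2, 3)], 2, [(1, 6, 0), (0, 1, 1)], [(0, 1, 0), (1, 3, 0)]),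
  ([(0, 2, 4)], 1, [(1, 6, 0), (0, 1, 1)], [(0, 1, 0), (1, 3, 0)]),
  ([(0, 2, 5)], 1, [(1, 6, 0), (0, 5, 4)], [(0, 5, 0), (1, 3, 0)]),
  ([(0, 2, 6)], 2, [(1, 6, 0), (0, 4, 3)], [(0, 4, 0), (1, 3, 0)]),
  ([(0, 2, 7)], 2, [(1, 6, 0)], [(1, 3, 0)]),
  ([(0, 3, 0)], 1, [(1, 7, 0)], [(1, 4, 0)]),
  ([(0, 3, 1)], 2, [(1, 7, 0), (0, 5, 4)], [(0, 5, 0), (1, 4, 0)]),
  ([(0, 3, 2)], 2, [(1, 7, 0)], [(1, 4, 0)]),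
  ([(0, 3, 3)], 1, [(1, 7, 0), (0, 5, 4)], [(0, 5, 0), (1, 4, 0)]),
  ([(0, 3, 4)], 1, [(1, 7, 0), (0, 1, 1)], [(0, 1, 0), (1, 4, 0)]),
  ([(0, 3, 5)], 2, [(1, 7, 0), (0, 4, 3)], [(0, 4, 0), (1, 4, 0)]),
  ([(0, 3, 6)], 2, [(1, 7, 0), (0, 1, 1)], [(0, 1, 0), (1, 4, 0)]),
  ([(0, 3, 7)], 1, [(1, 7, 0), (0, 4, 3)], [(0, 4, 0), (1, 4, 0)]),
  ([(0, 4, 0)], 1, [(1, 2, 0)], [(1, 5, 0)]),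
  ([(0, 4, 1)], 1, [(1, 2, 0), (0, 2, 7)], [(0, 2, 0), (1, 5, 0)]),
  ([(0, 4, 2)], 2, [(1, 2, 0), (0, 2, 7)], [(0, 2, 0), (1, 5, 0)]),
  ([(0, 4, 3)], 2, [(1, 2, 0)], [(1, 5, 0)]),
  ([(0, 4, 4)], 2, [(1, 2, 0), (0, 3, 2)], [(0, 3, 0), (1, 5, 0)]),
  ([(0, 4, 5)], 2, [(1, 2, 0), (0, 1, 1)], [(0, 1, 0), (1, 5, 0)]),
  ([(0, 4, 6)], 1, [(1, 2, 0), (0, 1, 1)], [(0, 1, 0), (1, 5, 0)]),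
  ([(0, 4, 7)], 1, [(1, 2, 0), (0, 3, 2)], [(0, 3, 0), (1, 5, 0)]),
  ([(0, 5, 0)], 1, [(1, 3, 0)], [(1, 6, 0)]),
  ([(0, 5, 1)], 2, [(1, 3, 0), (0, 2, 7)], [(0, 2, 0), (1, 6, 0)]),
  ([(0, 5, 2)], 2, [(1, 3, 0), (0, 1, 1)], [(0, 1, 0), (1, 6, 0)]),
  ([(0, 5, 3)], 1, [(1, 3, 0), (0, 3, 2)], [(0, 3, 0), (1, 6, 0)]),
  ([(0, 5, 4)], 2, [(1, 3, 0)], [(1, 6, 0)]),
  ([(0, 5, 5)], 1, [(1, 3, 0), (0, 2, 7)], [(0, 2, 0), (1, 6, 0)]),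
  ([(0, 5, 6)], 1, [(1, 3, 0), (0, 1, 1)], [(0, 1, 0), (1, 6, 0)]),
  ([(0, 5, 7)], 2, [(1, 3, 0), (0, 3, 2)], [(0, 3, 0), (1, 6, 0)]),
  ([(0, 6, 0)], 1, [(1, 4, 0)], [(1, 7, 0)]),
  ([(0, 6, 1)], 1, [(1, 4, 0), (0, 2, 7)], [(0, 2, 0), (1, 7, 0)]),
  ([(0, 6, 2)], 1, [(1, 4, 0), (0, 1, 1)], [(0, 1, 0), (1, 7, 0)]),
  ([(0, 6, 3)], 1, [(1, 4, 0), (0, 3, 2)], [(0, 3, 0), (1, 7, 0)]),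
  ([(0, 6, 4)], 2, [(1, 4, 0), (0, 2, 7)], [(0, 2, 0), (1, 7, 0)]),
  ([(0, 6, 5)], 2, [(1, 4, 0)], [(1, 7, 0)]),
  ([(0, 6, 6)], 2, [(1, 4, 0), (0, 3, 2)], [(0, 3, 0), (1, 7, 0)]),
  ([(0, 6, 7)], 2, [(1, 4, 0), (0, 1, 1)], [(0, 1, 0), (1, 7, 0)]),
  ([(0, 7, 0)], 1, [(1, 5, 0)], [(1, 2, 0)]),
  ([(0, 7, 1)], 2, [(1, 5, 0), (0, 3, 2)], [(0, 3, 0), (1, 2, 0)]),
  ([(0, 7, 2)], 1, [(1, 5, 0), (0, 1, 1)], [(0, 1, 0), (1, 2, 0)]),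
  ([(0, 7, 3)], 2, [(1, 5, 0), (0, 2, 7)], [(0, 2, 0), (1, 2, 0)]),
  ([(0, 7, 4)], 2, [(1, 5, 0), (0, 1, 1)], [(0, 1, 0), (1, 2, 0)]),
  ([(0, 7, 5)], 1, [(1, 5, 0), (0, 2, 7)], [(0, 2, 0), (1, 2, 0)]),
  ([(0, 7, 6)], 2, [(1, 5, 0)], [(1, 2, 0)]),
  ([(0, 7, 7)], 1, [(1, 5, 0), (0, 3, 2)], [(0, 3, 0), (1, 2, 0)]),
  ([(1, 2, 0)], 3, [], []),
  ([(1, 3, 0)], 4, [], []),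
  ([(1, 4, 0)], 5, [], []),
  ([(1, 5, 0)], 3, [(2, 0, 0)], [(2, 0, 0)]),
  ([(1, 6, 0)], 4, [(2, 0, 0)], [(2, 0, 0)]),
  ([(1, 7, 0)], 5, [(2, 0, 0)], [(2, 0, 0)]),
  ([(2, 0, 0), (0, 0, 3)], 6, [], []),
  ([(2, 0, 0), (0, 0, 3), (2, 0, 0), (0, 0, 3)], 7, [], []),
  ([(2, 0, 0), (0, 0, 3), (2, 0, 0), (0, 0, 3), (2, 0, 0), (0, 0, 3)], 7, [(0, 4, 1)], [(0, 4, 2)]),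
  ([(2, 0, 0), (0, 0, 3), (2, 0, 0), (0, 0, 3), (2, 0, 0), (0, 0, 3), (2, 0, 0), (0, 0, 3)], 8, [], []),
  ([(2, 0, 0), (0, 0, 3), (2, 0, 0), (0, 0, 3), (2, 0, 0), (0, 0, 3), (2, 0, 0), (0, 0, 3), (2, 0, 0), (0, 0, 3)], 6, [(0, 4, 2)], [(0, 4, 1)]),
  ([(2, 0, 0), (0, 0, 3), (2, 0, 0), (0, 0, 3), (2, 0, 0), (0, 0, 3), (2, 0, 0), (0, 0, 3), (2, 0, 0), (0, 0, 3), (2, 0, 0), (0, 0, 3)], 8, [(0, 4, 1)], [(0, 4, 2)]),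
  ([(2, 0, 0), (0, 0, 3), (2, 0, 0), (0, 0, 3), (2, 0, 0), (0, 0, 3), (2, 0, 0), (0, 0, 3), (2, 0, 0), (0, 0, 3), (2, 0, 0), (0, 0, 3), (2, 0, 0), (0, 0, 3)], 8, [(0, 4, 2)], [(0, 4, 1)]),
  ([(2, 0, 0), (0, 0, 3), (2, 0, 0), (0, 0, 3), (2, 0, 0), (0, 0, 3), (2, 0, 0), (0, 0, 3), (2, 0, 0), (0, 0, 3), (2, 0, 0), (0, 0, 3), (2, 0, 0), (0, 0, 3), (2, 0, 0), (0, 0, 3)], 6, [(0, 4, 1)], [(0, 4, 2)]),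
  ([(2, 0, 0), (0, 0, 3), (2, 0, 0), (0, 0, 3), (2, 0, 0), (0, 0, 3), (2, 0, 0), (0, 0, 3), (2, 0, 0), (0, 0, 3), (2, 0, 0), (0, 0, 3), (2, 0, 0), (0, 0, 3), (2, 0, 0), (0, 0, 3), (2, 0, 0), (0, 0, 3)], 8, [(0, 0, 3)], [(0, 0, 3)]),
  ([(2, 0, 0), (0, 0, 3), (2, 0, 0), (0, 0, 3), (2, 0, 0), (0, 0, 3), (2, 0, 0), (0, 0, 3), (2, 0, 0), (0, 0, 3), (2, 0, 0), (0, 0, 3), (2, 0, 0), (0, 0, 3), (2, 0, 0), (0, 0, 3), (2, 0, 0), (0, 0, 3), (2, 0, 0), (0, 0, 3)], 7, [(0, 4, 2)], [(0, 4, 1)]),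
  ([(2, 0, 0), (0, 0, 3), (2, 0, 0), (0, 0, 3), (2, 0, 0), (0, 0, 3), (2, 0, 0), (0, 0, 3), (2, 0, 0), (0, 0, 3), (2, 0, 0), (0, 0, 3), (2, 0, 0), (0, 0, 3), (2, 0, 0), (0, 0, 3), (2, 0, 0), (0, 0, 3), (2, 0, 0), (0, 0, 3), (2, 0, 0), (0, 0, 3)], 7, [(0, 0, 3)], [(0, 0, 3)]),
  ([(2, 0, 0), (0, 0, 3), (2, 0, 0), (0, 0, 3), (2, 0, 0), (0, 0, 3), (2, 0, 0), (0, 0, 3), (2, 0, 0), (0, 0, 3), (2, 0, 0), (0, 0, 3), (2, 0, 0), (0, 0, 3), (2, 0, 0), (0, 0, 3), (2, 0, 0), (0, 0, 3), (2, 0, 0), (0, 0, 3), (2, 0, 0), (0, 0, 3), (2, 0, 0), (0, 0, 3)], 6, [(0, 0, 3)], [(0, 0, 3)]),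
  ([(2, 0, 0), (0, 0, 1)], 9, [], []),
  ([(2, 0, 0), (0, 0, 1), (2, 0, 0), (0, 0, 1)], 9, [(0, 1, 1)], [(0, 1, 0)]),
  ([(2, 0, 0), (0, 0, 1), (2, 0, 0), (0, 0, 1), (2, 0, 0), (0, 0, 1)], 9, [(0, 1, 0)], [(0, 1, 1)]),
  ([(2, 0, 0), (0, 0, 1), (2, 0, 0), (0, 0, 1), (2, 0, 0), (0, 0, 1), (2, 0, 0), (0, 0, 1)], 9, [(0, 0, 1)], [(0, 0, 1)])]

/-- `(i, j, u, u', v, v')`: `u x u' v x v' = g` for representatives `i`, `j`. -/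
def pairWit : List (Nat × Nat × Wd × Wd × Wd × Wd) := [
  (1, 0, [], [], [], []),
  (1, 1, [(1, 2, 0)], [(1, 5, 0)], [(0, 3, 0), (1, 7, 0)], [(1, 4, 0), (0, 3, 2)]),
  (1, 2, [(1, 2, 0)], [(1, 5, 0)], [(0, 1, 0), (1, 7, 0)], [(1, 4, 0), (0, 1, 1)]),
  (1, 3, [(0, 2, 0), (2, 0, 0), (0, 6, 0)], [(0, 6, 5), (2, 0, 0), (0, 2, 7)], [(0, 4, 1), (2, 0, 0)], [(2, 0, 0), (0, 4, 2)]),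
  (1, 4, [(0, 3, 0), (1, 7, 0), (2, 0, 0)], [(2, 0, 0), (1, 4, 0), (0, 3, 2)], [(0, 5, 0), (2, 0, 0)], [(2, 0, 0), (0, 5, 4)]),
  (1, 5, [(0, 2, 2), (2, 0, 0)], [(2, 0, 0), (0, 2, 5)], [(0, 3, 6), (1, 5, 0), (2, 0, 0)], [(2, 0, 0), (1, 2, 0), (0, 3, 4)]),
  (1, 6, [(0, 1, 0), (1, 7, 0)], [(1, 4, 0), (0, 1, 1)], [(0, 3, 6), (1, 5, 0), (2, 0, 0), (0, 2, 0)], [(0, 2, 7), (2, 0, 0), (1, 2, 0), (0, 3, 4)]),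
  (1, 7, [(1, 6, 0)], [(1, 3, 0)], [(0, 1, 4), (1, 5, 0), (2, 0, 0), (0, 4, 0)], [(0, 4, 3), (2, 0, 0), (1, 2, 0), (0, 1, 5)]),
  (1, 8, [(0, 3, 5), (2, 0, 0), (0, 2, 0)], [(0, 2, 7), (2, 0, 0), (0, 3, 7)], [(0, 7, 3), (2, 0, 0)], [(2, 0, 0), (0, 7, 5)]),
  (1, 9, [(1, 3, 0)], [(1, 6, 0)], [(0, 5, 6), (1, 7, 0), (2, 0, 0), (0, 4, 0)], [(0, 4, 3), (2, 0, 0), (1, 4, 0), (0, 5, 2)]),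
  (2, 0, [], [], [], []),
  (2, 1, [(1, 2, 0)], [(1, 5, 0)], [(1, 7, 0)], [(1, 4, 0)]),
  (2, 2, [(1, 2, 0)], [(1, 5, 0)], [(0, 2, 0), (1, 7, 0)], [(1, 4, 0), (0, 2, 7)]),
  (2, 3, [(0, 0, 6), (2, 0, 0), (0, 6, 0)], [(0, 6, 5), (2, 0, 0), (0, 0, 6)], [(0, 5, 6), (2, 0, 0)], [(2, 0, 0), (0, 5, 2)]),
  (2, 4, [(0, 2, 1), (2, 0, 0)], [(2, 0, 0), (0, 2, 6)], [(0, 6, 0), (2, 0, 0), (0, 4, 0)], [(0, 4, 3), (2, 0, 0), (0, 6, 5)]),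
  (2, 5, [(0, 0, 2), (2, 0, 0), (0, 2, 0)], [(0, 2, 7), (2, 0, 0), (0, 0, 2)], [(0, 7, 2), (2, 0, 0)], [(2, 0, 0), (0, 7, 4)]),
  (2, 6, [(0, 1, 0), (1, 7, 0)], [(1, 4, 0), (0, 1, 1)], [(0, 5, 0), (1, 5, 0), (2, 0, 0), (0, 2, 0)], [(0, 2, 7), (2, 0, 0), (1, 2, 0), (0, 5, 4)]),
  (2, 7, [(1, 6, 0)], [(1, 3, 0)], [(0, 4, 4), (1, 5, 0), (2, 0, 0), (0, 4, 0)], [(0, 4, 3), (2, 0, 0), (1, 2, 0), (0, 4, 7)]),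
  (2, 8, [(0, 3, 6), (2, 0, 0), (0, 2, 0)], [(0, 2, 7), (2, 0, 0), (0, 3, 4)], [(0, 7, 3), (2, 0, 0)], [(2, 0, 0), (0, 7, 5)]),
  (2, 9, [(1, 3, 0)], [(1, 6, 0)], [(0, 7, 4), (1, 7, 0), (2, 0, 0), (0, 4, 0)], [(0, 4, 3), (2, 0, 0), (1, 4, 0), (0, 7, 2)]),
  (3, 0, [], [], [(0, 0, 4), (2, 0, 0)], [(2, 0, 0), (0, 0, 4)]),
  (3, 1, [], [], [(0, 3, 7), (2, 0, 0)], [(2, 0, 0), (0, 3, 5)]),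
  (3, 2, [], [], [(0, 3, 3), (2, 0, 0)], [(2, 0, 0), (0, 3, 1)]),
  (3, 3, [(0, 0, 1), (2, 0, 0), (0, 1, 1)], [(0, 1, 0), (2, 0, 0), (0, 0, 1)], [(0, 7, 6), (2, 0, 0), (0, 2, 6)], [(0, 2, 1), (2, 0, 0), (0, 7, 0)]),
  (3, 4, [(0, 0, 1), (2, 0, 0), (0, 0, 5)], [(0, 0, 5), (2, 0, 0), (0, 0, 1)], [(0, 7, 6), (2, 0, 0), (0, 3, 5)], [(0, 3, 7), (2, 0, 0), (0, 7, 0)]),
  (3, 5, [], [], [], []),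
  (3, 6, [(0, 0, 1)], [(0, 0, 1)], [(0, 7, 0), (2, 0, 0), (0, 1, 0)], [(0, 1, 1), (2, 0, 0), (0, 7, 6)]),
  (3, 7, [(2, 0, 0), (0, 0, 7)], [(0, 0, 7), (2, 0, 0)], [(0, 0, 4)], [(0, 0, 4)]),
  (3, 8, [(0, 7, 1)], [(0, 7, 7)], [(2, 0, 0), (0, 3, 2)], [(0, 3, 0), (2, 0, 0)]),
  (3, 9, [], [], [(0, 7, 2), (2, 0, 0), (0, 1, 0)], [(0, 1, 1), (2, 0, 0), (0, 7, 4)]),
  (4, 0, [], [], [(0, 0, 3), (2, 0, 0)], [(2, 0, 0), (0, 0, 3)]),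
  (4, 1, [], [], [(0, 6, 1), (2, 0, 0)], [(2, 0, 0), (0, 6, 4)]),
  (4, 2, [], [], [(0, 6, 2), (2, 0, 0)], [(2, 0, 0), (0, 6, 7)]),
  (4, 3, [(2, 0, 0)], [(2, 0, 0)], [(2, 0, 0)], [(2, 0, 0)]),
  (4, 4, [(0, 0, 1), (2, 0, 0), (0, 1, 1)], [(0, 1, 0), (2, 0, 0), (0, 0, 1)], [(0, 7, 6), (2, 0, 0), (0, 7, 1)], [(0, 7, 7), (2, 0, 0), (0, 7, 0)]),
  (4, 5, [(0, 0, 1), (2, 0, 0), (0, 0, 3)], [(0, 0, 3), (2, 0, 0), (0, 0, 1)], [(0, 3, 2), (2, 0, 0), (0, 2, 6)], [(0, 2, 1), (2, 0, 0), (0, 3, 0)]),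
  (4, 6, [(0, 0, 5)], [(0, 0, 5)], [(0, 7, 6), (2, 0, 0), (0, 2, 0)], [(0, 2, 7), (2, 0, 0), (0, 7, 0)]),
  (4, 7, [(2, 0, 0), (0, 0, 5)], [(0, 0, 5), (2, 0, 0)], [(0, 0, 6)], [(0, 0, 6)]),
  (4, 8, [(0, 5, 5)], [(0, 5, 1)], [(2, 0, 0), (0, 1, 0)], [(0, 1, 1), (2, 0, 0)]),
  (4, 9, [(0, 6, 2)], [(0, 6, 7)], [(2, 0, 0), (0, 7, 7)], [(0, 7, 1), (2, 0, 0)]),
  (5, 0, [], [], [(0, 0, 6), (2, 0, 0)], [(2, 0, 0), (0, 0, 6)]),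
  (5, 1, [], [], [(0, 5, 3), (2, 0, 0)], [(2, 0, 0), (0, 5, 7)]),
  (5, 2, [], [], [(0, 5, 5), (2, 0, 0)], [(2, 0, 0), (0, 5, 1)]),
  (5, 3, [(0, 0, 1), (2, 0, 0), (0, 2, 7)], [(0, 2, 0), (2, 0, 0), (0, 0, 1)], [(0, 0, 7), (2, 0, 0), (0, 1, 1)], [(0, 1, 0), (2, 0, 0), (0, 0, 7)]),
  (5, 4, [(2, 0, 0)], [(2, 0, 0)], [(2, 0, 0)], [(2, 0, 0)]),
  (5, 5, [(0, 0, 1), (2, 0, 0), (0, 1, 1)], [(0, 1, 0), (2, 0, 0), (0, 0, 1)], [(0, 3, 2), (2, 0, 0), (0, 4, 2)], [(0, 4, 1), (2, 0, 0), (0, 3, 0)]),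
  (5, 6, [(0, 0, 5)], [(0, 0, 5)], [(0, 3, 6), (2, 0, 0), (0, 1, 0)], [(0, 1, 1), (2, 0, 0), (0, 3, 4)]),
  (5, 7, [(2, 0, 0), (0, 0, 1)], [(0, 0, 1), (2, 0, 0)], [(0, 0, 2)], [(0, 0, 2)]),
  (5, 8, [(0, 2, 2)], [(0, 2, 5)], [(2, 0, 0), (0, 6, 6)], [(0, 6, 3), (2, 0, 0)]),
  (5, 9, [], [], [(0, 3, 4), (2, 0, 0), (0, 1, 0)], [(0, 1, 1), (2, 0, 0), (0, 3, 6)]),
  (6, 0, [(2, 0, 0), (0, 1, 5)], [(0, 1, 4), (2, 0, 0)], [(1, 7, 0), (2, 0, 0), (0, 7, 7)], [(0, 7, 1), (2, 0, 0), (1, 4, 0)]),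
  (6, 1, [(0, 4, 7), (1, 4, 0)], [(1, 7, 0), (0, 4, 4)], [(2, 0, 0), (0, 3, 3)], [(0, 3, 1), (2, 0, 0)]),
  (6, 2, [(0, 5, 4), (1, 4, 0)], [(1, 7, 0), (0, 5, 0)], [(2, 0, 0), (0, 3, 0)], [(0, 3, 2), (2, 0, 0)]),
  (6, 3, [(0, 0, 2), (1, 6, 0)], [(1, 3, 0), (0, 0, 2)], [(0, 0, 5)], [(0, 0, 5)]),
  (6, 4, [(0, 0, 1)], [(0, 0, 1)], [(0, 0, 2), (1, 4, 0)], [(1, 7, 0), (0, 0, 2)]),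
  (6, 5, [(0, 0, 4)], [(0, 0, 4)], [(0, 0, 7), (1, 5, 0)], [(1, 2, 0), (0, 0, 7)]),
  (6, 6, [(0, 0, 7)], [(0, 0, 7)], [(0, 5, 4), (1, 6, 0)], [(1, 3, 0), (0, 5, 0)]),
  (6, 7, [], [], [], []),
  (6, 8, [(0, 0, 3)], [(0, 0, 3)], [(0, 4, 1)], [(0, 4, 2)]),
  (6, 9, [(0, 0, 1)], [(0, 0, 1)], [(0, 1, 2)], [(0, 1, 3)]),
  (7, 0, [(2, 0, 0), (0, 2, 4)], [(0, 2, 3), (2, 0, 0)], [(0, 1, 3), (2, 0, 0), (0, 2, 4)], [(0, 2, 3), (2, 0, 0), (0, 1, 2)]),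
  (7, 1, [(1, 6, 0)], [(1, 3, 0)], [(0, 4, 3), (2, 0, 0), (0, 6, 7)], [(0, 6, 2), (2, 0, 0), (0, 4, 0)]),
  (7, 2, [(1, 6, 0)], [(1, 3, 0)], [(0, 5, 0), (2, 0, 0), (0, 6, 4)], [(0, 6, 1), (2, 0, 0), (0, 5, 4)]),
  (7, 3, [(0, 6, 7), (1, 6, 0)], [(1, 3, 0), (0, 6, 2)], [(0, 7, 3)], [(0, 7, 5)]),
  (7, 4, [(0, 4, 6), (1, 7, 0)], [(1, 4, 0), (0, 4, 5)], [(0, 7, 7)], [(0, 7, 1)]),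
  (7, 5, [(0, 3, 7), (1, 2, 0)], [(1, 5, 0), (0, 3, 5)], [(0, 7, 2)], [(0, 7, 4)]),
  (7, 6, [(0, 0, 3)], [(0, 0, 3)], [(0, 4, 2)], [(0, 4, 1)]),
  (7, 7, [(0, 0, 1)], [(0, 0, 1)], [(0, 7, 2), (1, 2, 0)], [(1, 5, 0), (0, 7, 4)]),
  (7, 8, [], [], [], []),
  (7, 9, [(1, 2, 0)], [(1, 5, 0)], [(0, 1, 0), (1, 5, 0)], [(1, 2, 0), (0, 1, 1)]),
  (8, 0, [(2, 0, 0), (0, 2, 1)], [(0, 2, 6), (2, 0, 0)], [(0, 1, 3), (2, 0, 0), (0, 2, 1)], [(0, 2, 6), (2, 0, 0), (0, 1, 2)]),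
  (8, 1, [(0, 6, 5)], [(0, 6, 0)], [(2, 0, 0), (0, 2, 2)], [(0, 2, 5), (2, 0, 0)]),
  (8, 2, [(0, 7, 1)], [(0, 7, 7)], [(2, 0, 0), (0, 2, 1)], [(0, 2, 6), (2, 0, 0)]),
  (8, 3, [(0, 5, 0)], [(0, 5, 4)], [(0, 1, 0), (1, 3, 0)], [(1, 6, 0), (0, 1, 1)]),
  (8, 4, [(0, 3, 2), (1, 7, 0)], [(1, 4, 0), (0, 3, 0)], [(0, 5, 4)], [(0, 5, 0)]),
  (8, 5, [(0, 5, 1)], [(0, 5, 5)], [(0, 2, 3), (1, 5, 0)], [(1, 2, 0), (0, 2, 4)]),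
  (8, 6, [(0, 4, 1)], [(0, 4, 2)], [(0, 4, 1)], [(0, 4, 2)]),
  (8, 7, [(0, 0, 3)], [(0, 0, 3)], [(0, 4, 2)], [(0, 4, 1)]),
  (8, 8, [(0, 0, 6)], [(0, 0, 6)], [(0, 7, 5), (1, 4, 0)], [(1, 7, 0), (0, 7, 3)]),
  (8, 9, [(0, 3, 2), (1, 2, 0)], [(1, 5, 0), (0, 3, 0)], [(0, 7, 3), (1, 6, 0)], [(1, 3, 0), (0, 7, 5)]),
  (9, 0, [(1, 2, 0), (2, 0, 0), (0, 1, 2)], [(0, 1, 3), (2, 0, 0), (1, 5, 0)], [(0, 0, 5), (1, 4, 0), (2, 0, 0), (0, 6, 6)], [(0, 6, 3), (2, 0, 0), (1, 7, 0), (0, 0, 5)]),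
  (9, 1, [(0, 2, 2), (1, 4, 0)], [(1, 7, 0), (0, 2, 5)], [(1, 5, 0), (2, 0, 0), (0, 2, 5)], [(0, 2, 2), (2, 0, 0), (1, 2, 0)]),
  (9, 2, [(0, 2, 0), (1, 7, 0)], [(1, 4, 0), (0, 2, 7)], [(1, 7, 0), (2, 0, 0), (0, 7, 7)], [(0, 7, 1), (2, 0, 0), (1, 4, 0)]),
  (9, 3, [(0, 0, 3)], [(0, 0, 3)], [(0, 0, 2), (1, 3, 0)], [(1, 6, 0), (0, 0, 2)]),
  (9, 4, [(0, 0, 3), (1, 7, 0)], [(1, 4, 0), (0, 0, 3)], [(0, 0, 6)], [(0, 0, 6)]),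
  (9, 5, [(0, 0, 3), (1, 2, 0)], [(1, 5, 0), (0, 0, 3)], [(0, 0, 5)], [(0, 0, 5)]),
  (9, 6, [(0, 1, 6), (1, 7, 0)], [(1, 4, 0), (0, 1, 7)], [(0, 2, 4)], [(0, 2, 3)]),
  (9, 7, [], [], [(0, 0, 2)], [(0, 0, 2)]),
  (9, 8, [(0, 0, 1)], [(0, 0, 1)], [(2, 0, 0), (0, 4, 0)], [(0, 4, 3), (2, 0, 0)]),
  (9, 9, [(0, 0, 1)], [(0, 0, 1)], [(0, 1, 0)], [(0, 1, 1)])]

end Cfsg.Agent.SZ
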