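import Cfsg.Agent.Lib.Sz.Centralizers
import Cfsg.Agent.Lib.Sz.SquareClass
import Cfsg.Agent.Lib.Sz.SquareEightData

/-!
# The Suzuki group over eight elements: products of two conjugates

Matrices over a model of the field with eight elements, and checked witness tables.
-/

set_option autoImplicit false
set_option synthInstance.maxSize 1000
set_option linter.unusedSectionVars false

namespace Cfsg.Agent.SZ

open Cfsg Matrix

/-- Table lookup, three bits per entry. -/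
def look (T i : Nat) : Fin 8 := ⟨(T >>> (3 * i)) % 8, Nat.mod_lt _ (by norm_num)⟩

def mul8 (a b : Fin 8) : Fin 8 := look mulTab (8 * a.val + b.val)
def add8 (a b : Fin 8) : Fin 8 := look addTab (8 * a.val + b.val)
def inv8 (a : Fin 8) : Fin 8 := look invTab a.val
def th8 (a : Fin 8) : Fin 8 := look thTab a.val
def zf8 (x y : Fin 8) : Fin 8 := add8 (add8 (mul8 x y) (mul8 (th8 x) (mul8 x x))) (th8 y)

/-- Bits. -/
def bits (a : Fin 8) : ZMod 2 × ZMod 2 × ZMod 2 :=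
  ((a.val % 2 : Nat), (a.val / 2 % 2 : Nat), (a.val / 4 : Nat))

theorem bits_add : ∀ a b : Fin 8, bits (add8 a b) = bits a + bits b := by decide +kernel

theorem bits_mul : ∀ a b : Fin 8, bits (mul8 a b) =
    ((bits a).1 * (bits b).1 + (bits a).2.1 * (bits b).2.2 + (bits a).2.2 * (bits b).2.1,
     (bits a).1 * (bits b).2.1 + (bits a).2.1 * (bits b).1 + (bits a).2.1 * (bits b).2.2 +
       (bits a).2.2 * (bits b).2.1 + (bits a).2.2 * (bits b).2.2,
     (bits a).1 * (bits b).2.2 + (bits a).2.1 * (bits b).2.1 + (bits a).2.2 * (bits b).1 +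
       (bits a).2.2 * (bits b).2.2) := by decide +kernel

theorem inv8_spec : ∀ a : Fin 8, (a = 0 ∧ inv8 a = 0) ∨ mul8 a (inv8 a) = 1 := by decide +kernel

theorem th8_spec : ∀ a : Fin 8, th8 a = mul8 (mul8 a a) (mul8 a a) := by decide +kernel

theorem bits_one : bits 1 = (1, 0, 0) ∧ bits 0 = (0, 0, 0) := by decide +kernel

theorem add8_eq_zero : ∀ a b : Fin 8, add8 a b = 0 → a = b := by decide +kernel

abbrev Row8 : Type := Fin 8 × Fin 8 × Fin 8 × Fin 8
abbrev Mat8 : Type := Row8 × Row8 × Row8 × Row8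

instance instDecEqRow8 : DecidableEq Row8 := instDecidableEqProd

instance instDecEqMat8 : DecidableEq Mat8 := instDecidableEqProd

def dot8 (r : Row8) (a b c d : Fin 8) : Fin 8 :=
  add8 (add8 (add8 (mul8 r.1 a) (mul8 r.2.1 b)) (mul8 r.2.2.1 c)) (mul8 r.2.2.2 d)

def rowMul (r : Row8) (B : Mat8) : Row8 :=
  (dot8 r B.1.1 B.2.1.1 B.2.2.1.1 B.2.2.2.1, dot8 r B.1.2.1 B.2.1.2.1 B.2.2.1.2.1 B.2.2.2.2.1,
    dot8 r B.1.2.2.1 B.2.1.2.2.1 B.2.2.1.2.2.1 B.2.2.2.2.2.1,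
    dot8 r B.1.2.2.2 B.2.1.2.2.2 B.2.2.1.2.2.2 B.2.2.2.2.2.2)

def mul88 (A B : Mat8) : Mat8 :=
  (rowMul A.1 B, rowMul A.2.1 B, rowMul A.2.2.1 B, rowMul A.2.2.2 B)

def one88 : Mat8 := ((1, 0, 0, 0), (0, 1, 0, 0), (0, 0, 1, 0), (0, 0, 0, 1))

def gen88 (g : Fin 3 × Fin 8 × Fin 8) : Mat8 :=
  if g.1 = 0 then
    ((1, g.2.1, add8 g.2.2 (mul8 (th8 g.2.1) g.2.1), zf8 g.2.1 g.2.2), (0, 1, th8 g.2.1, g.2.2),
      (0, 0, 1, g.2.1), (0, 0, 0, 1))
  else if g.1 = 1 then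
    if g.2.1 = 0 then one88 else
    ((g.2.1, 0, 0, 0), (0, mul8 (th8 g.2.1) (inv8 g.2.1), 0, 0),
      (0, 0, mul8 g.2.1 (inv8 (th8 g.2.1)), 0), (0, 0, 0, inv8 g.2.1))
  else ((0, 0, 0, 1), (0, 0, 1, 0), (0, 1, 0, 0), (1, 0, 0, 0))

def ev88 : Wd → Mat8
  | [] => one88
  | g :: w => mul88 (gen88 g) (ev88 w)

def powWd (w : Wd) (n : Nat) : Wd := (List.replicate n w).flatten

/-- The witness for a reduction. -/
def redOk (r : Wd × Nat × Wd × Wd) : Bool :=
  decide (r.2.1 < reps.length ∧ ev88 (r.2.2.1 ++ r.1 ++ r.2.2.2) = ev88 (reps.getD r.2.1 []) ∧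
    ev88 (r.2.2.1 ++ r.2.2.2) = one88)

/-- The witness for a pair. -/
def pairOk (r : Nat × Nat × Wd × Wd × Wd × Wd) : Bool :=
  decide (ev88 (r.2.2.1 ++ reps.getD r.1 [] ++ r.2.2.2.1 ++
      (r.2.2.2.2.1 ++ reps.getD r.1 [] ++ r.2.2.2.2.2)) = ev88 (reps.getD r.2.1 []) ∧
    ev88 (r.2.2.1 ++ r.2.2.2.1) = one88 ∧ ev88 (r.2.2.2.2.1 ++ r.2.2.2.2.2) = one88)

theorem redWit_ok : redWit.all redOk = true := by decide +kernel
theorem pairWit_ok : pairWit.all pairOk = true := by decide +kernel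

theorem invIdx_ok : ∀ i ∈ invIdx, ev88 (reps.getD i [] ++ reps.getD i []) = one88 := by
  decide +kernel

theorem pair_complete : ∀ i : Fin reps.length, i.val ∈ invIdx ∨
    ∀ j : Fin reps.length, (i.val, j.val) ∈ pairWit.map fun r => (r.1, r.2.1) := by decide +kernel

theorem red_uGrp : ∀ a b : Fin 8, (a, b) ≠ (0, 0) →
    [((0 : Fin 3), a, b)] ∈ redWit.map fun r => r.1 := by decide +kernel

theorem red_hGrp : ∀ u : Fin 8, u ≠ 0 → u ≠ 1 →
    [((1 : Fin 3), u, (0 : Fin 8))] ∈ redWit.map fun r => r.1 := by decide +kernel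

theorem red_z13 : ∀ n : Fin 13, n ≠ 0 → powWd z13 n.val ∈ redWit.map fun r => r.1 := by
  decide +kernel

theorem red_z5 : ∀ n : Fin 5, n ≠ 0 → powWd z5 n.val ∈ redWit.map fun r => r.1 := by
  decide +kernel

theorem z13_ok : ev88 (powWd z13 13) = one88 ∧ ev88 z13 ≠ one88 := by decide +kernel
theorem z5_ok : ev88 (powWd z5 5) = one88 ∧ ev88 z5 ≠ one88 := by decide +kernel

variable {F : Type*} [Field F] [Fintype F]

theorem exists_omega (hF : Fintype.card F = 2 ^ (2 * 1 + 1)) : ∃ w : F, w ^ 3 + w + 1 = 0 := by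
  classical
  obtain ⟨x, -, hx⟩ := Finset.exists_mem_notMem_of_card_lt_card (s := ({0, 1} : Finset F))
    (t := Finset.univ) (by
      rw [Finset.card_univ, hF]
      exact lt_of_le_of_lt Finset.card_le_two (by norm_num))
  simp only [Finset.mem_insert, Finset.mem_singleton, not_or] at hx
  obtain ⟨hx0, hx1⟩ := hx
  have h7 : x ^ 7 = 1 := by
    have := FiniteField.pow_card_sub_one_eq_one x hx0
    rwa [hF] at this
  have h : (x - 1) * ((x ^ 3 + x + 1) * (x ^ 3 + x ^ 2 + 1)) = 0 := by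
    linear_combination h7 + x ^ 4 * two_zero hF - x ^ 3 * two_zero hF
  rcases mul_eq_zero.1 ((mul_eq_zero.1 h).resolve_left (sub_ne_zero.2 hx1)) with h | h
  · exact ⟨x, h⟩
  · refine ⟨x⁻¹, ?_⟩
    field_simp
    linear_combination h

/-- The model map for a chosen root. -/
noncomputable def emb8 [CharP F 2] (w : F) (a : Fin 8) : F :=
  ZMod.castHom dvd_rfl F (bits a).1 + ZMod.castHom dvd_rfl F (bits a).2.1 * w +
    ZMod.castHom dvd_rfl F (bits a).2.2 * w ^ 2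

section Model

variable [CharP F 2] {w : F}

theorem emb8_add (a b : Fin 8) : emb8 w (add8 a b) = emb8 w a + emb8 w b := by
  simp only [emb8, bits_add, Prod.fst_add, Prod.snd_add, map_add]
  ring

theorem emb8_mul (hw : w ^ 3 + w + 1 = 0) (a b : Fin 8) :
    emb8 w (mul8 a b) = emb8 w a * emb8 w b := by
  have h2 : (2 : F) = 0 := CharTwo.two_eq_zero
  simp only [emb8, bits_mul, map_add, map_mul]
  set A := ZMod.castHom (dvd_refl 2) F (bits a).2.1
  set A' := ZMod.castHom (dvd_refl 2) F (bits a).2.2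
  set B := ZMod.castHom (dvd_refl 2) F (bits b).2.1
  set B' := ZMod.castHom (dvd_refl 2) F (bits b).2.2
  linear_combination -((A * B' + A' * B) + A' * B' * w) * hw +
    ((A * B' + A' * B) * (1 + w) + A' * B' * (w + w ^ 2)) * h2

theorem emb8_zero : emb8 w 0 = 0 := by simp [emb8, bits_one.2]

theorem emb8_one : emb8 w 1 = 1 := by simp [emb8, bits_one.1]

theorem emb8_ne_zero (hw : w ^ 3 + w + 1 = 0) {a : Fin 8} (ha : a ≠ 0) : emb8 w a ≠ 0 := by
  intro h
  rcases inv8_spec a with ⟨h', -⟩ | h'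
  · exact ha h'
  · have := emb8_mul hw a (inv8 a)
    rw [h', emb8_one, h, zero_mul] at this
    exact one_ne_zero this

theorem emb8_injective (hw : w ^ 3 + w + 1 = 0) : Function.Injective (emb8 w) := by
  intro a b h
  apply add8_eq_zero
  by_contra hne
  refine emb8_ne_zero hw hne ?_
  rw [emb8_add, h, CharTwo.add_self_eq_zero]

theorem emb8_surjective (hF : Fintype.card F = 2 ^ (2 * 1 + 1)) (hw : w ^ 3 + w + 1 = 0) :
    Function.Surjective (emb8 w) :=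
  ((Fintype.bijective_iff_injective_and_card _).2
    ⟨emb8_injective hw, by rw [hF, Fintype.card_fin]; rfl⟩).2

theorem emb8_inv (hw : w ^ 3 + w + 1 = 0) (a : Fin 8) : emb8 w (inv8 a) = (emb8 w a)⁻¹ := by
  rcases inv8_spec a with ⟨h, h'⟩ | h
  · rw [h', h, emb8_zero, _root_.inv_zero]
  · refine eq_inv_of_mul_eq_one_right ?_
    rw [← emb8_mul hw, h, emb8_one]

theorem emb8_th (hw : w ^ 3 + w + 1 = 0) (a : Fin 8) : emb8 w (th8 a) = th 1 (emb8 w a) := by
  rw [th8_spec, emb8_mul hw, emb8_mul hw, th]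
  ring

theorem emb8_zf (hw : w ^ 3 + w + 1 = 0) (a b : Fin 8) :
    emb8 w (zf8 a b) = zf 1 (emb8 w a) (emb8 w b) := by
  simp only [zf8, zf, emb8_add, emb8_mul hw, emb8_th hw]
  ring

/-- The matrix of a model matrix. -/
noncomputable def toMat (w : F) (A : Mat8) : Matrix (Fin 4) (Fin 4) F :=
  !![emb8 w A.1.1, emb8 w A.1.2.1, emb8 w A.1.2.2.1, emb8 w A.1.2.2.2;
    emb8 w A.2.1.1, emb8 w A.2.1.2.1, emb8 w A.2.1.2.2.1, emb8 w A.2.1.2.2.2;
    emb8 w A.2.2.1.1, emb8 w A.2.2.1.2.1, emb8 w A.2.2.1.2.2.1, emb8 w A.2.2.1.2.2.2;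
    emb8 w A.2.2.2.1, emb8 w A.2.2.2.2.1, emb8 w A.2.2.2.2.2.1, emb8 w A.2.2.2.2.2.2]

theorem toMat_mul (hw : w ^ 3 + w + 1 = 0) (A B : Mat8) :
    toMat w (mul88 A B) = toMat w A * toMat w B := by
  ext i j
  fin_cases i <;> fin_cases j <;>
    simp [toMat, mul88, rowMul, dot8, Matrix.mul_apply, Fin.sum_univ_four, emb8_add,
      emb8_mul hw]

theorem toMat_one : toMat w one88 = 1 := by
  ext i j
  fin_cases i <;> fin_cases j <;> simp [toMat, one88, emb8_one, emb8_zero]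

theorem toMat_injective (hw : w ^ 3 + w + 1 = 0) : Function.Injective (toMat w) := by
  intro A B h
  have e := fun i j => congrFun (congrFun h i) j
  have inj := fun {a b : Fin 8} (h : emb8 w a = emb8 w b) => emb8_injective hw h
  refine Prod.ext (Prod.ext ?_ (Prod.ext ?_ (Prod.ext ?_ ?_)))
    (Prod.ext (Prod.ext ?_ (Prod.ext ?_ (Prod.ext ?_ ?_)))
      (Prod.ext (Prod.ext ?_ (Prod.ext ?_ (Prod.ext ?_ ?_)))
        (Prod.ext ?_ (Prod.ext ?_ (Prod.ext ?_ ?_)))))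
  exacts [inj (e 0 0), inj (e 0 1), inj (e 0 2), inj (e 0 3), inj (e 1 0), inj (e 1 1), inj (e 1 2),
    inj (e 1 3), inj (e 2 0), inj (e 2 1), inj (e 2 2), inj (e 2 3), inj (e 3 0), inj (e 3 1),
    inj (e 3 2), inj (e 3 3)]

/-- The group element of a letter. -/
noncomputable def evGen (hF : Fintype.card F = 2 ^ (2 * 1 + 1)) (hw : w ^ 3 + w + 1 = 0)
    (g : Fin 3 × Fin 8 × Fin 8) : Sz F 1 :=
  if g.1 = 0 then tS hF (emb8 w g.2.1) (emb8 w g.2.2)
  else if g.1 = 1 then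
    if h : g.2.1 = 0 then 1 else hS hF (Units.mk0 _ (emb8_ne_zero hw h))
  else wS hF

/-- The group element of a word. -/
noncomputable def evWd (hF : Fintype.card F = 2 ^ (2 * 1 + 1)) (hw : w ^ 3 + w + 1 = 0)
    (l : Wd) : Sz F 1 := (l.map (evGen hF hw)).prod

theorem toMat_gen (hF : Fintype.card F = 2 ^ (2 * 1 + 1)) (hw : w ^ 3 + w + 1 = 0)
    (g : Fin 3 × Fin 8 × Fin 8) : toMat w (gen88 g) = (evGen hF hw g).1.1 := by
  obtain ⟨k, a, b⟩ := g
  unfold gen88 evGen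
  split_ifs with h1 h2 h3
  · show _ = tMat 1 _ _
    ext i j
    fin_cases i <;> fin_cases j <;>
      simp [toMat, tMat, emb8_one, emb8_zero, emb8_add, emb8_mul hw, emb8_th hw, emb8_zf hw]
  · rw [toMat_one]; rfl
  · show _ = Matrix.diagonal (hVec 1 _)
    ext i j
    fin_cases i <;> fin_cases j <;>
      simp [toMat, hVec, emb8_zero, emb8_mul hw, emb8_th hw, emb8_inv hw, div_eq_mul_inv]
  · show _ = wMat
    ext i j
    fin_cases i <;> fin_cases j <;> simp [toMat, wMat, emb8_one, emb8_zero]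

theorem toMat_ev (hF : Fintype.card F = 2 ^ (2 * 1 + 1)) (hw : w ^ 3 + w + 1 = 0) :
    ∀ l : Wd, toMat w (ev88 l) = (evWd hF hw l).1.1
  | [] => by rw [ev88, toMat_one]; rfl
  | g :: l => by
    rw [ev88, toMat_mul hw, toMat_ev hF hw l, toMat_gen hF hw]
    rfl

theorem evWd_eq (hF : Fintype.card F = 2 ^ (2 * 1 + 1)) (hw : w ^ 3 + w + 1 = 0) {l l' : Wd}
    (h : ev88 l = ev88 l') : evWd hF hw l = evWd hF hw l' := by
  apply Subtype.ext
  apply Subtype.ext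
  rw [← toMat_ev hF hw, ← toMat_ev hF hw, h]

theorem evWd_append (hF : Fintype.card F = 2 ^ (2 * 1 + 1)) (hw : w ^ 3 + w + 1 = 0) (l l' : Wd) :
    evWd hF hw (l ++ l') = evWd hF hw l * evWd hF hw l' := by
  simp [evWd]

theorem evWd_one_iff (hF : Fintype.card F = 2 ^ (2 * 1 + 1)) (hw : w ^ 3 + w + 1 = 0) (l : Wd) :
    evWd hF hw l = 1 ↔ ev88 l = one88 := by
  constructor
  · intro h
    refine toMat_injective hw ?_
    rw [toMat_ev hF hw, h, toMat_one]
    rfl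
  · intro h
    apply Subtype.ext
    apply Subtype.ext
    rw [← toMat_ev hF hw, h, toMat_one]
    rfl

theorem evWd_pow (hF : Fintype.card F = 2 ^ (2 * 1 + 1)) (hw : w ^ 3 + w + 1 = 0) (l : Wd) :
    ∀ n : Nat, evWd hF hw (powWd l n) = evWd hF hw l ^ n
  | 0 => rfl
  | n + 1 => by
    rw [powWd, List.replicate_succ, List.flatten_cons, evWd_append, ← powWd, evWd_pow hF hw l n,
      pow_succ']

theorem evWd_inv (hF : Fintype.card F = 2 ^ (2 * 1 + 1)) (hw : w ^ 3 + w + 1 = 0) {l l' : Wd}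
    (h : ev88 (l ++ l') = one88) : (evWd hF hw l)⁻¹ = evWd hF hw l' := by
  refine inv_eq_of_mul_eq_one_right ?_
  rw [← evWd_append, evWd_one_iff]
  exact h

/-- Reduction to a representative from the table. -/
theorem red_of_mem (hF : Fintype.card F = 2 ^ (2 * 1 + 1)) (hw : w ^ 3 + w + 1 = 0) {e : Wd}
    (he : e ∈ redWit.map fun r => r.1) :
    ∃ i : Fin reps.length, ∃ u : Sz F 1,
      u * evWd hF hw e * u⁻¹ = evWd hF hw (reps.getD i.val []) := by
  obtain ⟨r, hr, rfl⟩ := List.mem_map.1 he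
  obtain ⟨h1, h2, h3⟩ := of_decide_eq_true (List.all_eq_true.1 redWit_ok r hr)
  refine ⟨⟨r.2.1, h1⟩, evWd hF hw r.2.2.1, ?_⟩
  rw [evWd_inv hF hw h3, ← evWd_append, ← evWd_append]
  exact evWd_eq hF hw h2

theorem red_torus (hF : Fintype.card F = 2 ^ (2 * 1 + 1)) (hw : w ^ 3 + w + 1 = 0)
    {Up Um : Subgroup (Sz F 1)}
    (hp : IsTorus Up (2 ^ (2 * 1 + 1) + 2 ^ (1 + 1) + 1))
    (hn : IsTorus Um (2 ^ (2 * 1 + 1) - 2 ^ (1 + 1) + 1))
    (hcov : ∀ g : Sz F 1, g ≠ 1 →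
      g ∈ conjSet (uGrp hF) ∨ g ∈ conjSet (hGrp hF) ∨ g ∈ conjSet Up ∨ g ∈ conjSet Um)
    {z : Wd} {p : Nat} (hp' : p.Prime) (hz : ev88 (powWd z p) = one88 ∧ ev88 z ≠ one88)
    (hpv : p = 13 ∨ p = 5) {A : Subgroup (Sz F 1)} (hA : A = Up ∧ p = 13 ∨ A = Um ∧ p = 5)
    {a : Sz F 1} (ha : a ∈ A) :
    ∃ (n : Fin p) (y : Sz F 1), y * a * y⁻¹ = evWd hF hw (powWd z n.val) := by
  classical
  haveI := Fact.mk hp'
  have ho : orderOf (evWd hF hw z) = p := orderOf_eq_prime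
    (by rw [← evWd_pow, evWd_one_iff]; exact hz.1) (fun h => hz.2 ((evWd_one_iff hF hw z).1 h))
  have hc : Nat.card (Subgroup.zpowers (evWd hF hw z)) = p := by rw [Nat.card_zpowers, ho]
  obtain ⟨B, hB, y, hy⟩ := exists_conj_of_cyclic le_rfl hF hp hn hcov
    (V := Subgroup.zpowers (evWd hF hw z)) inferInstance (by
      rw [hc]; rcases hpv with rfl | rfl <;> simp)
  have hBc : Nat.card B = p := by
    rw [← hc, hy, Subgroup.card_map_of_injective (MulEquiv.injective _)]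
  obtain rfl : A = B := by
    rcases hB with rfl | rfl | rfl
    · rw [card_hGrp, hF] at hBc
      rcases hpv with rfl | rfl <;> simp at hBc
    · rcases hA with ⟨rfl, -⟩ | ⟨-, rfl⟩
      · rfl
      · rw [hp.card] at hBc; simp at hBc
    · rcases hA with ⟨-, rfl⟩ | ⟨rfl, -⟩
      · rw [hn.card] at hBc; simp at hBc
      · rfl
  have hm : y * a * y⁻¹ ∈ Subgroup.zpowers (evWd hF hw z) := by
    rw [hy]; exact ⟨a, ha, rfl⟩
  rw [mem_zpowers_iff_mem_range_orderOf] at hm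
  obtain ⟨n, hn', e⟩ := Finset.mem_image.1 hm
  rw [Finset.mem_range, ho] at hn'
  exact ⟨⟨n, hn'⟩, y, e.symm.trans (evWd_pow hF hw z n).symm⟩

theorem red_all (hF : Fintype.card F = 2 ^ (2 * 1 + 1)) (hw : w ^ 3 + w + 1 = 0) (g : Sz F 1)
    (hg : g ≠ 1) : ∃ i : Fin reps.length, ∃ u : Sz F 1,
      u * g * u⁻¹ = evWd hF hw (reps.getD i.val []) := by
  obtain ⟨Up, Um, hp, hn, -, hcov⟩ := partition le_rfl hF
  have fin : ∀ {e : Wd} {u : Sz F 1}, u * g * u⁻¹ = evWd hF hw e →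
      (evWd hF hw e ≠ 1 → e ∈ redWit.map fun r => r.1) →
      ∃ i : Fin reps.length, ∃ u : Sz F 1, u * g * u⁻¹ = evWd hF hw (reps.getD i.val []) := by
    intro e u h hm
    have hne : evWd hF hw e ≠ 1 := by
      rw [← h]
      intro h1
      exact hg (conj_eq_one_iff.1 h1)
    obtain ⟨i, v, hv⟩ := red_of_mem hF hw (hm hne)
    refine ⟨i, v * u, ?_⟩
    rw [← hv, ← h]
    group
  rcases hcov g hg with ⟨-, c, hc⟩ | ⟨-, c, hc⟩ | ⟨-, c, hc⟩ | ⟨-, c, hc⟩
  · obtain ⟨a, b, hab⟩ := (mem_uGrp hF).1 hc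
    obtain ⟨a', rfl⟩ := emb8_surjective hF hw a
    obtain ⟨b', rfl⟩ := emb8_surjective hF hw b
    refine fin (e := [(0, a', b')]) (u := c⁻¹) ?_ fun hne => red_uGrp a' b' fun e => hne ?_
    · rw [inv_inv, ← hab]; simp [evWd, evGen]
    · obtain ⟨rfl, rfl⟩ := Prod.ext_iff.1 e
      rw [evWd_one_iff]; decide +kernel
  · obtain ⟨v, hv⟩ := (mem_hGrp hF).1 hc
    obtain ⟨a', ha'⟩ := emb8_surjective hF hw (v : F)
    have h0 : a' ≠ 0 := fun e => v.ne_zero (by rw [← ha', e, emb8_zero])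
    refine fin (e := [(1, a', 0)]) (u := c⁻¹) ?_ fun hne => red_hGrp a' h0 fun e => hne ?_
    · rw [inv_inv, ← hv]
      simp [evWd, evGen, h0, ha']
    · subst e
      rw [evWd_one_iff]; decide +kernel
  · obtain ⟨n, y, hy⟩ := red_torus hF hw hp hn hcov (z := z13) (p := 13) (by norm_num) z13_ok
      (Or.inl rfl) (Or.inl ⟨rfl, rfl⟩) hc
    refine fin (e := powWd z13 n.val) (u := y * c⁻¹) ?_ fun hne => red_z13 n fun e => hne ?_
    · rw [← hy]; group
    · rw [evWd_pow, e]; simp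
  · obtain ⟨n, y, hy⟩ := red_torus hF hw hp hn hcov (z := z5) (p := 5) (by norm_num) z5_ok
      (Or.inr rfl) (Or.inr ⟨rfl, rfl⟩) hc
    refine fin (e := powWd z5 n.val) (u := y * c⁻¹) ?_ fun hne => red_z5 n fun e => hne ?_
    · rw [← hy]; group
    · rw [evWd_pow, e]; simp

end Model

theorem cover_eight (hF : Fintype.card F = 2 ^ (2 * 1 + 1)) (x g : Sz F 1) (hx2 : 2 < orderOf x)
    (hg1 : g ≠ 1) : Cover x g := by
  haveI := charTwo hF
  obtain ⟨w, hw⟩ := exists_omega hF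
  have hx1 : x ≠ 1 := fun e => by rw [e, orderOf_one] at hx2; omega
  obtain ⟨i, c, hc⟩ := red_all hF hw x hx1
  obtain ⟨j, d, hd⟩ := red_all hF hw g hg1
  refine Cover.of_conj_left (c := c) (Cover.of_conj_right (c := d) ?_)
  rw [hc, hd]
  have hi : i.val ∉ invIdx := by
    intro hi
    have h2 : orderOf (c * x * c⁻¹) ≤ 2 := orderOf_le_of_pow_eq_one two_pos (by
      rw [hc, sq, ← evWd_append, evWd_one_iff]; exact invIdx_ok _ hi)
    rw [show c * x * c⁻¹ = MulAut.conj c x from rfl, MulEquiv.orderOf_eq] at h2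
    omega
  obtain ⟨r, hr, e⟩ := List.mem_map.1 ((pair_complete i).resolve_left hi j)
  obtain ⟨h1, h2, h3⟩ := of_decide_eq_true (List.all_eq_true.1 pairWit_ok r hr)
  obtain ⟨e1, e2⟩ := Prod.ext_iff.1 e
  simp only at e1 e2
  rw [e1, e2] at h1
  refine ⟨evWd hF hw r.2.2.1, evWd hF hw r.2.2.2.2.1, ?_⟩
  rw [evWd_inv hF hw h2, evWd_inv hF hw h3]
  simp only [← evWd_append]
  exact evWd_eq hF hw h1.symm

end Cfsg.Agent.SZ
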