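import Cfsg.Agent.Lib.Sz.SquareSylow
import Cfsg.Agent.Lib.Sz.MinDegree

/-!
# Suzuki groups with `q ≥ 32`: a class of elements of order above two covers by products of two
-/

set_option autoImplicit false
set_option linter.style.haveILetI false

namespace Cfsg.Agent.SZ

open Cfsg Cfsg.Agent.Char Cfsg.Agent.OddOrder

theorem card_centralizer_conj_eq {G : Type*} [Group G] (y a : G) :
    Nat.card (Subgroup.centralizer ({y * a * y⁻¹} : Set G)) =
      Nat.card (Subgroup.centralizer ({a} : Set G)) := by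
  refine (Nat.card_congr (Equiv.subtypeEquiv (MulAut.conj y).toEquiv fun g => ?_)).symm
  simp only [Subgroup.mem_centralizer_singleton_iff, MulEquiv.toEquiv_eq_coe, EquivLike.coe_coe,
    MulAut.conj_apply]
  constructor <;> intro h
  · calc y * g * y⁻¹ * (y * a * y⁻¹) = y * (g * a) * y⁻¹ := by group
      _ = y * (a * g) * y⁻¹ := by rw [h]
      _ = _ := by group
  · calc g * a = y⁻¹ * (y * g * y⁻¹ * (y * a * y⁻¹)) * y := by group
      _ = y⁻¹ * (y * a * y⁻¹ * (y * g * y⁻¹)) * y := by rw [h]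
      _ = _ := by group

/-- The exceptional degree against the bound for a covering element. -/
theorem anisotropic_arith {q k k' s : ℕ} (hq : 32 ≤ q) (hk : 4 * s + 1 = k)
    (h5 : 4 * (4 * s) ≤ 5 * q) (hk' : 3 * q ≤ 4 * k') :
    s * k ≤ q ^ 2 ∧ 1600 * q ^ 2 * (4 * s) ≤ 121 * ((q - 1) * k') ^ 2 ∧
      (2 * q) ^ 2 * k ≤ ((q - 1) * k') ^ 2 := by
  obtain ⟨p, rfl⟩ : ∃ p, q = p + 1 := ⟨q - 1, by omega⟩
  simp only [Nat.add_sub_cancel]
  have e : (p * (3 * (p + 1))) ^ 2 ≤ (p * (4 * k')) ^ 2 :=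
    Nat.pow_le_pow_left (Nat.mul_le_mul_left _ hk') 2
  have hp : 31 ≤ p := by omega
  have hp2 : 31 * p ≤ p ^ 2 := by nlinarith
  refine ⟨?_, ?_, ?_⟩
  · nlinarith
  · have a1 : 1600 * (p + 1) ^ 2 * (4 * (4 * s)) ≤ 1600 * (p + 1) ^ 2 * (5 * (p + 1)) :=
      Nat.mul_le_mul_left _ h5
    have a2 : 32000 * (p + 1) ≤ 1089 * p ^ 2 := by nlinarith
    nlinarith [Nat.mul_le_mul_left ((p + 1) ^ 2) a2]
  · have a1 : (2 * (p + 1)) ^ 2 * k ≤ (2 * (p + 1)) ^ 2 * (2 * (p + 1)) :=
      Nat.mul_le_mul_left _ (by omega)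
    have a2 : 128 * (p + 1) ≤ 9 * p ^ 2 := by nlinarith
    nlinarith [Nat.mul_le_mul_left ((p + 1) ^ 2) a2]

variable {F : Type*} [Field F] [Fintype F] {m : ℕ}

theorem deg_ge (hm : 1 ≤ m) (hF : Fintype.card F = 2 ^ (2 * m + 1)) [Fintype (Sz F m)]
    (χ : IrrCharacter (Sz F m)) (hχ : χ ≠ trivialChar (Sz F m)) :
    ((2 ^ m * (2 ^ (2 * m + 1) - 1) : ℕ) : ℤ) ≤ deg χ := by
  obtain ⟨n, ρ, hρ, hρχ⟩ := χ.2
  have h1 : (deg χ : ℂ) = (n : ℂ) := by
    rw [deg_cast, ← hρχ, Representation.char_one, Module.finrank_fin_fun]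
  have h1' : deg χ = (n : ℤ) := by exact_mod_cast h1
  have hne : ∃ g, ρ g ≠ 1 := by
    by_contra h
    push Not at h
    have hval : ∀ g, χ.1 g = (n : ℂ) := fun g => by
      rw [← hρχ]
      show LinearMap.trace ℂ _ (ρ g) = _
      rw [h g, LinearMap.trace_one, Module.finrank_fin_fun]
    have h0 := classInner_irr_of_ne χ.2 (trivialChar (Sz F m)).2 fun e => hχ (Subtype.ext e)
    simp only [classInner] at h0
    rw [Finset.sum_congr rfl fun g _ => by
      rw [hval g, show (trivialChar (Sz F m)).1 g = 1 from rfl, map_one, mul_one],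
      Finset.sum_const, Finset.card_univ, nsmul_eq_mul, ← Nat.card_eq_fintype_card,
      inv_mul_cancel_left₀ card_ne_zero] at h0
    have := deg_pos χ
    have hn : n = 0 := Nat.cast_eq_zero.1 h0
    omega
  have h2 := finrank_ge hm hF ρ hne
  rw [Module.finrank_fin_fun] at h2
  rw [h1']
  exact_mod_cast h2

theorem cover_large (hm : 2 ≤ m) (hF : Fintype.card F = 2 ^ (2 * m + 1)) (x g : Sz F m)
    (hx2 : 2 < orderOf x) (hg1 : g ≠ 1) : Cover x g := by
  classical
  haveI := Fintype.ofFinite (Sz F m)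
  have hm1 : 1 ≤ m := by omega
  obtain ⟨U, V, hU, hV, hNH, hcov⟩ := partition hm1 hF
  obtain ⟨c1, c2, c3, c4, c5, c6⟩ := coprime_facts hm1
  have hdmin := deg_ge hm1 hF
  set q := Fintype.card F with hq
  set k := 2 ^ (2 * m + 1) + 2 ^ (m + 1) + 1 with hk
  set k' := 2 ^ (2 * m + 1) - 2 ^ (m + 1) + 1 with hk'
  have hqm : q = 2 ^ (2 * m + 1) := hF
  have hr : 4 * 2 ^ (m + 1) ≤ q := by
    rw [hqm, show 4 = 2 ^ 2 from rfl, ← pow_add]
    exact Nat.pow_le_pow_right (by norm_num) (by omega)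
  have hq32 : 32 ≤ q := by
    rw [hqm]
    exact le_trans (by norm_num) (Nat.pow_le_pow_right (by norm_num) (show 5 ≤ 2 * m + 1 by omega))
  have hq8 : 8 ∣ q := hqm ▸ pow_dvd_pow 2 (show 3 ≤ 2 * m + 1 by omega)
  have hr4 : 4 ∣ 2 ^ (m + 1) := pow_dvd_pow 2 (show 2 ≤ m + 1 by omega)
  have hkq : k = q + 2 ^ (m + 1) + 1 := by rw [hk, hqm]
  have hk'q : k' = q - 2 ^ (m + 1) + 1 := by rw [hk', hqm]
  have hprod : k * k' = q ^ 2 + 1 := by rw [hk, hk', hqm]; exact torus_prod hm1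
  have hd : 4 * (q - 1) ≤ 2 ^ m * (2 ^ (2 * m + 1) - 1) := by
    rw [← hqm]
    exact Nat.mul_le_mul_right _ (by
      calc 4 = 2 ^ 2 := rfl
        _ ≤ 2 ^ m := Nat.pow_le_pow_right (by norm_num) hm)
  have hH : IsSelfCent (hGrp (m := m) hF) := fun a ha ha1 => centralizer_hS hm1 hF ha ha1
  have hU' : IsSelfCent U := hU.cent
  have hV' : IsSelfCent V := hV.cent
  rw [← hqm] at c4 c5
  have cH : Nat.card (hGrp (m := m) hF) = q - 1 := card_hGrp hF
  have aHU := apart_of_coprime (A := hGrp hF) (B := U) (by rw [cH, hU.card]; exact c4)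
  have aUH := apart_of_coprime (A := U) (B := hGrp hF) (by rw [cH, hU.card]; exact c4.symm)
  have aHV := apart_of_coprime (A := hGrp hF) (B := V) (by rw [cH, hV.card]; exact c5)
  have aVH := apart_of_coprime (A := V) (B := hGrp hF) (by rw [cH, hV.card]; exact c5.symm)
  have aUV := apart_of_coprime (A := U) (B := V) (by rw [hU.card, hV.card]; exact c6)
  have aVU := apart_of_coprime (A := V) (B := U) (by rw [hU.card, hV.card]; exact c6.symm)
  obtain ⟨sH, hsH⟩ : ∃ s, 2 * s + 2 = q := ⟨(q - 2) / 2, by omega⟩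
  obtain ⟨sU, hsU⟩ : ∃ s, 4 * s + 1 = k := ⟨(k - 1) / 4, by omega⟩
  obtain ⟨sV, hsV⟩ : ∃ s, 4 * s + 1 = k' := ⟨(k' - 1) / 4, by omega⟩
  obtain ⟨EH⟩ := exists_exceptionalData hH (e := 2) (s := sH)
    (Nat.eq_of_mul_eq_mul_left Nat.card_pos ((card_normalizer hH).symm.trans
      (by rw [hNH, cH, Nat.mul_comm]))) (by rw [cH]; omega) (by omega)
  obtain ⟨EU⟩ := exists_exceptionalData hU' (e := 4) (s := sU)
    (Nat.eq_of_mul_eq_mul_left Nat.card_pos ((card_normalizer hU').symm.trans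
      (by rw [hU.normalizer, hU.card, Nat.mul_comm]))) (by rw [hU.card]; omega) (by omega)
  obtain ⟨EV⟩ := exists_exceptionalData hV' (e := 4) (s := sV)
    (Nat.eq_of_mul_eq_mul_left Nat.card_pos ((card_normalizer hV').symm.trans
      (by rw [hV.normalizer, hV.card, Nat.mul_comm]))) (by rw [hV.card]; omega) (by omega)
  let T : Tori (Sz F m) q k k' sH sU (hGrp hF) U V :=
    { EH := EH, EU := EU, hH := hH, hU := hU', hV := hV', cH := cH, cU := hU.card, cV := hV.card
      hsH := hsH, hsU := hsU, qeven := (by omega), q8 := (by omega), k5 := (by omega)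
      k'5 := (by omega), prod := hprod, sum := (by omega), card := card_Sz hm1 hF, sU3 := (by omega)
      apHU := aHU, apUH := aUH, apHV := aHV, apUV := aUV, apVH := aVH, apVU := aVU }
  haveI := Fintype.ofFinite (hGrp (m := m) hF)
  haveI := Fintype.ofFinite U
  haveI := Fintype.ofFinite V
  obtain ⟨St, hst⟩ := T.stepH
  let T' := T.swap EV hsV (by omega)
  have hst' : StepH T' St :=
    ⟨hst.δ0, hst.ne_triv, hst.not_mem, hst.unit, hst.others, hst.rel⟩
  have hDH := degH_large T EV hsV (by omega) (by omega) hst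
  have hs := T.stepSt hst hDH
  have hs' := T'.stepSt hst' hDH
  have hDU : ∀ i, deg (EU.θ i) = (((q - 1) * k' : ℕ) : ℤ) := fun i =>
    (exc_large T EV hsV (by omega) (by omega) hst hs hs' (by omega) i).2.2
  have hDV : ∀ i, deg (EV.θ i) = (((q - 1) * k : ℕ) : ℤ) := fun i =>
    (exc_large T' EU hsU (by omega) (by omega) hst' hs' hs (by omega) i).2.2
  obtain ⟨aU1, aU2, aU3⟩ := anisotropic_arith (q := q) (k' := k') hq32 hsU (by omega) (by omega)
  obtain ⟨aV1, aV2, aV3⟩ := anisotropic_arith (q := q) (k' := k) hq32 hsV (by omega) (by omega)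
  -- centraliser bound
  have hC : ∀ g : Sz F m, g ≠ 1 →
      Nat.card (Subgroup.centralizer ({g} : Set (Sz F m))) ≤ q ^ 2 := by
    intro z hz
    have key : ∀ A : Subgroup (Sz F m), z ∈ conjSet A → Nat.card A ≤ q ^ 2 →
        (∀ a ∈ A, a ≠ 1 → Subgroup.centralizer ({a} : Set (Sz F m)) ≤ A) →
        Nat.card (Subgroup.centralizer ({z} : Set (Sz F m))) ≤ q ^ 2 := by
      rintro A ⟨-, c, hc⟩ hA hcent
      have hne : c⁻¹ * z * c ≠ 1 := fun e => hz (by
        calc z = c * (c⁻¹ * z * c) * c⁻¹ := by group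
          _ = 1 := by rw [e]; group)
      rw [show z = c * (c⁻¹ * z * c) * c⁻¹ by group, card_centralizer_conj_eq]
      exact (Nat.card_le_card_of_injective _
        (Subgroup.inclusion_injective (hcent _ hc hne))).trans hA
    have hk2 : k ≤ q ^ 2 ∧ k' ≤ q ^ 2 := by
      have : 2 * q ≤ q ^ 2 := by nlinarith
      omega
    rcases hcov z hz with h | h | h | h
    · exact key _ h (card_uGrp hF).le fun a ha ha1 => centralizer_uGrp_le hm1 hF ha ha1
    · exact key _ h (by rw [cH]; exact le_trans (Nat.sub_le _ _) (Nat.le_self_pow two_ne_zero q)) fun a ha ha1 => (hH a ha ha1).le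
    · exact key _ h (hU.card ▸ hk2.1) fun a ha ha1 => (hU' a ha ha1).le
    · exact key _ h (hV.card ▸ hk2.2) fun a ha ha1 => (hV' a ha ha1).le
  have hx1 : x ≠ 1 := fun e => by rw [e, orderOf_one] at hx2; omega
  have conj1 : ∀ {z c : Sz F m}, z ≠ 1 → c⁻¹ * z * c ≠ 1 := fun {z c} hz e => hz (by
    calc z = c * (c⁻¹ * z * c) * c⁻¹ := by group
      _ = 1 := by rw [e]; group)
  rcases hcov x hx1 with ⟨-, c, hc⟩ | ⟨-, c, hc⟩ | ⟨-, c, hc⟩ | ⟨-, c, hc⟩
  · -- order four
    refine Cover.of_conj_left (c := c⁻¹) ?_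
    rw [inv_inv]
    have hord : orderOf (c⁻¹ * x * c) = orderOf x := by
      rw [show c⁻¹ * x * c = MulAut.conj c⁻¹ x by simp, MulEquiv.orderOf_eq]
    obtain ⟨a, b, hab⟩ := (mem_uGrp hF).1 hc
    rw [← hord, ← hab] at hx2
    rw [← hab]
    have ha := ne_zero_of_two_lt_orderOf hF hx2
    have htor : ∀ (A : Subgroup (Sz F m)) [Fintype A] {e s D : ℕ} (E : ExceptionalData A e s),
        IsSelfCent A → 2 ≤ s → 0 < e → e ≤ 4 → s * e = Nat.card A - 1 →
        (∀ i, deg (E.θ i) = (D : ℤ)) → (2 * q) ^ 2 * Nat.card A ≤ D ^ 2 →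
        g ∈ conjSet A → Cover (tS hF a b) g := by
      rintro A _ e s D E hA hs2 he he4 hcard hD hND ⟨-, d, hd⟩
      refine Cover.of_conj_right (c := d⁻¹) ?_
      rw [inv_inv]
      refine cover_of_forall (card_centralizer_tS_le hm1 hF ha) fun χ hχ _ => ?_
      exact mul_norm_le_deg E hA hs2 he he4 hcard hd (conj1 hg1) hD hND
        (fun χ hχ => le_trans (Int.ofNat_le.2 (show 2 * q ≤ _ by omega)) (hdmin χ hχ)) χ hχ
    rcases hcov g hg1 with ⟨-, d, hd⟩ | h | h | h
    · refine Cover.of_conj_right (c := d⁻¹) ?_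
      rw [inv_inv]
      exact cover_uGrp hm1 hF ha hd (conj1 hg1)
    · refine htor _ EH hH (by omega) two_pos (by norm_num) (by rw [cH]; omega)
        (D := q ^ 2 + 1) (fun i => ?_) ?_ h
      · push_cast
        exact hDH i
      · rw [cH]
        have : 4 * q ^ 3 ≤ (q ^ 2 + 1) ^ 2 := by nlinarith
        have : (q - 1) ≤ q := Nat.sub_le _ _
        nlinarith
    · exact htor _ EU hU' (by omega) (by norm_num) le_rfl (by rw [hU.card]; omega) hDU
        (by rw [hU.card]; exact aU3) h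
    · exact htor _ EV hV' (by omega) (by norm_num) le_rfl (by rw [hV.card]; omega) hDV
        (by rw [hV.card]; exact aV3) h
  · -- the split torus
    refine Cover.of_conj_left (c := c⁻¹) ?_
    rw [inv_inv]
    refine cover_of_forall (N := q) (by rw [hH _ hc (conj1 hx1), cH]; omega) fun χ hχ h0 => ?_
    have hdeg : ((q ^ 2 : ℕ) : ℝ) ≤ (deg χ : ℝ) := by
      suffices ((q ^ 2 : ℕ) : ℤ) ≤ deg χ by exact_mod_cast this
      by_cases hm' : χ ∈ Set.range EH.θ
      · obtain ⟨i, rfl⟩ := hm'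
        rw [hDH i]; push_cast; linarith
      · have hv := cst_of_not EH hm' ⟨_, hc⟩ fun e => conj1 hx1 (congrArg Subtype.val e)
        have : χ = St := by
          by_contra hne
          refine h0 ?_
          rw [hv, hst.others χ hχ hne, Int.cast_zero]
        rw [this, hs.degSt]; push_cast; exact le_rfl
    refine le_trans ?_ hdeg
    push_cast
    rw [sq]
    refine mul_le_mul_of_nonneg_left ?_ (Nat.cast_nonneg q)
    refine le_of_pow_le_pow_left₀ two_ne_zero (Nat.cast_nonneg q) ?_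
    exact le_trans (norm_sq_le χ g) (by exact_mod_cast hC g hg1)
  · refine Cover.of_conj_left (c := c⁻¹) ?_
    rw [inv_inv]
    exact cover_of_anisotropic EU hU' (by omega) (by rw [hU.card]; exact hsU)
      (by rw [hU.card]; exact aU1) hC hDU hdmin aU2 (by omega) hc (conj1 hx1) hg1
  · refine Cover.of_conj_left (c := c⁻¹) ?_
    rw [inv_inv]
    exact cover_of_anisotropic EV hV' (by omega) (by rw [hV.card]; exact hsV)
      (by rw [hV.card]; exact aV1) hC hDV hdmin aV2 (by omega) hc (conj1 hx1) hg1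

end Cfsg.Agent.SZ
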