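import Cfsg.Agent.Lib.Sz.Centralizers
import Cfsg.Agent.Lib.Sz.SquareClass

/-!
# Suzuki groups: the square of a class of elements of order four inside a Sylow 2-subgroup
-/

set_option autoImplicit false

namespace Cfsg.Agent.SZ

open Cfsg Matrix

variable {F : Type*} [Field F] [Fintype F] {m : ℕ}

theorem th_mul_self_injective (hF : Fintype.card F = 2 ^ (2 * m + 1)) :
    Function.Injective fun a : F => th m a * a := by
  intro a b h
  have h' : th m a * a = th m b * b := h
  rcases eq_or_ne a 0 with rfl | ha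
  · rw [mul_zero, eq_comm, mul_eq_zero, th_eq_zero] at h'
    exact (h'.elim id id).symm
  have h2 : th m (th m a * a) = th m (th m b * b) := congrArg _ h'
  rw [th_mul, th_mul, th_th hF, th_th hF] at h2
  have h3 : th m a * a * a = th m b * b * a := by rw [h']
  have hta : th m a ≠ 0 := fun e => ha (th_eq_zero.1 e)
  have hb : b ≠ 0 := by
    rintro rfl
    rw [mul_zero] at h'
    exact mul_ne_zero hta ha h'
  have hz : th m b * b ≠ 0 := mul_ne_zero (fun e => hb (th_eq_zero.1 e)) hb
  refine mul_left_cancel₀ hz ?_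
  linear_combination h2 - a * h'

theorem exists_th_mul_self (hF : Fintype.card F = 2 ^ (2 * m + 1)) (b : F) :
    ∃ a : F, th m a * a = b :=
  Finite.surjective_of_injective (th_mul_self_injective hF) b

theorem exists_sq_div_th (hF : Fintype.card F = 2 ^ (2 * m + 1)) {a₀ a : F} (h₀ : a₀ ≠ 0)
    (ha : a ≠ 0) : ∃ u : Fˣ, (u : F) ^ 2 / th m (u : F) * a₀ = a := by
  have hinj : Function.Injective fun u : F => u ^ 2 / th m u := by
    intro u v h
    simp only at h
    rcases eq_or_ne u 0 with rfl | hu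
    · rw [zero_pow two_ne_zero, zero_div, eq_comm, div_eq_zero_iff, th_eq_zero] at h
      rcases h with h | h
      · exact ((pow_eq_zero_iff two_ne_zero).1 h).symm
      · exact h.symm
    have hv : v ≠ 0 := by
      rintro rfl
      rw [zero_pow two_ne_zero, zero_div, div_eq_zero_iff, th_eq_zero] at h
      exact hu (h.elim (pow_eq_zero_iff two_ne_zero).1 id)
    rw [div_eq_div_iff (fun e => hu (th_eq_zero.1 e)) (fun e => hv (th_eq_zero.1 e))] at h
    have hw : th m (v / u) = (v / u) ^ 2 := by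
      rw [th_div, div_pow, div_eq_div_iff (fun e => hu (th_eq_zero.1 e)) (pow_ne_zero 2 hu)]
      linear_combination h
    have := th_eq_sq hF hw (div_ne_zero hv hu)
    rw [div_eq_one_iff_eq hu] at this
    exact this.symm
  obtain ⟨u, hu⟩ := Finite.surjective_of_injective hinj (a / a₀)
  simp only at hu
  have hu0 : u ≠ 0 := by
    rintro rfl
    rw [zero_pow two_ne_zero, zero_div, eq_comm, div_eq_zero_iff] at hu
    exact hu.elim ha h₀
  exact ⟨Units.mk0 u hu0, by rw [Units.val_mk0, hu, div_mul_cancel₀ _ h₀]⟩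

theorem tS_conj_tS (hF : Fintype.card F = 2 ^ (2 * m + 1)) (c d a b : F) :
    tS hF c d * tS hF a b * (tS hF c d)⁻¹ = tS hF a (b + (th m c * a + th m a * c)) := by
  rw [mul_inv_eq_iff_eq_mul]
  apply Subtype.ext
  show T m c d * T m a b = T m a _ * T m c d
  rw [T_mul hF, T_mul hF]
  congr 1
  · ring
  · linear_combination -(th m a * c) * two_zero hF

/-- The subgroup `{θt + t}` has index two and no stabiliser in the multiplicative group. -/
theorem exists_add_eq (hm : 1 ≤ m) (hF : Fintype.card F = 2 ^ (2 * m + 1)) {γ : F} (h0 : γ ≠ 0)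
    (h1 : γ ≠ 1) (z : F) : ∃ s t : F, (th m s + s) + γ * (th m t + t) = z := by
  classical
  let g : F →+ F := AddMonoidHom.mk' (fun t => th m t + t) fun a b => by
    simp only [th_add hF]; ring
  let W := g.range
  let S := W ⊔ W.map (AddMonoidHom.mulLeft γ)
  by_cases hS : S = ⊤
  · obtain ⟨y, ⟨s, rfl⟩, w, hw, e⟩ := AddSubgroup.mem_sup.1 (hS ▸ AddSubgroup.mem_top z : z ∈ S)
    obtain ⟨w', ⟨t, rfl⟩, rfl⟩ := AddSubgroup.mem_map.1 hw
    exact ⟨s, t, e⟩
  exfalso
  have hker : (g.ker : Set F) = {0, 1} := by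
    ext t
    show th m t + t = 0 ↔ _
    rw [add_eq_zero_iff_eq_neg, neg_eq hF]
    constructor
    · intro h
      by_cases ht : t = 0
      · exact Or.inl ht
      · exact Or.inr (th_eq_self hF h ht)
    · rintro (rfl | rfl)
      · exact th_eq_zero.2 rfl
      · exact (th_eq_one hF).2 rfl
  have hk : Nat.card g.ker = 2 := by
    show Nat.card (g.ker : Set F) = 2
    rw [hker, Nat.card_coe_set_eq, Set.ncard_pair zero_ne_one]
  have hW : 2 * Nat.card W = Fintype.card F := by
    have h := g.ker.card_mul_index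
    rw [AddSubgroup.index_ker, hk, Nat.card_eq_fintype_card (α := F)] at h
    exact h
  have hle : W ≤ S := le_sup_left
  have hWS : W = S := by
    refine AddSubgroup.eq_of_le_of_card_ge hle ?_
    obtain ⟨j, hj⟩ := AddSubgroup.card_dvd_of_le hle
    have hlt : Nat.card S < Fintype.card F := by
      rw [← Nat.card_eq_fintype_card]
      refine lt_of_le_of_ne (Nat.card_le_card_of_injective _ Subtype.val_injective) fun e => hS ?_
      exact AddSubgroup.eq_top_of_card_eq _ e
    have hS0 : 0 < Nat.card S := Nat.card_pos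
    rw [← hW] at hlt
    rw [hj] at hlt hS0 ⊢
    have : j = 1 := by
      have h2 : j < 2 := Nat.lt_of_mul_lt_mul_left (a := Nat.card W) (by linarith)
      rcases Nat.eq_zero_or_pos j with rfl | hj0
      · simp at hS0
      · omega
    rw [this, mul_one]
  let s : Finset F := Finset.univ.filter fun w => w ∈ W ∧ w ≠ 0
  have himg : s.image (γ * ·) = s := by
    refine Finset.eq_of_subset_of_card_le ?_
      (Finset.card_image_of_injective _ (mul_right_injective₀ h0)).ge
    intro y hy
    obtain ⟨w, hw, rfl⟩ := Finset.mem_image.1 hy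
    simp only [s, Finset.mem_filter, Finset.mem_univ, true_and] at hw ⊢
    refine ⟨?_, mul_ne_zero h0 hw.2⟩
    rw [hWS]
    exact le_sup_right (a := W) (AddSubgroup.mem_map.2 ⟨w, hw.1, rfl⟩)
  have hcard : s.card + 1 = Nat.card W := by
    have e : insert 0 s = Finset.univ.filter fun w => w ∈ W := by
      ext w
      simp only [s, Finset.mem_insert, Finset.mem_filter, Finset.mem_univ, true_and]
      constructor
      · rintro (rfl | h)
        · exact W.zero_mem
        · exact h.1
      · exact fun h => (eq_or_ne w 0).imp id fun h' => ⟨h, h'⟩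
    rw [Nat.card_eq_fintype_card, Fintype.card_subtype, ← e,
      Finset.card_insert_of_notMem (by simp [s])]
  have hprod : γ ^ s.card = 1 := by
    have h := congrArg (fun t : Finset F => ∏ w ∈ t, w) himg
    rw [Finset.prod_image fun a _ b _ h => mul_right_injective₀ h0 h, Finset.prod_mul_distrib,
      Finset.prod_const] at h
    refine mul_right_cancel₀ (Finset.prod_ne_zero_iff.2 fun w hw => ?_) (h.trans (one_mul _).symm)
    exact (Finset.mem_filter.1 hw).2.2
  have hpow := FiniteField.pow_card_sub_one_eq_one γ h0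
  rw [show Fintype.card F - 1 = 2 * s.card + 1 by omega, pow_succ, pow_mul', hprod, one_pow,
    one_mul] at hpow
  exact h1 hpow

theorem exists_conj_fst (hF : Fintype.card F = 2 ^ (2 * m + 1)) {a₀ b₀ a : F} (h₀ : a₀ ≠ 0)
    (ha : a ≠ 0) : ∃ B : F, ∀ t : F, ∃ u : Sz F m,
      u * tS hF a₀ b₀ * u⁻¹ = tS hF a (B + th m a * a * (th m t + t)) := by
  obtain ⟨v, hv⟩ := exists_sq_div_th hF h₀ ha
  refine ⟨th m (v : F) * b₀, fun t => ⟨tS hF (a * t) 0 * hS hF v, ?_⟩⟩
  calc tS hF (a * t) 0 * hS hF v * tS hF a₀ b₀ * (tS hF (a * t) 0 * hS hF v)⁻¹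
      = tS hF (a * t) 0 * (hS hF v * tS hF a₀ b₀ * (hS hF v)⁻¹) * (tS hF (a * t) 0)⁻¹ := by group
    _ = _ := by
      rw [hS_conj_tS, hv, tS_conj_tS]
      congr 1
      rw [th_mul]
      ring

/-- An element of order four in `U` covers `U`. -/
theorem cover_uGrp (hm : 1 ≤ m) (hF : Fintype.card F = 2 ^ (2 * m + 1)) {a₀ b₀ : F} (h₀ : a₀ ≠ 0)
    {g : Sz F m} (hg : g ∈ uGrp hF) (hg1 : g ≠ 1) : Cover (tS hF a₀ b₀) g := by
  classical
  obtain ⟨a', b', rfl⟩ := (mem_uGrp hF).1 hg
  rcases eq_or_ne a' 0 with rfl | ha'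
  · have hb : b' ≠ 0 := fun e => hg1 (by rw [e]; exact Subtype.ext T_zero)
    obtain ⟨a, ha⟩ := exists_th_mul_self hF b'
    have ha0 : a ≠ 0 := by
      rintro rfl
      rw [mul_zero] at ha
      exact hb ha.symm
    obtain ⟨B, hB⟩ := exists_conj_fst hF (b₀ := b₀) h₀ ha0
    obtain ⟨u, hu⟩ := hB 0
    exact ⟨u, u, by rw [hu, tS_sq, ha]⟩
  obtain ⟨a, -, han⟩ := Finset.exists_mem_notMem_of_card_lt_card
    (s := ({0, a'} : Finset F)) (t := Finset.univ) (by
      rw [Finset.card_univ, hF]
      refine lt_of_le_of_lt Finset.card_le_two (lt_of_lt_of_le (b := 2 ^ 3) (by norm_num) ?_)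
      exact Nat.pow_le_pow_right (by norm_num) (by omega))
  simp only [Finset.mem_insert, Finset.mem_singleton, not_or] at han
  obtain ⟨ha0, hane⟩ := han
  have hc0 : a + a' ≠ 0 := fun e => hane (by rwa [add_eq_zero_iff_eq_neg, neg_eq hF] at e)
  obtain ⟨B₁, h₁⟩ := exists_conj_fst hF (b₀ := b₀) h₀ ha0
  obtain ⟨B₂, h₂⟩ := exists_conj_fst hF (b₀ := b₀) h₀ hc0
  set α := th m a * a
  set β := th m (a + a') * (a + a')
  have hα : α ≠ 0 := mul_ne_zero (fun e => ha0 (th_eq_zero.1 e)) ha0
  have hβ : β ≠ 0 := mul_ne_zero (fun e => hc0 (th_eq_zero.1 e)) hc0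
  have hne : α / β ≠ 1 := fun e => ha' (by
    have e' := th_mul_self_injective hF ((div_eq_one_iff_eq hβ).1 e)
    linear_combination -e')
  obtain ⟨s, t, hst⟩ := exists_add_eq hm hF (div_ne_zero hα hβ) hne
    ((b' + B₁ + B₂ + th m a * (a + a')) / β)
  obtain ⟨u, hu⟩ := h₁ t
  obtain ⟨v, hv⟩ := h₂ s
  refine ⟨u, v, ?_⟩
  rw [hu, hv]
  apply Subtype.ext
  show T m a' b' = T m a _ * T m (a + a') _
  rw [T_mul hF]
  field_simp at hst
  congr 1
  · linear_combination -a * two_zero hF
  · linear_combination -hst - (B₁ + B₂ + th m a * (a + a')) * two_zero hF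

theorem ne_zero_of_two_lt_orderOf (hF : Fintype.card F = 2 ^ (2 * m + 1)) {a b : F}
    (h : 2 < orderOf (tS hF a b)) : a ≠ 0 := by
  rintro rfl
  have := orderOf_le_of_pow_eq_one (x := tS hF (0 : F) b) two_pos (by
    rw [sq, tS_sq, mul_zero]; exact Subtype.ext T_zero)
  omega

theorem card_centralizer_tS_le (hm : 1 ≤ m) (hF : Fintype.card F = 2 ^ (2 * m + 1)) {a b : F}
    (ha : a ≠ 0) :
    Nat.card (Subgroup.centralizer ({tS hF a b} : Set (Sz F m))) ≤ 2 * Fintype.card F := by
  classical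
  have hg1 : tS hF a b ≠ 1 := fun e =>
    ha (T_inj ((congrArg Subtype.val e).trans (T_zero (m := m)).symm)).1
  have hg : tS hF a b ∈ uGrp hF := (mem_uGrp hF).2 ⟨a, b, rfl⟩
  have hsub : (Subgroup.centralizer ({tS hF a b} : Set (Sz F m)) : Set (Sz F m)) ⊆
      ↑((({0, a} : Finset F) ×ˢ (Finset.univ : Finset F)).image fun p => tS hF p.1 p.2) := by
    intro g hgc
    obtain ⟨c, d, rfl⟩ := (mem_uGrp hF).1 (centralizer_uGrp_le hm hF hg hg1 hgc)
    rw [SetLike.mem_coe, Subgroup.mem_centralizer_singleton_iff] at hgc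
    have h := (tS_comm_iff hF c d a b).1 hgc
    simp only [Finset.coe_image, Set.mem_image, Finset.mem_coe, Finset.mem_product,
      Finset.mem_insert, Finset.mem_singleton, Finset.mem_univ, and_true]
    refine ⟨(c, d), ?_, rfl⟩
    rcases eq_or_ne c 0 with hc | hc
    · exact Or.inl hc
    refine Or.inr ?_
    have h2 : th m (c / a) = c / a := by
      rw [th_div, div_eq_div_iff (fun e => ha (th_eq_zero.1 e)) ha, h]
      ring
    exact (div_eq_one_iff_eq ha).1 (th_eq_self hF h2 (div_ne_zero hc ha))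
  have := Set.ncard_le_ncard hsub (Finset.finite_toSet _)
  rw [Set.ncard_coe_finset, ← Nat.card_coe_set_eq] at this
  refine le_trans this (le_trans Finset.card_image_le ?_)
  rw [Finset.card_product, Finset.card_univ]
  exact Nat.mul_le_mul_right _ Finset.card_le_two

end Cfsg.Agent.SZ
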