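import Cfsg.Agent.Lib.OddOrder.SelfCentralizing
import Cfsg.Agent.Lib.Char.KernelSum
import Cfsg.Agent.Lib.Char.PRegular

/-!
# Column relations for exceptional characters

For a subgroup `A` equal to the centraliser of each non-trivial element: integer values of the
non-exceptional characters on `A`, with the orthogonality relations and the congruences.
-/

set_option autoImplicit false
set_option linter.unusedSectionVars false

namespace Cfsg.Agent.SZ

open scoped ComplexConjugate
open Cfsg Cfsg.Agent.Char Cfsg.Agent.OddOrder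

variable {G : Type*} [Group G] [Fintype G]

/-- The degree as an integer. -/
noncomputable def deg (χ : IrrCharacter G) : ℤ := (degree χ : ℤ)

theorem deg_cast (χ : IrrCharacter G) : (deg χ : ℂ) = χ.1 1 := by
  rw [deg, Int.cast_natCast, apply_one_eq_degree]

theorem deg_pos (χ : IrrCharacter G) : 0 < deg χ := by
  unfold deg; exact_mod_cast degree_pos χ

theorem sum_deg_sq : ∑ χ : IrrCharacter G, deg χ ^ 2 = (Nat.card G : ℤ) := by
  have h := sum_degree_sq (G := G)
  simp only [deg]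
  exact_mod_cast h

/-- The common degree congruence: `∑_{x ∈ A} χ x` is a multiple of `|A|`. -/
theorem exists_sum_eq (A : Subgroup G) [Fintype A] (χ : IrrCharacter G) :
    ∃ m : ℕ, ∑ x : A, χ.1 (x : G) = (Nat.card A : ℂ) * m := by
  obtain ⟨k, hk⟩ := IsCharacter.exists_nat_classInner
    (IsCharacter.restrict (irr_isCharacter χ) A) (irr_isCharacter (trivialChar A))
  refine ⟨k, ?_⟩
  rw [← hk, classInner, ← mul_assoc, mul_inv_cancel₀ (Nat.cast_ne_zero.2 Nat.card_pos.ne'), one_mul]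
  exact Finset.sum_congr rfl fun x _ => by
    rw [show (trivialChar A).1 x = 1 from rfl, map_one, mul_one]

theorem dvd_deg_sub (A : Subgroup G) [Fintype A] (χ : IrrCharacter G) {z : ℤ}
    (hz : ∀ x : A, x ≠ 1 → χ.1 (x : G) = z) : (Nat.card A : ℤ) ∣ deg χ - z := by
  classical
  obtain ⟨m, hm⟩ := exists_sum_eq A χ
  rw [← Finset.add_sum_erase _ _ (Finset.mem_univ (1 : A)),
    Finset.sum_congr rfl fun x hx => hz x (Finset.ne_of_mem_erase hx), Finset.sum_const,
    Finset.card_erase_of_mem (Finset.mem_univ _), Finset.card_univ, ← Nat.card_eq_fintype_card,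
    nsmul_eq_mul, Nat.cast_sub Nat.card_pos, Subgroup.coe_one, ← deg_cast, Nat.cast_one] at hm
  refine ⟨m - z, ?_⟩
  have h2 : ((deg χ - z : ℤ) : ℂ) = (((Nat.card A : ℤ) * (m - z) : ℤ) : ℂ) := by
    push_cast
    linear_combination hm
  exact_mod_cast h2

variable {A : Subgroup G} {e s : ℕ} (E : ExceptionalData A e s)

open scoped Classical in
/-- The value on `A ∖ 1` of a non-exceptional character (`0` on the exceptional ones). -/
noncomputable def cst (χ : IrrCharacter G) : ℤ :=
  if h : χ ∉ Set.range E.θ then (E.const χ h).choose else 0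

theorem cst_of_not {χ : IrrCharacter G} (h : χ ∉ Set.range E.θ) (x : A) (hx : x ≠ 1) :
    χ.1 (x : G) = cst E χ := by
  rw [cst, dif_pos h]
  exact (E.const χ h).choose_spec x hx

theorem cst_theta (i : Fin s) : cst E (E.θ i) = 0 := by
  rw [cst, dif_neg (not_not.2 ⟨i, rfl⟩)]

theorem dvd_deg_sub_cst [Fintype A] {χ : IrrCharacter G} (h : χ ∉ Set.range E.θ) :
    (Nat.card A : ℤ) ∣ deg χ - cst E χ :=
  dvd_deg_sub A χ (cst_of_not E h)

/-- The congruence for the exceptional characters. -/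
theorem dvd_deg_theta [Fintype A] (i : Fin s) :
    (Nat.card A : ℤ) ∣ deg (E.θ i) - E.δ - E.ε * e := by
  classical
  obtain ⟨m, hm⟩ := exists_sum_eq A (E.θ i)
  have hP := E.sum_P_row i (Finset.univ.erase (1 : A)) (fun x => by simp)
  rw [← Finset.add_sum_erase _ _ (Finset.mem_univ (1 : A)),
    Finset.sum_congr rfl fun x hx => E.value i x (Finset.ne_of_mem_erase hx),
    Finset.sum_add_distrib, ← Finset.mul_sum, hP, Finset.sum_const,
    Finset.card_erase_of_mem (Finset.mem_univ _), Finset.card_univ, ← Nat.card_eq_fintype_card,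
    nsmul_eq_mul, Nat.cast_sub Nat.card_pos, Subgroup.coe_one, ← deg_cast, Nat.cast_one] at hm
  refine ⟨m - E.δ, ?_⟩
  have h2 : ((deg (E.θ i) - E.δ - E.ε * e : ℤ) : ℂ) =
      (((Nat.card A : ℤ) * (m - E.δ) : ℤ) : ℂ) := by
    push_cast
    linear_combination hm
  exact_mod_cast h2

theorem deg_theta_eq (i j : Fin s) : deg (E.θ i) = deg (E.θ j) := by
  have h := E.off_one i j
  rw [← deg_cast, ← deg_cast] at h
  exact_mod_cast h

/-- The trivial character is not exceptional. -/
theorem trivial_not_mem [Fintype A] (hs : 2 ≤ s) (he : 0 < e) (hcard : s * e = Nat.card A - 1) :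
    trivialChar G ∉ Set.range E.θ := by
  classical
  rintro ⟨i, hi⟩
  set k := Nat.card A with hk
  have hk1 : 1 ≤ k := Nat.card_pos
  -- `P i` is constant on `A ∖ 1`
  set t := Finset.univ.erase (1 : A) with ht
  have htc : (t.card : ℂ) = (k : ℂ) - 1 := by
    rw [ht, Finset.card_erase_of_mem (Finset.mem_univ _), Finset.card_univ,
      ← Nat.card_eq_fintype_card, Nat.cast_sub hk1, Nat.cast_one]
  set c : ℤ := E.ε * (1 - E.δ) with hc
  have hP : ∀ x ∈ t, E.P i x = (c : ℂ) := by
    intro x hx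
    have h1 := E.value i x (Finset.ne_of_mem_erase hx)
    rw [hi, show (trivialChar G).1 (x : G) = 1 from rfl] at h1
    have he2 : (E.ε : ℂ) * E.ε = 1 := by rcases E.ε_eq with h | h <;> simp [h]
    rw [hc]; push_cast
    linear_combination (-(E.ε : ℂ)) * h1 - E.P i x * he2
  have h1 := E.sum_P_row i t (fun x => by simp [ht])
  have h2 := E.sum_sq_row i t (fun x => by simp [ht])
  rw [Finset.sum_congr rfl hP, Finset.sum_const, nsmul_eq_mul, htc] at h1
  rw [Finset.sum_congr rfl fun x hx => by rw [hP x hx, map_intCast], Finset.sum_const, nsmul_eq_mul,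
    htc] at h2
  have e1 : ((k : ℤ) - 1) * c = -(e : ℤ) := by exact_mod_cast h1
  have e2 : ((k : ℤ) - 1) * (c * c) = (k : ℤ) * e - e * e := by exact_mod_cast h2
  have e3 : ((k : ℤ) - 1) = s * e := by omega
  have e4 : (e : ℤ) * (s * c + 1) = 0 := by linear_combination e1 - c * e3
  have e5 : (s : ℤ) * c = -1 := by
    rcases mul_eq_zero.1 e4 with h | h
    · exact absurd h (by omega)
    · omega
  have e6 : (s : ℤ) ∣ 1 := ⟨-c, by linarith⟩
  have e7 := Int.le_of_dvd one_pos e6
  omega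

theorem cst_trivial [Fintype A] (hs : 2 ≤ s) (he : 0 < e) (hcard : s * e = Nat.card A - 1)
    {a : A} (ha : a ≠ 1) : cst E (trivialChar G) = 1 := by
  have h := cst_of_not E (trivial_not_mem E hs he hcard) a ha
  rw [show (trivialChar G).1 (a : G) = 1 from rfl] at h
  exact_mod_cast h.symm

/-- The column norm relation. -/
theorem sum_cst_sq (hA : IsSelfCent A) {a : A} (ha : a ≠ 1) :
    ∑ χ : IrrCharacter G, cst E χ ^ 2 = (e : ℤ) - ((s : ℤ) * E.δ ^ 2 - 2 * E.ε * E.δ) := by
  classical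
  have h := sum_irr_mul_conj (a : G) (a : G)
  rw [if_pos (IsConj.refl _), hA (a : G) a.2 (fun h => ha (Subtype.ext h))] at h
  have hsplit := fun (f : IrrCharacter G → ℂ) =>
    (Finset.sum_add_sum_compl (Finset.univ.image E.θ) f).symm
  rw [hsplit, Finset.sum_image fun i _ j _ h => E.inj h] at h
  have hnc : ∀ χ ∈ (Finset.univ.image E.θ)ᶜ, χ ∉ Set.range E.θ := fun χ hχ ⟨i, hi⟩ =>
    (Finset.mem_compl.1 hχ) (Finset.mem_image.2 ⟨i, Finset.mem_univ _, hi⟩)
  have hc1 : ∑ χ ∈ (Finset.univ.image E.θ)ᶜ, χ.1 (a : G) * conj (χ.1 (a : G)) =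
      ∑ χ ∈ (Finset.univ.image E.θ)ᶜ, (cst E χ : ℂ) * cst E χ :=
    Finset.sum_congr rfl fun χ hχ => by rw [cst_of_not E (hnc χ hχ) a ha, map_intCast]
  have hc2 : ∑ i, (E.θ i).1 (a : G) * conj ((E.θ i).1 (a : G)) =
      ∑ i, ((E.δ : ℂ) + E.ε * E.P i a) * conj ((E.δ : ℂ) + E.ε * E.P i a) :=
    Finset.sum_congr rfl fun i _ => by rw [E.value i a ha]
  rw [hc1, hc2] at h
  have he2 : (E.ε : ℂ) * E.ε = 1 := by rcases E.ε_eq with h | h <;> simp [h]
  have hconjP : ∑ i, conj (E.P i a) = -1 := by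
    rw [← map_sum, E.sum_P a ha, map_neg, map_one]
  have hexc : ∑ i, ((E.δ : ℂ) + E.ε * E.P i a) * conj ((E.δ : ℂ) + E.ε * E.P i a) =
      (s : ℂ) * (E.δ : ℂ) ^ 2 - 2 * E.ε * E.δ + ((Nat.card A : ℂ) - e) := by
    rw [Finset.sum_congr rfl (g := fun i => (E.δ : ℂ) ^ 2 + (E.ε * E.δ * E.P i a +
        E.ε * E.δ * conj (E.P i a)) + E.P i a * conj (E.P i a)) fun i _ => ?_]
    · rw [Finset.sum_add_distrib, Finset.sum_add_distrib, Finset.sum_add_distrib, Finset.sum_const,
        Finset.card_univ, Fintype.card_fin, nsmul_eq_mul, ← Finset.mul_sum, ← Finset.mul_sum,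
        hconjP, E.sum_P a ha, E.sum_sq_col a ha]
      ring
    · simp only [map_add, map_mul, map_intCast]
      linear_combination (E.P i a * conj (E.P i a)) * he2
  rw [hexc] at h
  have hall : ∑ χ : IrrCharacter G, ((cst E χ : ℂ)) ^ 2 =
      ∑ χ ∈ (Finset.univ.image E.θ)ᶜ, (cst E χ : ℂ) * cst E χ := by
    rw [hsplit, Finset.sum_image fun i _ j _ h => E.inj h]
    simp [cst_theta, sq]
  have h2 : ((∑ χ : IrrCharacter G, cst E χ ^ 2 : ℤ) : ℂ) =
      (((e : ℤ) - ((s : ℤ) * E.δ ^ 2 - 2 * E.ε * E.δ) : ℤ) : ℂ) := by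
    push_cast
    rw [hall]
    linear_combination h
  exact_mod_cast h2

/-- The relation with the identity column. -/
theorem sum_deg_cst {a : A} (ha : a ≠ 1) (i₀ : Fin s) :
    ∑ χ : IrrCharacter G, deg χ * cst E χ + deg (E.θ i₀) * ((s : ℤ) * E.δ - E.ε) = 0 := by
  classical
  have h := sum_irr_degree_mul (a : G)
  rw [if_neg (show (a : G) ≠ 1 from fun e => ha (Subtype.ext e))] at h
  have hsplit := fun (f : IrrCharacter G → ℂ) =>
    (Finset.sum_add_sum_compl (Finset.univ.image E.θ) f).symm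
  rw [hsplit, Finset.sum_image fun i _ j _ h => E.inj h] at h
  have hnc : ∀ χ ∈ (Finset.univ.image E.θ)ᶜ, χ ∉ Set.range E.θ := fun χ hχ ⟨i, hi⟩ =>
    (Finset.mem_compl.1 hχ) (Finset.mem_image.2 ⟨i, Finset.mem_univ _, hi⟩)
  have hc1 : ∑ χ ∈ (Finset.univ.image E.θ)ᶜ, χ.1 1 * χ.1 (a : G) =
      ∑ χ ∈ (Finset.univ.image E.θ)ᶜ, (deg χ : ℂ) * cst E χ :=
    Finset.sum_congr rfl fun χ hχ => by rw [cst_of_not E (hnc χ hχ) a ha, ← deg_cast]
  have hc2 : ∑ i, (E.θ i).1 1 * (E.θ i).1 (a : G) =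
      ∑ i, (deg (E.θ i₀) : ℂ) * ((E.δ : ℂ) + E.ε * E.P i a) :=
    Finset.sum_congr rfl fun i _ => by rw [E.value i a ha, ← deg_cast, deg_theta_eq E i i₀]
  rw [hc1, hc2,
    ← Finset.mul_sum, Finset.sum_add_distrib, ← Finset.mul_sum, E.sum_P a ha, Finset.sum_const,
    Finset.card_univ, Fintype.card_fin, nsmul_eq_mul] at h
  have hall : ∑ χ : IrrCharacter G, (deg χ : ℂ) * cst E χ =
      ∑ χ ∈ (Finset.univ.image E.θ)ᶜ, (deg χ : ℂ) * cst E χ := by
    rw [hsplit, Finset.sum_image fun i _ j _ h => E.inj h]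
    simp [cst_theta]
  have h2 : ((∑ χ : IrrCharacter G, deg χ * cst E χ + deg (E.θ i₀) * ((s : ℤ) * E.δ - E.ε) : ℤ) : ℂ) =
      ((0 : ℤ) : ℂ) := by
    push_cast
    rw [hall]
    linear_combination h
  exact_mod_cast h2

/-- No conjugate of a non-trivial element of `B` lies in `A`. -/
def Apart (A B : Subgroup G) : Prop :=
  ∀ b ∈ B, b ≠ 1 → ∀ c : G, c⁻¹ * b * c ∉ A

theorem apart_of_coprime {A B : Subgroup G} (h : (Nat.card A).Coprime (Nat.card B)) :
    Apart A B := by
  intro b hb hb1 c hc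
  refine hb1 (orderOf_eq_one_iff.1 (Nat.eq_one_of_dvd_coprimes h ?_ ?_))
  · have e : c⁻¹ * b * c = MulAut.conj c⁻¹ b := by simp
    rw [← (MulAut.conj c⁻¹).orderOf_eq b, ← e,
      ← Subgroup.orderOf_mk (H := A) (c⁻¹ * b * c) hc]
    exact orderOf_dvd_natCard _
  · rw [← Subgroup.orderOf_mk (H := B) b hb]
    exact orderOf_dvd_natCard _

/-- The exceptional characters of two apart subgroups are distinct. -/
theorem theta_ne {B : Subgroup G} {e' s' : ℕ} (E' : ExceptionalData B e' s') (hAB : Apart A B)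
    (hs : 2 ≤ s) (hs' : 2 ≤ s') (i : Fin s) (j : Fin s') : E.θ i ≠ E'.θ j := by
  classical
  intro heq
  haveI := Fin.nontrivial_iff_two_le.2 hs
  haveI := Fin.nontrivial_iff_two_le.2 hs'
  obtain ⟨i', hi'⟩ := exists_ne i
  obtain ⟨j', hj'⟩ := exists_ne j
  have hzero : classInner ((E.θ i).1 - (E.θ i').1) ((E'.θ j).1 - (E'.θ j').1) = 0 := by
    simp only [classInner]
    rw [Finset.sum_eq_zero, mul_zero]
    intro g _
    rcases eq_or_ne g 1 with rfl | hg
    · simp [Pi.sub_apply, E.off_one i i']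
    by_cases hgA : ∃ c : G, c⁻¹ * g * c ∈ A
    · rw [show ((E'.θ j).1 - (E'.θ j').1) g = 0 from sub_eq_zero.2 (E'.off j j' g fun d hd => ?_),
        map_zero, mul_zero]
      obtain ⟨c, hc⟩ := hgA
      refine hAB _ hd (fun h => hg ?_) (d⁻¹ * c) ?_
      · calc g = d * (d⁻¹ * g * d) * d⁻¹ := by group
          _ = 1 := by rw [h]; group
      · convert hc using 1; group
    · push Not at hgA
      rw [show ((E.θ i).1 - (E.θ i').1) g = 0 from sub_eq_zero.2 (E.off i i' g hgA), zero_mul]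
  rw [classInner_sub_left, classInner_sub_right, classInner_sub_right, classInner_irr,
    classInner_irr, classInner_irr, classInner_irr, if_pos heq,
    if_neg (fun h => hj' (E'.inj (h.symm.trans heq))),
    if_neg (fun h => hi' (E.inj (h.trans heq.symm)))] at hzero
  split_ifs at hzero <;> norm_num at hzero

/-- The exceptional characters of `A` take one value on an apart subgroup. -/
theorem cst_theta_eq {B : Subgroup G} {e' s' : ℕ} (E' : ExceptionalData B e' s') (hAB : Apart A B)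
    (hs : 2 ≤ s) (hs' : 2 ≤ s') {b : B} (hb : b ≠ 1) (i j : Fin s) :
    cst E' (E.θ i) = cst E' (E.θ j) := by
  have hi := cst_of_not E' (χ := E.θ i) (fun ⟨l, hl⟩ => theta_ne E E' hAB hs hs' i l hl.symm) b hb
  have hj := cst_of_not E' (χ := E.θ j) (fun ⟨l, hl⟩ => theta_ne E E' hAB hs hs' j l hl.symm) b hb
  have h := E.off i j (b : G) (hAB b b.2 fun h => hb (Subtype.ext h))
  rw [hi, hj] at h
  exact_mod_cast h

/-- The norm relation bounds any set of values. -/
theorem sum_cst_sq_le (hA : IsSelfCent A) {a : A} (ha : a ≠ 1) (S : Finset (IrrCharacter G)) :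
    ∑ χ ∈ S, cst E χ ^ 2 ≤ (e : ℤ) - ((s : ℤ) * E.δ ^ 2 - 2 * E.ε * E.δ) := by
  rw [← sum_cst_sq E hA ha]
  exact Finset.sum_le_univ_sum_of_nonneg fun χ => sq_nonneg _

omit E in
/-- A prime order subgroup with transitive normaliser: every character is constant and integral. -/
theorem exists_cst_of_transitive (hA : IsSelfCent A) (hN : Nat.card (Subgroup.normalizer (A : Set G)) =
    Nat.card A * (Nat.card A - 1)) {a : A} (ha : a ≠ 1) :
    ∃ z : IrrCharacter G → ℤ, (∀ χ, ∀ x : A, x ≠ 1 → χ.1 (x : G) = z χ) ∧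
      ∑ χ : IrrCharacter G, z χ ^ 2 = (Nat.card A : ℤ) := by
  classical
  haveI : Fintype A := Fintype.ofFinite A
  have hk : 1 < Nat.card A := Finite.one_lt_card_iff_nontrivial.2 ⟨⟨a, 1, ha⟩⟩
  set N := Subgroup.normalizer (A : Set G) with hNdef
  have htr : ∀ x : A, x ≠ 1 → ∃ n : N, normConj A n a = x := by
    by_contra! hcon
    obtain ⟨x₀, hx₀, hno⟩ := hcon
    have hfib : ∀ y : A, Nat.card {n : N // normConj A n a = y} ≤ Nat.card A := by
      intro y
      rcases isEmpty_or_nonempty {n : N // normConj A n a = y} with h | ⟨⟨n₀, hn₀⟩⟩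
      · rw [Nat.card_of_isEmpty]; exact Nat.zero_le _
      refine Nat.card_le_card_of_injective (fun n => (⟨((n₀⁻¹ * n.1 : N) : G), ?_⟩ : A))
        fun u v huv => Subtype.ext (mul_left_cancel (a := n₀⁻¹)
          (Subtype.ext (congrArg (fun w : A => (w : G)) huv)))
      refine (hA (a : G) a.2 fun h => ha (Subtype.ext h)).le ?_
      rw [Subgroup.mem_centralizer_singleton_iff]
      have h1 : normConj A (n₀⁻¹ * n.1) a = a := by
        rw [normConj_mul, n.2, ← hn₀, ← normConj_mul, inv_mul_cancel, normConj_one]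
      exact mul_inv_eq_iff_eq_mul.1 (congrArg Subtype.val h1)
    haveI : Fintype N := Fintype.ofFinite N
    have hsum : Nat.card N = ∑ y : A, Nat.card {n : N // normConj A n a = y} := by
      rw [← Nat.card_congr (Equiv.sigmaFiberEquiv (fun n : N => normConj A n a)), Nat.card_sigma]
    have h0 : ∀ y ∈ ({1, x₀} : Finset A), Nat.card {n : N // normConj A n a = y} = 0 := by
      intro y hy
      haveI : IsEmpty {n : N // normConj A n a = y} := ⟨fun n => by
        rcases Finset.mem_insert.1 hy with rfl | hy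
        · exact ha ((normConj A n.1).injective (n.2.trans (map_one _).symm))
        · rw [Finset.mem_singleton] at hy; subst hy; exact hno n.1 n.2⟩
      exact Nat.card_of_isEmpty
    rw [hN, ← Finset.sum_compl_add_sum ({1, x₀} : Finset A), Finset.sum_eq_zero h0, add_zero] at hsum
    have hle := Finset.sum_le_card_nsmul ({1, x₀} : Finset A)ᶜ _ _ fun y _ => hfib y
    rw [← hsum, Finset.card_compl, Finset.card_pair (Ne.symm hx₀), ← Nat.card_eq_fintype_card,
      smul_eq_mul, mul_comm] at hle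
    have := Nat.le_of_mul_le_mul_right hle (by omega)
    omega
  have hconst : ∀ χ : IrrCharacter G, ∀ x : A, x ≠ 1 → χ.1 (x : G) = χ.1 (a : G) := by
    intro χ x hx
    obtain ⟨n, rfl⟩ := htr x hx
    exact IsCharacter.isClassFunction (irr_isCharacter χ) (a : G) (n : G)
  have hint : ∀ χ : IrrCharacter G, ∃ z : ℤ, χ.1 (a : G) = z := by
    intro χ
    obtain ⟨m, hm⟩ := exists_sum_eq A χ
    rw [← Finset.add_sum_erase _ _ (Finset.mem_univ (1 : A)),
      Finset.sum_congr rfl fun x hx => hconst χ x (Finset.ne_of_mem_erase hx), Finset.sum_const,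
      Finset.card_erase_of_mem (Finset.mem_univ _), Finset.card_univ, ← Nat.card_eq_fintype_card,
      nsmul_eq_mul, Subgroup.coe_one, ← deg_cast] at hm
    have hmul : (((Nat.card A - 1 : ℕ) : ℤ) : ℂ) * χ.1 (a : G) =
        (((Nat.card A : ℤ) * m - deg χ : ℤ) : ℂ) := by
      push_cast
      linear_combination hm
    obtain ⟨z, hz⟩ := exists_int_of_isIntegral_mul (CharInt.isIntegral_char (irr_isCharacter χ) _)
      (Int.natCast_ne_zero.2 (by omega)) hmul
    exact ⟨z, hz⟩
  choose z hz using hint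
  refine ⟨z, fun χ x hx => (hconst χ x hx).trans (hz χ), ?_⟩
  have h := sum_irr_mul_conj (a : G) (a : G)
  rw [if_pos (IsConj.refl _), hA (a : G) a.2 (fun h => ha (Subtype.ext h))] at h
  have h2 : ((∑ χ : IrrCharacter G, z χ ^ 2 : ℤ) : ℂ) = (((Nat.card A : ℕ) : ℤ) : ℂ) := by
    push_cast
    rw [← h]
    exact Finset.sum_congr rfl fun χ _ => by rw [hz, map_intCast, sq]
  exact_mod_cast h2

end Cfsg.Agent.SZ
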